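import Cfsg.Prelude.Def_Spor_Conway
import Cfsg.Agent.Helper26.Co2D16
import Cfsg.Agent.Helper26.Co2D8a
import Cfsg.Agent.Helper26.Co2D8b
import Cfsg.Agent.Helper26.Co2D8c
import Cfsg.Agent.Helper26.Co2D8d

/-!
# The stabiliser of `(4, 4, 0^22)` is transitive on the minimal vectors with inner product
`-16` (resp. `-8`) with it
-/

set_option autoImplicit false

namespace Cfsg.Agent.Helper26

open Cfsg

theorem pk_leechU : pk (Spor.leechU : GolayPt → ℤ) = pvU := by decide +kernel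

theorem sqNorm_leechU32 : sqNorm (Spor.leechU : GolayPt → ℤ) = 32 := by decide +kernel

theorem dot_leechU (w : GolayPt → ℤ) :
    dotInt (Spor.leechU : GolayPt → ℤ) w = 4 * w none + 4 * w (some 0) := by
  show ∑ p, Spor.vecU p * w p = _
  rw [Fintype.sum_option]
  have h : ∀ a : ZMod 23, Spor.vecU (some a) * w (some a) = if a = 0 then 4 * w (some 0) else 0 := by
    intro a
    unfold Spor.vecU
    by_cases h : a = 0
    · simp [h]
    · simp [h]
  simp only [h, Finset.sum_ite_eq', Finset.mem_univ, if_true]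
  simp [Spor.vecU]

theorem nib_sum_leechU (w : leechLattice) (hn : sqNorm (w : GolayPt → ℤ) = 32) :
    ((nib (pk (w : GolayPt → ℤ)) 0 + nib (pk (w : GolayPt → ℤ)) 23 : ℕ) : ℤ) =
      (w : GolayPt → ℤ) none + (w : GolayPt → ℤ) (some 0) + 16 := by
  have hS : Short (w : GolayPt → ℤ) := short_of_sqNorm (by rw [hn]; norm_num)
  have h0 : nib (pk (w : GolayPt → ℤ)) 0 = nibOf (w : GolayPt → ℤ) (pt 0) :=
    nib_pk' hS 0 (by norm_num)
  have h23 : nib (pk (w : GolayPt → ℤ)) 23 = nibOf (w : GolayPt → ℤ) (pt 23) :=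
    nib_pk' hS 23 (by norm_num)
  have c0 := nibOf_cast hS (pt 0)
  have c23 := nibOf_cast hS (pt 23)
  have e0 : pt 0 = some 0 := by decide
  have e23 : pt 23 = none := by decide
  rw [e0] at c0
  rw [e23] at c23
  rw [h0, h23, e0, e23]
  push_cast
  rw [c0, c23]
  ring

theorem sel16_eq (n : ℕ) : sel16 n = Nat.beq (nib n 0 + nib n 23) 12 := by
  simp [sel16, nib]

theorem sel8_eq (n : ℕ) : sel8 n = Nat.beq (nib n 0 + nib n 23) 14 := by
  simp [sel8, nib]

theorem sel16_of (w : leechLattice) (hn : sqNorm (w : GolayPt → ℤ) = 32)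
    (hd : dotInt (Spor.leechU : GolayPt → ℤ) (w : GolayPt → ℤ) = -16) :
    sel16 (pk (w : GolayPt → ℤ)) = true := by
  rw [dot_leechU] at hd
  have h := nib_sum_leechU w hn
  have h' : nib (pk (w : GolayPt → ℤ)) 0 + nib (pk (w : GolayPt → ℤ)) 23 = 12 := by omega
  rw [sel16_eq, h']
  rfl

theorem sel8_of (w : leechLattice) (hn : sqNorm (w : GolayPt → ℤ) = 32)
    (hd : dotInt (Spor.leechU : GolayPt → ℤ) (w : GolayPt → ℤ) = -8) :
    sel8 (pk (w : GolayPt → ℤ)) = true := by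
  rw [dot_leechU] at hd
  have h := nib_sum_leechU w hn
  have h' : nib (pk (w : GolayPt → ℤ)) 0 + nib (pk (w : GolayPt → ℤ)) 23 = 14 := by omega
  rw [sel8_eq, h']
  rfl

theorem leechU_class_invariant (d : ℤ) (g : Co0) (hg : g • Spor.leechU = Spor.leechU)
    (w : leechLattice)
    (h : sqNorm (w : GolayPt → ℤ) = 32 ∧
      dotInt (Spor.leechU : GolayPt → ℤ) (w : GolayPt → ℤ) = d) :
    sqNorm ((g • w : leechLattice) : GolayPt → ℤ) = 32 ∧
      dotInt (Spor.leechU : GolayPt → ℤ) ((g • w : leechLattice) : GolayPt → ℤ) = d := by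
  refine ⟨by rw [co0_norm]; exact h.1, ?_⟩
  have h2 := co0_dot g Spor.leechU w
  rw [hg] at h2
  rw [h2]
  exact h.2

/-- the stabiliser of `(4, 4, 0^22)` is transitive on the minimal vectors with inner product
`-16` with it. -/
theorem co2_trans16 (w w' : leechLattice) (hw : sqNorm (w : GolayPt → ℤ) = 32)
    (hw' : sqNorm (w' : GolayPt → ℤ) = 32)
    (hd : dotInt (Spor.leechU : GolayPt → ℤ) (w : GolayPt → ℤ) = -16)
    (hd' : dotInt (Spor.leechU : GolayPt → ℤ) (w' : GolayPt → ℤ) = -16) :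
    ∃ g : Co0, g • Spor.leechU = Spor.leechU ∧ g • w = w' :=
  stab_trans tabU Spor.leechU (by rw [sqNorm_leechU32]; norm_num) pvU tgt16 pk_leechU tabU_ok sel16
    (fun w => sqNorm (w : GolayPt → ℤ) = 32 ∧
      dotInt (Spor.leechU : GolayPt → ℤ) (w : GolayPt → ℤ) = -16)
    (leechU_class_invariant (-16)) (fun _ h => h.1) (fun w h => sel16_of w h.1 h.2)
    ⟨c16A, d16A⟩ (hB_of_seg _ c16B d16B c16B_cover) (hC_of_seg _ c16C d16C c16C_length)
    w w' ⟨hw, hd⟩ ⟨hw', hd'⟩

theorem c8B_cover : (c8B0 ++ (c8B1 ++ c8B2)).map (fun e => e &&& 16777215) = octL := by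
  decide +kernel

theorem d8B : segB (descP tabU sel8 tgt8) (c8B0 ++ (c8B1 ++ c8B2)) = true := by
  rw [segB_append, segB_append, d8B0, d8B1, d8B2]
  rfl

theorem d8C : segC (descP tabU sel8 tgt8) 0 (c8C0 ++ (c8C1 ++ (c8C2 ++ c8C3))) = true := by
  rw [segC_append, segC_append, segC_append, c8C0_length, c8C1_length, c8C2_length,
    show (0 : ℕ) + 1024 = 1024 from rfl, show (1024 : ℕ) + 1024 = 2048 from rfl,
    show (2048 : ℕ) + 1024 = 3072 from rfl, d8C0, d8C1, d8C2, d8C3]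
  rfl

theorem c8C_length : (c8C0 ++ (c8C1 ++ (c8C2 ++ c8C3))).length = 4096 := by
  rw [List.length_append, List.length_append, List.length_append, c8C0_length, c8C1_length,
    c8C2_length, c8C3_length]

/-- the stabiliser of `(4, 4, 0^22)` is transitive on the minimal vectors with inner product
`-8` with it. -/
theorem co2_trans8 (w w' : leechLattice) (hw : sqNorm (w : GolayPt → ℤ) = 32)
    (hw' : sqNorm (w' : GolayPt → ℤ) = 32)
    (hd : dotInt (Spor.leechU : GolayPt → ℤ) (w : GolayPt → ℤ) = -8)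
    (hd' : dotInt (Spor.leechU : GolayPt → ℤ) (w' : GolayPt → ℤ) = -8) :
    ∃ g : Co0, g • Spor.leechU = Spor.leechU ∧ g • w = w' :=
  stab_trans tabU Spor.leechU (by rw [sqNorm_leechU32]; norm_num) pvU tgt8 pk_leechU tabU_ok sel8
    (fun w => sqNorm (w : GolayPt → ℤ) = 32 ∧
      dotInt (Spor.leechU : GolayPt → ℤ) (w : GolayPt → ℤ) = -8)
    (leechU_class_invariant (-8)) (fun _ h => h.1) (fun w h => sel8_of w h.1 h.2)
    ⟨c8A, d8A⟩ (hB_of_seg _ _ d8B c8B_cover) (hC_of_seg _ _ d8C c8C_length)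
    w w' ⟨hw, hd⟩ ⟨hw', hd'⟩

end Cfsg.Agent.Helper26
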