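import Cfsg.Agent.Helper26.Co3Trans
import Cfsg.Agent.Helper26.Co2Trans

/-!
# Class functions on packed minimal vectors: shared lemmas

Inner products of a minimal vector with the standard vectors in terms of the packed selectors
`dV`, `sU`, `dU`, `sX`; congruence of the selectors; uniform checks over all minimal vectors;
a criterion for an element of `Co0` to be the identity; orbits of subgroups.
-/

set_option autoImplicit false

namespace Cfsg.Agent.Helper26

open Cfsg

/-- the minimal vector `-(4 e_∞ + 4 e_22)`. -/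
noncomputable def leechX : leechLattice := -Cfsg.Agent.Helper92.P none (some 22)

theorem dot_leechX (w : GolayPt → ℤ) :
    dotInt (leechX : GolayPt → ℤ) w = -4 * w none - 4 * w (some 22) := by
  have h : ∀ p : GolayPt, (leechX : GolayPt → ℤ) p =
      -((if p = none then 4 else 0) + (if p = some 22 then 4 else 0)) := by
    intro p
    show -((Cfsg.Agent.Helper92.P none (some 22) : leechLattice) : GolayPt → ℤ) p = _
    rw [Cfsg.Agent.Helper92.P_apply]
  unfold dotInt
  simp only [h, neg_mul, add_mul, ite_mul, zero_mul, Finset.sum_neg_distrib,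
    Finset.sum_add_distrib, Finset.sum_ite_eq', Finset.mem_univ, if_true]
  ring

theorem dotU_eq {w : GolayPt → ℤ} (hS : Short w) :
    dotInt (Spor.leechU : GolayPt → ℤ) w = 4 * ((sU (pk w) : ℕ) : ℤ) - 64 := by
  rw [dot_leechU, sU_cast hS]
  ring

theorem dotU'_eq {w : GolayPt → ℤ} (hS : Short w) :
    dotInt (Spor.leechU' : GolayPt → ℤ) w = 4 * ((dU (pk w) : ℕ) : ℤ) - 64 := by
  rw [dot_leechU', dU_cast hS]
  ring

theorem dotX_eq {w : GolayPt → ℤ} (hS : Short w) :
    dotInt (leechX : GolayPt → ℤ) w = 64 - 4 * ((sX (pk w) : ℕ) : ℤ) := by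
  rw [dot_leechX, sX_cast hS]
  ring

theorem short32 {w : GolayPt → ℤ} (hn : sqNorm w = 32) : Short w :=
  short_of_sqNorm (by rw [hn]; norm_num)

theorem dV_congr (w w' : GolayPt → ℤ) (hw : w ∈ leechLattice) (hw' : w' ∈ leechLattice)
    (hn : sqNorm w = 32) (hn' : sqNorm w' = 32)
    (h : dotInt (Spor.leechV : GolayPt → ℤ) w = dotInt (Spor.leechV : GolayPt → ℤ) w') :
    dV (pk w) = dV (pk w') := by
  obtain ⟨k, h1, h2, h3, h4⟩ := dV_spec w hw hn
  obtain ⟨k', h1', h2', h3', h4'⟩ := dV_spec w' hw' hn'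
  have e : k = k' := by omega
  subst e
  omega

theorem sU_congr (w w' : GolayPt → ℤ) (hn : sqNorm w = 32) (hn' : sqNorm w' = 32)
    (h : dotInt (Spor.leechU : GolayPt → ℤ) w = dotInt (Spor.leechU : GolayPt → ℤ) w') :
    sU (pk w) = sU (pk w') := by
  have a := dotU_eq (short32 hn)
  have b := dotU_eq (short32 hn')
  omega

theorem dU_congr (w w' : GolayPt → ℤ) (hn : sqNorm w = 32) (hn' : sqNorm w' = 32)
    (h : dotInt (Spor.leechU' : GolayPt → ℤ) w = dotInt (Spor.leechU' : GolayPt → ℤ) w') :
    dU (pk w) = dU (pk w') := by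
  have a := dotU'_eq (short32 hn)
  have b := dotU'_eq (short32 hn')
  omega

theorem sX_congr (w w' : GolayPt → ℤ) (hn : sqNorm w = 32) (hn' : sqNorm w' = 32)
    (h : dotInt (leechX : GolayPt → ℤ) w = dotInt (leechX : GolayPt → ℤ) w') :
    sX (pk w) = sX (pk w') := by
  have a := dotX_eq (short32 hn)
  have b := dotX_eq (short32 hn')
  omega

/-! ### Uniform checks over all minimal vectors -/

theorem octL_mask : ∀ o ∈ octL, o &&& 16777215 = o ∧ o >>> 24 = 0 := by decide +kernel

/-- a property of packed vectors checked on all minimal vectors by kernel evaluation. -/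
theorem minAll0 (P : ℕ → Bool) (hA : blockA (fun _ => P) 0 = true)
    (hB : segB (fun _ => P) octL = true)
    (hC : allBelowR (fun k => blockC (fun _ => P) k 0) 4096 = true)
    (w : GolayPt → ℤ) (hw : w ∈ leechLattice) (hn : sqNorm w = 32) : P (pk w) = true := by
  obtain ⟨a, ha⟩ := minAll (fun _ => P) ⟨0, hA⟩
    (fun o ho => by
      have h := segB_spec (fun _ => P) octL hB o ho
      rw [(octL_mask o ho).1, (octL_mask o ho).2] at h
      exact ⟨0, h⟩)
    (fun k hk => ⟨0, allBelowR_spec _ 4096 hC k hk⟩) w hw hn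
  exact ha

/-! ### Elements of `Co0` -/

theorem semW_append (a b : List Ltr) : semW (a ++ b) = semW b * semW a := by
  induction a with
  | nil => simp [semW]
  | cons l a ih =>
    show semW (a ++ b) * semL l = semW b * (semW a * semL l)
    rw [ih, mul_assoc]

theorem dot_P (q : GolayPt) (w : GolayPt → ℤ) :
    dotInt ((Cfsg.Agent.Helper92.P none q : leechLattice) : GolayPt → ℤ) w =
      4 * w none + 4 * w q := by
  unfold dotInt
  simp only [Cfsg.Agent.Helper92.P_apply, add_mul, ite_mul, zero_mul, Finset.sum_add_distrib,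
    Finset.sum_ite_eq', Finset.mem_univ, if_true]

/-- an element of `Co0` fixing the vectors `4 e_∞ + 4 e_q` and `4 e_∞ - 4 e_0` is the
identity. -/
theorem eq_one_of_fix (g : Co0)
    (h1 : ∀ q : GolayPt, q ≠ none → g • Cfsg.Agent.Helper92.P none q = Cfsg.Agent.Helper92.P none q)
    (h2 : g • Spor.leechU' = Spor.leechU') : g = 1 := by
  apply Subtype.ext
  apply Equiv.ext
  intro y
  show g • y = y
  apply Subtype.ext
  have hq : ∀ q : GolayPt, q ≠ none →
      4 * ((g • y : leechLattice) : GolayPt → ℤ) none + 4 * ((g • y : leechLattice) : GolayPt → ℤ) q =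
        4 * (y : GolayPt → ℤ) none + 4 * (y : GolayPt → ℤ) q := by
    intro q hq
    have := dot_fix g _ (h1 q hq) y
    rwa [dot_P, dot_P] at this
  have hu := dot_fix g _ h2 y
  rw [dot_leechU', dot_leechU'] at hu
  have h0 := hq (some 0) (by simp)
  have hn : ((g • y : leechLattice) : GolayPt → ℤ) none = (y : GolayPt → ℤ) none := by omega
  funext p
  by_cases hp : p = none
  · rw [hp]; exact hn
  · have := hq p hp
    omega

/-- the orbit of a subgroup on an invariant set on which it is transitive. -/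
theorem orbit_eq_of_trans (K : Subgroup Co0) (C : Set leechLattice) (y : leechLattice)
    (hy : y ∈ C) (hinv : ∀ k ∈ K, ∀ z ∈ C, k • z ∈ C) (htr : ∀ z ∈ C, ∃ k ∈ K, k • y = z) :
    MulAction.orbit K y = C := by
  ext z
  constructor
  · rintro ⟨k, rfl⟩
    exact hinv k k.2 y hy
  · intro hz
    obtain ⟨k, hk, h⟩ := htr z hz
    exact ⟨⟨k, hk⟩, h⟩

end Cfsg.Agent.Helper26
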