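import Cfsg.Agent.Helper26.Co0Enum
import Cfsg.Agent.Helper92.LeechCensus32

/-!
# Counting minimal vectors with a packed property by kernel evaluation

`enumAll` is the list of the packed vectors produced by the enumeration of `Co0Enum`; it has
length 196560 and contains the packed form of every minimal vector, so (there being 196560
minimal vectors) it lists them without repetition.  Hence the number of minimal vectors `x` with
`sel (pk x) = true` is `enumAll.countP sel`, which `cntAll sel` computes by kernel evaluation
(`minCount`).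
-/

set_option autoImplicit false

namespace Cfsg.Agent.Helper26

open Cfsg

/-! ### The lists of packed vectors enumerated by the folds -/

/-- the leaves of `foldB`. -/
def leavesB (i1 : ℕ) : List ℕ → ℕ → Bool → List ℕ
  | [], acc, par => [cond par (acc + 4 <<< (4 * i1)) acc]
  | i :: l, acc, par => leavesB i1 l acc par ++ leavesB i1 l (acc + 4 <<< (4 * i)) (!par)

theorem foldB_all (q : ℕ → Bool) (c i1 : ℕ) (l : List ℕ) : ∀ (acc : ℕ) (par : Bool) (sh w : ℕ),
    foldB (fun _ n => q n) c i1 l acc par sh w = (leavesB i1 l acc par).all q := by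
  induction l with
  | nil =>
    intro acc par sh w
    rw [foldB_nil, leavesB]
    simp
  | cons i l ih =>
    intro acc par sh w
    rw [foldB_cons, ih, ih, leavesB, List.all_append]

theorem length_leavesB (i1 : ℕ) (l : List ℕ) : ∀ (acc : ℕ) (par : Bool),
    (leavesB i1 l acc par).length = 2 ^ l.length := by
  induction l with
  | nil => intro acc par; rfl
  | cons i l ih =>
    intro acc par
    rw [leavesB, List.length_append, ih, ih, List.length_cons, pow_succ]
    ring

/-- the vectors of shape B on the octad of mask `o`. -/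
def listB (o : ℕ) : List ℕ :=
  match posL o 24 with
  | [] => []
  | i1 :: l => leavesB i1 l (R8 - 2 * gsum (fun i => 16 ^ i) 24 o) false

theorem blockB_all (q : ℕ → Bool) (o c : ℕ) :
    blockB (fun _ n => q n) o c = (listB o).all q := by
  unfold blockB listB
  rw [posR_eq]
  cases hL : posL o 24 with
  | nil => rfl
  | cons i1 l => rw [blockBAux_cons, sprdR_eq, foldB_all]

theorem nodup_posL (m k : ℕ) : (posL m k).Nodup := by
  induction k with
  | zero => exact List.nodup_nil
  | succ k ih =>
    rw [posL]
    split_ifs with h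
    · refine List.nodup_cons.2 ⟨fun hk => ?_, ih⟩
      have := ((mem_posL m k k).1 hk).1
      omega
    · exact ih

theorem length_posL (o : ℕ) : (posL o 24).length = (dec o).card := by
  rw [← List.toFinset_card_of_nodup (nodup_posL o 24),
    ← Finset.card_image_of_injective (dec o) idx_injective]
  congr 1
  ext i
  rw [List.mem_toFinset, mem_posL, Finset.mem_image]
  constructor
  · rintro ⟨h1, h2⟩
    exact ⟨pt i, (mem_dec o (pt i)).2 (by rw [idx_pt i h1]; exact h2), idx_pt i h1⟩
  · rintro ⟨p, hp, rfl⟩
    exact ⟨idx_lt p, (mem_dec o p).1 hp⟩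

theorem length_listB (o : ℕ) (h : (dec o).card = 8) : (listB o).length = 128 := by
  have hl := length_posL o
  rw [h] at hl
  unfold listB
  cases hL : posL o 24 with
  | nil => rw [hL] at hl; simp at hl
  | cons i1 l =>
    rw [hL, List.length_cons] at hl
    show (leavesB i1 l _ false).length = 128
    rw [length_leavesB, show l.length = 7 by omega]
    norm_num

/-- the packed vector number `i` of shape C with sign set the code word number `k`. -/
def valC (k i : ℕ) : ℕ :=
  cond (Nat.beq (Nat.land (Nat.shiftRight (codeOf k) i) 1) 1)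
    (Nat.add (Nat.sub R9 (Nat.mul 2 (sprdR (codeOf k) 24))) (Nat.shiftLeft 4 (Nat.mul 4 i)))
    (Nat.sub (Nat.sub R9 (Nat.mul 2 (sprdR (codeOf k) 24))) (Nat.shiftLeft 4 (Nat.mul 4 i)))

/-- the vectors of shape C with sign set the code word number `k`. -/
def listC (k : ℕ) : List ℕ := (List.range 24).map (valC k)

theorem allBelowR_range (f : ℕ → Bool) (n : ℕ) : allBelowR f n = (List.range n).all f := by
  induction n with
  | zero => rfl
  | succ k ih =>
    show (f k && allBelowR f k) = _
    rw [ih, List.range_succ, List.all_append, Bool.and_comm]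
    simp

theorem blockC_all (q : ℕ → Bool) (k c : ℕ) :
    blockC (fun _ n => q n) k c = (listC k).all q := by
  unfold blockC listC
  rw [allBelowR_range, List.all_map]
  rfl

/-- the four vectors of shape A at the positions `i`, `j`. -/
def quadA (i j : ℕ) : List ℕ :=
  [baseA i j, baseA i j + 8 <<< (4 * j), baseA i j + 8 <<< (4 * i),
    baseA i j + 8 <<< (4 * i) + 8 <<< (4 * j)]

/-- the vectors of shape A. -/
def listA : List ℕ :=
  (List.range 24).flatMap (fun i => (List.range 24).flatMap (fun j =>
    cond (Nat.blt i j) (quadA i j) []))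

theorem blockA_all (q : ℕ → Bool) (c : ℕ) : blockA (fun _ n => q n) c = listA.all q := by
  unfold blockA listA
  rw [allBelowR_range, List.all_flatMap]
  congr 1
  funext i
  rw [allBelowR_range, List.all_flatMap]
  congr 1
  funext j
  cases Nat.blt i j
  · rfl
  · simp [quadA, Bool.and_assoc]

/-- all enumerated packed vectors. -/
def enumAll : List ℕ := listA ++ (octL.flatMap listB ++ (List.range 4096).flatMap listC)

theorem length_listA : listA.length = 1104 := by
  unfold listA
  simp only [List.length_flatMap]
  decide +kernel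

theorem octL_length : octL.length = 759 := by decide +kernel

theorem card_dec_octL (o : ℕ) (ho : o ∈ octL) : (dec o).card = 8 := by
  have h1 := enc_dec o (octL_lt o ho)
  have h2 : dec o ∈ octads := (mem_octL_iff (dec o)).1 (by rw [h1]; exact ho)
  exact octads_card h2

theorem length_enumAll : enumAll.length = 196560 := by
  unfold enumAll
  rw [List.length_append, List.length_append, length_listA, List.length_flatMap,
    List.length_flatMap]
  have hB : List.map (fun a => (listB a).length) octL = List.replicate 759 128 := by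
    rw [← octL_length, ← List.map_const']
    apply List.map_congr_left
    intro o ho
    exact length_listB o (card_dec_octL o ho)
  have hC : List.map (fun a => (listC a).length) (List.range 4096) = List.replicate 4096 24 := by
    have : ∀ a, (listC a).length = 24 := by
      intro a
      simp [listC]
    simp only [this]
    rw [List.map_const', List.length_range]
  rw [hB, hC, List.sum_replicate, List.sum_replicate]
  rfl

theorem mem_enumAll (w : GolayPt → ℤ) (hw : w ∈ leechLattice) (hn : sqNorm w = 32) :
    pk w ∈ enumAll := by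
  classical
  have hA : ∃ c, blockA (fun _ n => decide (n ∈ enumAll)) c = true := by
    refine ⟨0, ?_⟩
    rw [blockA_all, List.all_eq_true]
    intro n hn
    exact decide_eq_true (List.mem_append_left _ hn)
  have hB : ∀ o ∈ octL, ∃ c, blockB (fun _ n => decide (n ∈ enumAll)) o c = true := by
    intro o ho
    refine ⟨0, ?_⟩
    rw [blockB_all, List.all_eq_true]
    intro n hn
    exact decide_eq_true (List.mem_append_right _
      (List.mem_append_left _ (List.mem_flatMap.2 ⟨o, ho, hn⟩)))
  have hC : ∀ k < 4096, ∃ c, blockC (fun _ n => decide (n ∈ enumAll)) k c = true := by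
    intro k hk
    refine ⟨0, ?_⟩
    rw [blockC_all, List.all_eq_true]
    intro n hn
    exact decide_eq_true (List.mem_append_right _
      (List.mem_append_right _ (List.mem_flatMap.2 ⟨k, List.mem_range.2 hk, hn⟩)))
  obtain ⟨a, ha⟩ := minAll (fun _ n => decide (n ∈ enumAll)) hA hB hC w hw hn
  exact of_decide_eq_true ha

theorem pk_injOn_min :
    Set.InjOn pk {x : GolayPt → ℤ | x ∈ leechLattice ∧ sqNorm x = 32} := by
  intro x hx y hy h
  exact pk_injective (short_of_sqNorm (by rw [hx.2]; norm_num))
    (short_of_sqNorm (by rw [hy.2]; norm_num)) h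

/-- the enumeration lists the packed minimal vectors without repetition. -/
theorem enumAll_spec : enumAll.Nodup ∧
    pk '' {x : GolayPt → ℤ | x ∈ leechLattice ∧ sqNorm x = 32} = ↑enumAll.toFinset := by
  have hsub : pk '' {x : GolayPt → ℤ | x ∈ leechLattice ∧ sqNorm x = 32} ⊆
      ↑enumAll.toFinset := by
    rintro n ⟨x, hx, rfl⟩
    exact Finset.mem_coe.2 (List.mem_toFinset.2 (mem_enumAll x hx.1 hx.2))
  have hcard : (pk '' {x : GolayPt → ℤ | x ∈ leechLattice ∧ sqNorm x = 32}).ncard = 196560 := by
    rw [pk_injOn_min.ncard_image, Helper92.ncard_norm32]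
  have hle : enumAll.toFinset.card ≤ 196560 := by
    have h := List.toFinset_card_le (l := enumAll)
    rw [length_enumAll] at h
    exact h
  have hge : 196560 ≤ enumAll.toFinset.card := by
    rw [← hcard, ← Set.ncard_coe_finset]
    exact Set.ncard_le_ncard hsub (Finset.finite_toSet _)
  constructor
  · have h1 : enumAll.toFinset.card = enumAll.length := by rw [length_enumAll]; omega
    have h2 : (enumAll : Multiset ℕ).toFinset.card = Multiset.card (enumAll : Multiset ℕ) := by
      exact h1
    exact Multiset.coe_nodup.1 (Multiset.toFinset_card_eq_card_iff_nodup.1 h2)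
  · apply Set.eq_of_subset_of_ncard_le hsub _ (Finset.finite_toSet _)
    rw [hcard, Set.ncard_coe_finset]
    exact hle

/-- **Counting minimal vectors with a packed property.** -/
theorem minCount_list (sel : ℕ → Bool) :
    {x : GolayPt → ℤ | x ∈ leechLattice ∧ sqNorm x = 32 ∧ sel (pk x) = true}.ncard =
      enumAll.countP sel := by
  obtain ⟨hnd, himg⟩ := enumAll_spec
  have hinj : Set.InjOn pk
      {x : GolayPt → ℤ | x ∈ leechLattice ∧ sqNorm x = 32 ∧ sel (pk x) = true} :=
    pk_injOn_min.mono (fun x (hx : x ∈ leechLattice ∧ sqNorm x = 32 ∧ sel (pk x) = true) =>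
      (⟨hx.1, hx.2.1⟩ : x ∈ leechLattice ∧ sqNorm x = 32))
  have hset : pk '' {x : GolayPt → ℤ | x ∈ leechLattice ∧ sqNorm x = 32 ∧ sel (pk x) = true} =
      ↑(enumAll.filter sel).toFinset := by
    ext n
    rw [Finset.mem_coe, List.mem_toFinset, List.mem_filter]
    constructor
    · rintro ⟨x, hx, rfl⟩
      exact ⟨mem_enumAll x hx.1 hx.2.1, hx.2.2⟩
    · rintro ⟨h1, h2⟩
      have h3 : n ∈ (↑enumAll.toFinset : Set ℕ) := Finset.mem_coe.2 (List.mem_toFinset.2 h1)
      rw [← himg] at h3
      obtain ⟨x, hx, rfl⟩ := h3
      exact ⟨x, ⟨hx.1, hx.2, h2⟩, rfl⟩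
  rw [← hinj.ncard_image, hset, Set.ncard_coe_finset,
    List.toFinset_card_of_nodup (hnd.filter _), List.countP_eq_length_filter]

/-! ### Kernel evaluation of the count -/

/-- the indicator of a Boolean test. -/
def ind (sel : ℕ → Bool) (n : ℕ) : ℕ := cond (sel n) 1 0

theorem sum_map_ind (sel : ℕ → Bool) (l : List ℕ) : (l.map (ind sel)).sum = l.countP sel := by
  induction l with
  | nil => rfl
  | cons a l ih =>
    rw [List.map_cons, List.sum_cons, ih, List.countP_cons, ind]
    cases sel a <;> simp [add_comm]

theorem sum_map_flatMap (f : ℕ → ℕ) (g : ℕ → List ℕ) (l : List ℕ) :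
    ((l.flatMap g).map f).sum = (l.map (fun a => ((g a).map f).sum)).sum := by
  induction l with
  | nil => rfl
  | cons a l ih =>
    rw [List.flatMap_cons, List.map_append, List.sum_append, ih, List.map_cons, List.sum_cons]

/-- `∑ i < n, f i` (fast). -/
def sumBelowR (f : ℕ → ℕ) (n : ℕ) : ℕ :=
  Nat.rec (motive := fun _ => ℕ) 0 (fun i ih => Nat.add ih (f i)) n

theorem sumBelowR_range (f : ℕ → ℕ) (n : ℕ) : sumBelowR f n = ((List.range n).map f).sum := by
  induction n with
  | zero => rfl
  | succ k ih =>
    show sumBelowR f k + f k = _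
    rw [ih, List.range_succ, List.map_append, List.sum_append]
    simp

/-- `∑ f` over a list (fast). -/
def sumL (f : ℕ → ℕ) (l : List ℕ) : ℕ :=
  List.rec (motive := fun _ => ℕ) 0 (fun o _ ih => Nat.add (f o) ih) l

theorem sumL_eq (f : ℕ → ℕ) (l : List ℕ) : sumL f l = (l.map f).sum := by
  induction l with
  | nil => rfl
  | cons a l ih =>
    show f a + sumL f l = _
    rw [ih, List.map_cons, List.sum_cons]

theorem sum_chunks (g : ℕ → ℕ) (n m : ℕ) :
    ((List.range m).map (fun a => ((List.range n).map (fun b => g (n * a + b))).sum)).sum =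
      ((List.range (n * m)).map g).sum := by
  induction m with
  | zero => simp
  | succ m ih =>
    rw [List.range_succ, List.map_append, List.sum_append, ih, Nat.mul_succ, List.range_add,
      List.map_append, List.sum_append, List.map_map]
    simp
    rfl

/-- the count version of `foldB`. -/
def cntFoldB (f : ℕ → ℕ) (i1 : ℕ) (l : List ℕ) (acc : ℕ) (par : Bool) : ℕ :=
  List.rec (motive := fun _ => ℕ → Bool → ℕ)
    (fun acc par => f (cond par (Nat.add acc (Nat.shiftLeft 4 (Nat.mul 4 i1))) acc))
    (fun i _ ih acc par =>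
      Nat.add (ih acc par) (ih (Nat.add acc (Nat.shiftLeft 4 (Nat.mul 4 i))) (not par)))
    l acc par

theorem cntFoldB_eq (f : ℕ → ℕ) (i1 : ℕ) (l : List ℕ) : ∀ (acc : ℕ) (par : Bool),
    cntFoldB f i1 l acc par = ((leavesB i1 l acc par).map f).sum := by
  induction l with
  | nil =>
    intro acc par
    show f (cond par (acc + 4 <<< (4 * i1)) acc) = _
    rw [leavesB]
    simp
  | cons i l ih =>
    intro acc par
    show cntFoldB f i1 l acc par + cntFoldB f i1 l (acc + 4 <<< (4 * i)) (!par) = _
    rw [ih, ih, leavesB, List.map_append, List.sum_append]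

/-- the count version of `blockBAux`. -/
def cntBAux (f : ℕ → ℕ) (o : ℕ) (L : List ℕ) : ℕ :=
  List.rec (motive := fun _ => ℕ) 0
    (fun i1 l _ => cntFoldB f i1 l (Nat.sub R8 (Nat.mul 2 (sprdR o 24))) false) L

/-- `∑ f` over the vectors of shape B on the octad of mask `o`. -/
def cntB (f : ℕ → ℕ) (o : ℕ) : ℕ := cntBAux f o (posR o 24)

theorem cntB_eq (f : ℕ → ℕ) (o : ℕ) : cntB f o = ((listB o).map f).sum := by
  unfold cntB listB
  rw [posR_eq]
  cases hL : posL o 24 with
  | nil => rfl
  | cons i1 l =>
    show cntFoldB f i1 l (R8 - 2 * sprdR o 24) false = _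
    rw [sprdR_eq, cntFoldB_eq]

/-- `∑ f` over the vectors of shape C with sign set the code word number `k`. -/
def cntC (f : ℕ → ℕ) (k : ℕ) : ℕ := sumBelowR (fun i => f (valC k i)) 24

theorem cntC_eq (f : ℕ → ℕ) (k : ℕ) : cntC f k = ((listC k).map f).sum := by
  unfold cntC listC
  rw [sumBelowR_range, List.map_map]
  rfl

/-- `∑ f` over the vectors of shape A. -/
def cntA (f : ℕ → ℕ) : ℕ :=
  sumBelowR (fun i => sumBelowR (fun j => cond (Nat.blt i j)
    (Nat.add (Nat.add (Nat.add (f (baseA i j))
      (f (Nat.add (baseA i j) (Nat.shiftLeft 8 (Nat.mul 4 j)))))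
      (f (Nat.add (baseA i j) (Nat.shiftLeft 8 (Nat.mul 4 i)))))
      (f (Nat.add (Nat.add (baseA i j) (Nat.shiftLeft 8 (Nat.mul 4 i)))
        (Nat.shiftLeft 8 (Nat.mul 4 j)))))
    0) 24) 24

theorem cntA_eq (f : ℕ → ℕ) : cntA f = (listA.map f).sum := by
  unfold cntA listA
  rw [sumBelowR_range, sum_map_flatMap]
  congr 2
  funext i
  rw [sumBelowR_range, sum_map_flatMap]
  congr 2
  funext j
  cases Nat.blt i j
  · rfl
  · simp [quadA, add_assoc]

/-- the number of enumerated packed vectors satisfying `sel`. -/
def cntAll (sel : ℕ → Bool) : ℕ :=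
  Nat.add (Nat.add (cntA (ind sel)) (sumL (cntB (ind sel)) octL))
    (sumBelowR (fun a => sumBelowR (fun b => cntC (ind sel) (Nat.add (Nat.mul 64 a) b)) 64) 64)

theorem countP_enumAll (sel : ℕ → Bool) : enumAll.countP sel = cntAll sel := by
  have hA : List.countP sel listA = cntA (ind sel) := by rw [cntA_eq, sum_map_ind]
  have hB : (List.map (List.countP sel ∘ listB) octL).sum = sumL (cntB (ind sel)) octL := by
    rw [sumL_eq]
    refine congrArg List.sum (List.map_congr_left fun o _ => ?_)
    rw [Function.comp_apply, cntB_eq, sum_map_ind]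
  have hC : ∀ N : ℕ, N = 64 * 64 → (List.map (List.countP sel ∘ listC) (List.range N)).sum =
      sumBelowR (fun a => sumBelowR (fun b => cntC (ind sel) (Nat.add (Nat.mul 64 a) b)) 64)
        64 := by
    intro N hN
    subst hN
    rw [sumBelowR_range]
    have h1 : (fun a => sumBelowR (fun b => cntC (ind sel) (Nat.add (Nat.mul 64 a) b)) 64) =
        fun a => ((List.range 64).map (fun b => cntC (ind sel) (64 * a + b))).sum := by
      funext a
      rw [sumBelowR_range]
      rfl
    rw [h1, sum_chunks (cntC (ind sel)) 64 64]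
    refine congrArg List.sum (List.map_congr_left fun k _ => ?_)
    rw [Function.comp_apply, cntC_eq, sum_map_ind]
  have e : (4096 : ℕ) = 64 * 64 := by norm_num
  unfold enumAll cntAll
  rw [List.countP_append, List.countP_append, List.countP_flatMap, List.countP_flatMap,
    hA, hB, hC 4096 e]
  exact (Nat.add_assoc _ _ _).symm

/-- **Counting minimal vectors with a packed property by kernel evaluation.** -/
theorem minCount (sel : ℕ → Bool) (N : ℕ) (h : cntAll sel = N) :
    {x : GolayPt → ℤ | x ∈ leechLattice ∧ sqNorm x = 32 ∧ sel (pk x) = true}.ncard = N := by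
  rw [minCount_list, countP_enumAll, h]

end Cfsg.Agent.Helper26
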