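import Cfsg.Agent.Helper26.Co0Enum

/-!
# Descent certificates: transitivity of a vector stabiliser on a class of minimal vectors

A table of words in the explicit generators of `Cfsg.Co0`, all fixing a vector `v0`; every
minimal vector `w` of the class other than the target is made numerically smaller (as a packed
number) by some word of the table.  Hence every vector of the class is carried to the target by an
element of the stabiliser of `v0`.
-/

set_option autoImplicit false

namespace Cfsg.Agent.Helper26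

open Cfsg

/-- all words of the table are valid and fix the packed vector `pv`. -/
noncomputable def tabOK (tab : List (List Ltr)) (pv : ℕ) : Bool :=
  tab.all (fun wd => wordOK wd && Nat.beq (actW wd pv) pv)

theorem tabOK_spec (tab : List (List Ltr)) (pv : ℕ) (h : tabOK tab pv = true)
    (v0 : leechLattice) (hv0 : sqNorm (v0 : GolayPt → ℤ) < 64)
    (hpv : pk (v0 : GolayPt → ℤ) = pv) :
    ∀ wd ∈ tab, wordOK wd = true ∧ semW wd • v0 = v0 := by
  intro wd hwd
  have h1 := List.all_eq_true.1 h wd hwd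
  rw [Bool.and_eq_true] at h1
  refine ⟨h1.1, ?_⟩
  have h2 : actW wd pv = pv := Nat.eq_of_beq_eq_true h1.2
  have h3 := actW_sound wd h1.1 v0 hv0
  rw [hpv, h2, ← hpv] at h3
  exact Subtype.ext (pk_injective (short_of_sqNorm (by rw [co0_norm]; exact hv0))
    (short_of_sqNorm hv0) h3)

/-- the descent argument. -/
theorem descent (tab : List (List Ltr)) (v0 : leechLattice)
    (htab : ∀ wd ∈ tab, wordOK wd = true ∧ semW wd • v0 = v0)
    (W : leechLattice → Prop) (hW : ∀ g : Co0, g • v0 = v0 → ∀ w, W w → W (g • w))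
    (hWn : ∀ w, W w → sqNorm (w : GolayPt → ℤ) < 64) (tgt : ℕ)
    (hstep : ∀ w, W w →
      pk (w : GolayPt → ℤ) = tgt ∨ ∃ a, chk tab a (pk (w : GolayPt → ℤ)) = true) :
    ∀ w, W w → ∃ g : Co0, g • v0 = v0 ∧ pk ((g • w : leechLattice) : GolayPt → ℤ) = tgt := by
  have key : ∀ n, ∀ w, W w → pk (w : GolayPt → ℤ) = n →
      ∃ g : Co0, g • v0 = v0 ∧ pk ((g • w : leechLattice) : GolayPt → ℤ) = tgt := by
    intro n
    induction n using Nat.strong_induction_on with
    | _ n ih =>
      intro w hw hn
      rcases hstep w hw with h | ⟨a, ha⟩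
      · exact ⟨1, one_smul _ _, by rw [one_smul]; exact h⟩
      · obtain ⟨hmem, hlt⟩ := chk_spec tab a _ ha
        obtain ⟨hok, hfix⟩ := htab _ hmem
        have hs := actW_sound _ hok w (hWn w hw)
        obtain ⟨g, hg1, hg2⟩ := ih _ (by rw [hs, ← hn]; exact hlt) (semW (nthW tab a) • w)
          (hW _ hfix w hw) rfl
        exact ⟨g * semW (nthW tab a), by rw [mul_smul, hfix, hg1], by rw [mul_smul]; exact hg2⟩
  exact fun w hw => key _ w hw rfl

/-- the property checked on the minimal vectors for a descent certificate. -/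
noncomputable def descP (tab : List (List Ltr)) (sel : ℕ → Bool) (tgt : ℕ) (a n : ℕ) : Bool :=
  cond (sel n) (or (Nat.beq n tgt) (chk tab a n)) true

theorem descP_spec (tab : List (List Ltr)) (sel : ℕ → Bool) (tgt a n : ℕ)
    (ha : descP tab sel tgt a n = true) (hs : sel n = true) : n = tgt ∨ chk tab a n = true := by
  unfold descP at ha
  rw [hs] at ha
  simp only [cond_true, Bool.or_eq_true] at ha
  rcases ha with h | h
  · left
    exact Nat.eq_of_beq_eq_true h
  · right
    exact h

/-- transitivity of the stabiliser of `v0` on the minimal vectors `w` selected by `W`. -/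
theorem stab_trans (tab : List (List Ltr)) (v0 : leechLattice)
    (hv0 : sqNorm (v0 : GolayPt → ℤ) < 64) (pv tgt : ℕ) (hpv : pk (v0 : GolayPt → ℤ) = pv)
    (htab : tabOK tab pv = true) (sel : ℕ → Bool)
    (W : leechLattice → Prop) (hW : ∀ g : Co0, g • v0 = v0 → ∀ w, W w → W (g • w))
    (hWn : ∀ w, W w → sqNorm (w : GolayPt → ℤ) = 32)
    (hsel : ∀ w, W w → sel (pk (w : GolayPt → ℤ)) = true)
    (hA : ∃ c, blockA (descP tab sel tgt) c = true)
    (hB : ∀ o ∈ octL, ∃ c, blockB (descP tab sel tgt) o c = true)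
    (hC : ∀ k < 4096, ∃ c, blockC (descP tab sel tgt) k c = true)
    (w w' : leechLattice) (hw : W w) (hw' : W w') :
    ∃ g : Co0, g • v0 = v0 ∧ g • w = w' := by
  have htab' := tabOK_spec tab pv htab v0 hv0 hpv
  have hWn' : ∀ w, W w → sqNorm (w : GolayPt → ℤ) < 64 := by
    intro w hw
    rw [hWn w hw]
    norm_num
  have hstep : ∀ w, W w →
      pk (w : GolayPt → ℤ) = tgt ∨ ∃ a, chk tab a (pk (w : GolayPt → ℤ)) = true := by
    intro w hw
    obtain ⟨a, ha⟩ := minAll (descP tab sel tgt) hA hB hC (w : GolayPt → ℤ) w.2 (hWn w hw)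
    rcases descP_spec tab sel tgt a _ ha (hsel w hw) with h | h
    · left
      exact h
    · right
      exact ⟨a, h⟩
  obtain ⟨g1, a1, b1⟩ := descent tab v0 htab' W hW hWn' tgt hstep w hw
  obtain ⟨g2, a2, b2⟩ := descent tab v0 htab' W hW hWn' tgt hstep w' hw'
  have e : g1 • w = g2 • w' := by
    apply Subtype.ext
    apply pk_injective (short_of_sqNorm (hWn' _ (hW g1 a1 w hw)))
      (short_of_sqNorm (hWn' _ (hW g2 a2 w' hw')))
    rw [b1, b2]
  refine ⟨g2⁻¹ * g1, ?_, ?_⟩
  · rw [mul_smul, a1]
    exact inv_smul_eq_iff.2 a2.symm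
  · rw [mul_smul, e, inv_smul_smul]

/-! ### Assembling certificates given in segments -/

theorem segB_append (P : ℕ → ℕ → Bool) (s1 s2 : List ℕ) :
    segB P (s1 ++ s2) = (segB P s1 && segB P s2) := by
  induction s1 with
  | nil => rfl
  | cons e l ih =>
    show (blockB P (e &&& 16777215) (e >>> 24) && segB P (l ++ s2)) =
      ((blockB P (e &&& 16777215) (e >>> 24) && segB P l) && segB P s2)
    rw [ih, Bool.and_assoc]

theorem segC_append (P : ℕ → ℕ → Bool) (c1 c2 : List ℕ) :
    ∀ k0, segC P k0 (c1 ++ c2) = (segC P k0 c1 && segC P (k0 + c1.length) c2) := by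
  induction c1 with
  | nil => intro k0; simp [segC]
  | cons c l ih =>
    intro k0
    show (blockC P k0 c && segC P (k0 + 1) (l ++ c2)) =
      ((blockC P k0 c && segC P (k0 + 1) l) && segC P (k0 + (l.length + 1)) c2)
    rw [ih, Bool.and_assoc, show k0 + 1 + l.length = k0 + (l.length + 1) by omega]

theorem hB_of_seg (P : ℕ → ℕ → Bool) (seg : List ℕ) (h : segB P seg = true)
    (hcov : seg.map (fun e => e &&& 16777215) = octL) :
    ∀ o ∈ octL, ∃ c, blockB P o c = true := by
  intro o ho
  rw [← hcov, List.mem_map] at ho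
  obtain ⟨e, he, rfl⟩ := ho
  exact ⟨_, segB_spec P seg h e he⟩

theorem hC_of_seg (P : ℕ → ℕ → Bool) (certs : List ℕ) (h : segC P 0 certs = true)
    (hlen : certs.length = 4096) : ∀ k < 4096, ∃ c, blockC P k c = true := by
  intro k hk
  obtain ⟨c, hc⟩ := segC_spec P certs 0 h k (by rw [hlen]; exact hk)
  exact ⟨c, by rwa [zero_add] at hc⟩

end Cfsg.Agent.Helper26
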