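import Cfsg.Agent.Helper26.LeechPack

/-!
# Classification of the minimal vectors of the lattice (sum of squares 32) into three shapes
-/

set_option autoImplicit false

namespace Cfsg.Agent.Helper26

open Cfsg Cfsg.Agent.Helper92

/-- packed vector `±4` at `a` and at `b` (`true` = minus), `0` elsewhere. -/
def vecA (a b : GolayPt) (sa sb : Bool) : ℕ :=
  pkN (fun q => if q = a then (if sa then 4 else 12) else if q = b then (if sb then 4 else 12)
    else 8)

/-- packed vector `−2` on `S`, `2` on `O \ S`, `0` elsewhere. -/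
def vecB (O S : Finset GolayPt) : ℕ :=
  pkN (fun q => if q ∈ S then 6 else if q ∈ O then 10 else 8)

/-- packed vector `(−3, 1, …, 1)` with the `−3` at `p`, with signs changed on `C`. -/
def vecC (C : Finset GolayPt) (p : GolayPt) : ℕ :=
  pkN (fun q => if q = p then (if q ∈ C then 11 else 5) else (if q ∈ C then 7 else 9))

theorem sq_eq_nine {t : ℤ} (h : t ^ 2 = 9) : t = 3 ∨ t = -3 := by
  have h' : (t - 3) * (t + 3) = 0 := by nlinarith
  rcases mul_eq_zero.1 h' with h1 | h1
  · left; linarith
  · right; linarith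

theorem sq_eq_one' {t : ℤ} (h : t ^ 2 = 1) : t = 1 ∨ t = -1 := by
  have h' : (t - 1) * (t + 1) = 0 := by nlinarith
  rcases mul_eq_zero.1 h' with h1 | h1
  · left; linarith
  · right; linarith

theorem sq_eq_four {t : ℤ} (h : t ^ 2 = 4) : t = 2 ∨ t = -2 := by
  have h' : (t - 2) * (t + 2) = 0 := by nlinarith
  rcases mul_eq_zero.1 h' with h1 | h1
  · left; linarith
  · right; linarith

theorem sq_eq_sixteen {t : ℤ} (h : t ^ 2 = 16) : t = 4 ∨ t = -4 := by
  have h' : (t - 4) * (t + 4) = 0 := by nlinarith
  rcases mul_eq_zero.1 h' with h1 | h1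
  · left; linarith
  · right; linarith

theorem min_odd (w : GolayPt → ℤ) (hS : Short w) (hsum : ∑ i, w i ^ 2 = 32)
    (hodd : ∀ i, w i % 2 = 1)
    (hC : (Finset.univ.filter fun i => w i ≡ 3 [ZMOD 4]) ∈
      supports (golayCode : Set (GolayPt → ZMod 2))) :
    ∃ C ∈ supports (golayCode : Set (GolayPt → ZMod 2)), ∃ p, pk w = vecC C p := by
  classical
  set B := Finset.univ.filter (fun i => w i ^ 2 ≠ 1) with hB
  have hlow : ∀ i, 1 + 8 * (if i ∈ B then (1 : ℤ) else 0) ≤ w i ^ 2 := by
    intro i
    have ho := hodd i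
    have h4 : w i = 1 ∨ w i = -1 ∨ w i ≤ -3 ∨ 3 ≤ w i := by omega
    by_cases hi : i ∈ B
    · rw [if_pos hi]
      have hne : w i ^ 2 ≠ 1 := (Finset.mem_filter.1 hi).2
      rcases h4 with h | h | h | h
      · exact absurd (by rw [h]; norm_num) hne
      · exact absurd (by rw [h]; norm_num) hne
      · nlinarith
      · nlinarith
    · rw [if_neg hi]
      rcases h4 with h | h | h | h <;> nlinarith
  have hcard : (B.card : ℤ) ≤ 1 := by
    have h5 := Finset.sum_le_sum (s := Finset.univ) (fun i _ => hlow i)
    rw [Finset.sum_add_distrib, Finset.sum_const, ← Finset.mul_sum, Finset.sum_boole, hsum,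
      Finset.card_univ, card_golayPt] at h5
    have h6 : (Finset.univ.filter fun i => i ∈ B) = B := by ext i; simp
    rw [h6] at h5
    simp only [nsmul_eq_mul, Nat.cast_ofNat, mul_one] at h5
    linarith
  have hB0 : B.card ≠ 0 := by
    intro h0
    have hBe : B = ∅ := Finset.card_eq_zero.1 h0
    have h7 : ∀ i, w i ^ 2 = 1 := by
      intro i
      by_contra hne
      have : i ∈ B := Finset.mem_filter.2 ⟨Finset.mem_univ _, hne⟩
      rw [hBe] at this
      simp at this
    have h8 : ∑ i, w i ^ 2 = 24 := by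
      rw [Finset.sum_congr rfl (fun i _ => h7 i), Finset.sum_const, Finset.card_univ, card_golayPt]
      norm_num
    omega
  have hB1 : B.card = 1 := by omega
  obtain ⟨k, hk⟩ := Finset.card_eq_one.1 hB1
  have hrest : ∀ i, i ≠ k → w i ^ 2 = 1 := by
    intro i hi
    by_contra hne
    have : i ∈ B := Finset.mem_filter.2 ⟨Finset.mem_univ _, hne⟩
    rw [hk] at this
    exact hi (Finset.mem_singleton.1 this)
  have hk9 : w k ^ 2 = 9 := by
    have h9 := Finset.add_sum_erase Finset.univ (fun i => w i ^ 2) (Finset.mem_univ k)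
    rw [hsum] at h9
    have h23 : ∑ i ∈ Finset.univ.erase k, w i ^ 2 = 23 := by
      rw [Finset.sum_congr rfl (fun i hi => hrest i (Finset.ne_of_mem_erase hi)), Finset.sum_const,
        Finset.card_erase_of_mem (Finset.mem_univ k), Finset.card_univ, card_golayPt]
      norm_num
    linarith
  refine ⟨_, hC, k, ?_⟩
  apply pk_eq_pkN hS
  intro q
  have hmem : q ∈ (Finset.univ.filter fun i => w i ≡ 3 [ZMOD 4]) ↔ w q % 4 = 3 := by
    rw [Finset.mem_filter]
    exact ⟨fun h => h.2, fun h => ⟨Finset.mem_univ _, h⟩⟩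
  by_cases hq : q = k
  · rw [if_pos hq]
    rw [hq] at hmem ⊢
    rcases sq_eq_nine hk9 with h | h
    · rw [if_pos (hmem.2 (by rw [h]; norm_num)), h]; norm_num
    · rw [if_neg (fun hc => by have := hmem.1 hc; rw [h] at this; norm_num at this), h]; norm_num
  · rw [if_neg hq]
    rcases sq_eq_one' (hrest q hq) with h | h
    · rw [if_neg (fun hc => by have := hmem.1 hc; rw [h] at this; norm_num at this), h]; norm_num
    · rw [if_pos (hmem.2 (by rw [h]; norm_num)), h]; norm_num

theorem min_even (w : GolayPt → ℤ) (hS : Short w) (hsum : ∑ i, w i ^ 2 = 32)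
    (hev : ∀ i, w i % 2 = 0) (h8 : (∑ i, w i) % 8 = 0)
    (hC : (Finset.univ.filter fun i => w i ≡ 2 [ZMOD 4]) ∈
      supports (golayCode : Set (GolayPt → ZMod 2))) :
    (∃ a b sa sb, a ≠ b ∧ pk w = vecA a b sa sb) ∨
      (∃ O ∈ octads, ∃ S ⊆ O, 2 ∣ S.card ∧ pk w = vecB O S) := by
  classical
  set C := Finset.univ.filter (fun i => w i ≡ 2 [ZMOD 4]) with hCdef
  have hCmem : ∀ i, i ∈ C ↔ w i % 4 = 2 := by
    intro i
    rw [hCdef, Finset.mem_filter]
    exact ⟨fun h => h.2, fun h => ⟨Finset.mem_univ _, h⟩⟩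
  have h4 : ∀ i ∈ C, 4 ≤ w i ^ 2 := by
    intro i hi
    have := (hCmem i).1 hi
    have h : w i ≤ -2 ∨ 2 ≤ w i := by omega
    rcases h with h | h <;> nlinarith
  have hsplit := Finset.sum_add_sum_compl C (fun i => w i ^ 2)
  rw [hsum] at hsplit
  have hCn : 0 ≤ ∑ i ∈ Cᶜ, w i ^ 2 := Finset.sum_nonneg (fun i _ => sq_nonneg _)
  have hC4 : (4 : ℤ) * C.card ≤ ∑ i ∈ C, w i ^ 2 := by
    have := Finset.sum_le_sum (s := C) (f := fun _ => (4 : ℤ)) (g := fun i => w i ^ 2) h4
    rw [Finset.sum_const] at this
    simpa [mul_comm] using this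
  rcases card_of_mem_supports hC with hc | hc | hc | hc | hc
  · -- all coordinates divisible by 4
    left
    have hCe : C = ∅ := Finset.card_eq_zero.1 hc
    have hmod4 : ∀ i, w i % 4 = 0 := by
      intro i
      have h1 := hev i
      have h2 : ¬ w i % 4 = 2 := by
        intro h
        have := (hCmem i).2 h
        rw [hCe] at this
        simp at this
      omega
    set B := Finset.univ.filter (fun i => w i ≠ 0) with hB
    have hcase : ∀ i, w i = 0 ∨ w i = 4 ∨ w i = -4 ∨ w i ≤ -8 ∨ 8 ≤ w i := by
      intro i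
      have := hmod4 i
      omega
    have hlow : ∀ i, 16 * (if i ∈ B then (1 : ℤ) else 0) ≤ w i ^ 2 := by
      intro i
      by_cases hi : i ∈ B
      · rw [if_pos hi]
        have hne : w i ≠ 0 := (Finset.mem_filter.1 hi).2
        rcases hcase i with h | h | h | h | h
        · exact absurd h hne
        · rw [h]; norm_num
        · rw [h]; norm_num
        · nlinarith
        · nlinarith
      · rw [if_neg hi]; nlinarith [sq_nonneg (w i)]
    have hcard : (B.card : ℤ) ≤ 2 := by
      have h5 := Finset.sum_le_sum (s := Finset.univ) (fun i _ => hlow i)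
      rw [← Finset.mul_sum, Finset.sum_boole, hsum] at h5
      have h6 : (Finset.univ.filter fun i => i ∈ B) = B := by ext i; simp
      rw [h6] at h5
      linarith
    have hzero : ∀ i, i ∉ B → w i = 0 := by
      intro i hi
      by_contra hne
      exact hi (Finset.mem_filter.2 ⟨Finset.mem_univ _, hne⟩)
    have hsumB : ∑ i ∈ B, w i ^ 2 = 32 := by
      rw [← hsum]
      apply Finset.sum_subset (Finset.subset_univ _)
      intro i _ hi
      rw [hzero i hi]; norm_num
    have hB2 : B.card = 2 := by
      have h012 : B.card = 0 ∨ B.card = 1 ∨ B.card = 2 := by omega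
      rcases h012 with h0 | h1 | h2
      · rw [Finset.card_eq_zero.1 h0] at hsumB
        simp at hsumB
      · obtain ⟨k, hk⟩ := Finset.card_eq_one.1 h1
        rw [hk, Finset.sum_singleton] at hsumB
        rcases hcase k with h | h | h | h | h
        · rw [h] at hsumB; norm_num at hsumB
        · rw [h] at hsumB; norm_num at hsumB
        · rw [h] at hsumB; norm_num at hsumB
        · nlinarith
        · nlinarith
      · exact h2
    obtain ⟨a, b, hab, hBab⟩ := Finset.card_eq_two.1 hB2
    rw [hBab, Finset.sum_pair hab] at hsumB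
    have ha16 : w a ^ 2 = 16 := by
      rcases hcase a with h | h | h | h | h <;> rcases hcase b with h' | h' | h' | h' | h' <;>
        first
          | (rw [h]; norm_num; done)
          | (exfalso; rw [h, h'] at hsumB; norm_num at hsumB; done)
          | (exfalso; nlinarith [sq_nonneg (w a), sq_nonneg (w b)])
    have hb16 : w b ^ 2 = 16 := by linarith
    have hother : ∀ q, q ≠ a → q ≠ b → w q = 0 := by
      intro q hqa hqb
      apply hzero
      rw [hBab]
      simp [hqa, hqb]
    refine ⟨a, b, decide (w a = -4), decide (w b = -4), hab, ?_⟩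
    apply pk_eq_pkN hS
    intro q
    by_cases hqa : q = a
    · rw [if_pos hqa, hqa]
      rcases sq_eq_sixteen ha16 with h | h
      · rw [h]; norm_num
      · rw [h]; norm_num
    · rw [if_neg hqa]
      by_cases hqb : q = b
      · rw [if_pos hqb, hqb]
        rcases sq_eq_sixteen hb16 with h | h
        · rw [h]; norm_num
        · rw [h]; norm_num
      · rw [if_neg hqb, hother q hqa hqb]; norm_num
  · -- an octad
    right
    have hC32 : 32 ≤ ∑ i ∈ C, w i ^ 2 := by rw [hc] at hC4; push_cast at hC4; linarith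
    have hcz : ∑ i ∈ Cᶜ, w i ^ 2 = 0 := by linarith
    have hCs : ∑ i ∈ C, w i ^ 2 = 32 := by linarith
    have hzero : ∀ i, i ∉ C → w i = 0 := by
      intro i hi
      have := (Finset.sum_eq_zero_iff_of_nonneg (fun i _ => sq_nonneg (w i))).1 hcz i
        (Finset.mem_compl.2 hi)
      exact pow_eq_zero_iff (by norm_num) |>.1 this
    have hfour : ∀ i ∈ C, w i ^ 2 = 4 := by
      have h0 : ∑ i ∈ C, (w i ^ 2 - 4) = 0 := by
        rw [Finset.sum_sub_distrib, Finset.sum_const, hCs, hc]; norm_num
      intro i hi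
      have := (Finset.sum_eq_zero_iff_of_nonneg (fun i hi => by linarith [h4 i hi])).1 h0 i hi
      linarith
    set S := C.filter (fun i => w i = -2) with hSdef
    have hval : ∀ i ∈ C, w i = 2 - 4 * (if i ∈ S then (1 : ℤ) else 0) := by
      intro i hi
      rcases sq_eq_four (hfour i hi) with h | h
      · have : i ∉ S := by
          intro hs; have := (Finset.mem_filter.1 hs).2; rw [h] at this; norm_num at this
        rw [if_neg this, h]; norm_num
      · have : i ∈ S := Finset.mem_filter.2 ⟨hi, h⟩
        rw [if_pos this, h]; norm_num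
    have hsumw : ∑ i, w i = 16 - 4 * (S.card : ℤ) := by
      have h1 : ∑ i, w i = ∑ i ∈ C, w i := by
        symm
        apply Finset.sum_subset (Finset.subset_univ _)
        intro i _ hi
        exact hzero i hi
      rw [h1, Finset.sum_congr rfl hval, Finset.sum_sub_distrib, Finset.sum_const, ← Finset.mul_sum,
        Finset.sum_boole, hc]
      have h6 : (C.filter fun i => i ∈ S) = S := by
        ext i; simp only [Finset.mem_filter, hSdef]; tauto
      rw [h6]; norm_num
    refine ⟨C, ⟨hC, hc⟩, S, Finset.filter_subset _ _, ?_, ?_⟩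
    · rw [hsumw] at h8
      omega
    · apply pk_eq_pkN hS
      intro q
      by_cases hqS : q ∈ S
      · rw [if_pos hqS, (Finset.mem_filter.1 hqS).2]; norm_num
      · rw [if_neg hqS]
        by_cases hqC : q ∈ C
        · rw [if_pos hqC]
          have := hval q hqC
          rw [if_neg hqS] at this
          rw [this]; norm_num
        · rw [if_neg hqC, hzero q hqC]; norm_num
  · exfalso; rw [hc] at hC4; push_cast at hC4; linarith
  · exfalso; rw [hc] at hC4; push_cast at hC4; linarith
  · exfalso; rw [hc] at hC4; push_cast at hC4; linarith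

/-- **Classification of the minimal vectors.** -/
theorem min_cases (w : GolayPt → ℤ) (hw : w ∈ leechLattice) (hn : sqNorm w = 32) :
    (∃ a b sa sb, a ≠ b ∧ pk w = vecA a b sa sb) ∨
      (∃ O ∈ octads, ∃ S ⊆ O, 2 ∣ S.card ∧ pk w = vecB O S) ∨
      (∃ C ∈ supports (golayCode : Set (GolayPt → ZMod 2)), ∃ p, pk w = vecC C p) := by
  have hS : Short w := short_of_sqNorm (by rw [hn]; norm_num)
  rw [mem_leechLattice_iff] at hw
  obtain ⟨m, h1, h2, h3⟩ := hw
  have hsum : ∑ i, w i ^ 2 = 32 := hn
  rcases Int.emod_two_eq_zero_or_one m with hm | hm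
  · have hev : ∀ i, w i % 2 = 0 := by
      intro i; have := h1 i; unfold Int.ModEq at this; omega
    have h8 : (∑ i, w i) % 8 = 0 := by
      unfold Int.ModEq at h2; omega
    rcases min_even w hS hsum hev h8 (h3 2) with h | h
    · exact Or.inl h
    · exact Or.inr (Or.inl h)
  · have hodd : ∀ i, w i % 2 = 1 := by
      intro i; have := h1 i; unfold Int.ModEq at this; omega
    exact Or.inr (Or.inr (min_odd w hS hsum hodd (h3 3)))

end Cfsg.Agent.Helper26
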