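import Cfsg.Agent.Helper26.Co0Ltr
import Cfsg.Agent.Helper26.GolayCount
import Cfsg.Agent.Helper26.LeechMin

/-!
# Kernel enumeration of the 196560 minimal vectors of the lattice (packed), in blocks

`blockA`, `blockB`, `blockC` check a Boolean property `P a n` (`a` a certificate digit, `n` a
packed vector) on all minimal vectors of the three shapes; `minAll` concludes that every minimal
vector satisfies `P a (pk w)` for some `a`.
-/

set_option autoImplicit false

namespace Cfsg.Agent.Helper26

open Cfsg

/-- all nibbles `8` (the zero vector). -/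
def R8 : ℕ := 0x888888888888888888888888

/-- all nibbles `9` (the all-ones vector). -/
def R9 : ℕ := 0x999999999999999999999999

theorem R8_eq : pkN (fun _ => 8) = R8 := by
  rw [pkN_eq_range]
  simp only [Finset.sum_range_succ, Finset.sum_range_zero]
  norm_num [R8]

theorem R9_eq : pkN (fun _ => 9) = R9 := by
  rw [pkN_eq_range]
  simp only [Finset.sum_range_succ, Finset.sum_range_zero]
  norm_num [R9]

theorem pkN_single (p : GolayPt) (c : ℕ) :
    pkN (fun q => if q = p then c else 0) = c * 16 ^ idx p := by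
  unfold pkN
  rw [Finset.sum_eq_single p]
  · simp
  · intro q _ hq
    simp [hq]
  · intro h
    exact absurd (Finset.mem_univ p) h

/-- `∑ 16 ^ i` over a set of positions. -/
def spF (T : Finset ℕ) : ℕ := ∑ i ∈ T, 16 ^ i

theorem spF_image (A : Finset GolayPt) :
    spF (A.image idx) = pkN (fun q => if q ∈ A then 1 else 0) := by
  unfold spF
  rw [Finset.sum_image (fun x _ y _ h => idx_injective h), pkN_ind]
  apply Finset.sum_congr rfl
  intro q _
  rw [one_mul]

theorem shl4 (i : ℕ) : 4 <<< (4 * i) = 4 * 16 ^ i := by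
  rw [Nat.shiftLeft_eq, pow_mul]
  norm_num

theorem shl8 (i : ℕ) : 8 <<< (4 * i) = 8 * 16 ^ i := by
  rw [Nat.shiftLeft_eq, pow_mul]
  norm_num

/-- word number `a` of a table (`[]` beyond the end). -/
def nthW {α : Type} (tab : List (List α)) (a : ℕ) : List α :=
  List.rec (motive := fun _ => ℕ → List α) (fun _ => [])
    (fun g _ ih a => Nat.rec (motive := fun _ => List α) g (fun a' _ => ih a') a) tab a

theorem nthW_mem {α : Type} (tab : List (List α)) : ∀ a, nthW tab a = [] ∨ nthW tab a ∈ tab := by
  induction tab with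
  | nil => intro a; left; rfl
  | cons g t ih =>
    intro a
    cases a with
    | zero => right; exact List.mem_cons_self
    | succ a =>
      rcases ih a with h | h
      · left; exact h
      · right; exact List.mem_cons_of_mem _ h

/-- the descent test: word number `a` of the table makes the packed vector `n` smaller. -/
noncomputable def chk (tab : List (List Ltr)) (a n : ℕ) : Bool :=
  Nat.blt (actW (nthW tab a) n) n

theorem chk_spec (tab : List (List Ltr)) (a n : ℕ) (h : chk tab a n = true) :
    nthW tab a ∈ tab ∧ actW (nthW tab a) n < n := by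
  have h1 : actW (nthW tab a) n < n := by
    have h' : Nat.blt (actW (nthW tab a) n) n = true := h
    rwa [Nat.blt_eq] at h'
  refine ⟨?_, h1⟩
  rcases nthW_mem tab a with h2 | h2
  · rw [h2, actW_nil] at h1
    omega
  · exact h2

/-! ### Loops with explicit recursors (fast kernel evaluation) -/

theorem beq_bit (m k : ℕ) : Nat.beq ((m >>> k) &&& 1) 1 = m.testBit k := by
  rw [Nat.testBit_eq_decide_div_mod_eq, Nat.shiftRight_eq_div_pow, Nat.and_one_is_mod]
  rcases Nat.mod_two_eq_zero_or_one (m / 2 ^ k) with h | h <;> rw [h] <;> rfl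

/-- `∑ 16 ^ i` over the bits `i < n` of `m` (a fast version of `gsum`). -/
def sprdR (m n : ℕ) : ℕ :=
  Nat.rec (motive := fun _ => ℕ) 0
    (fun k ih => Nat.add ih (Nat.shiftLeft (Nat.land (Nat.shiftRight m k) 1) (Nat.mul 4 k))) n

theorem sprdR_eq (m n : ℕ) : sprdR m n = gsum (fun i => 16 ^ i) n m := by
  induction n with
  | zero => rfl
  | succ k ih =>
    show sprdR m k + ((m >>> k) &&& 1) <<< (4 * k) =
      gsum (fun i => 16 ^ i) k m + (if m.testBit k then 16 ^ k else 0)
    rw [ih, Nat.shiftLeft_eq, pow_mul, ← beq_bit]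
    congr 1
    rw [Nat.shiftRight_eq_div_pow, Nat.and_one_is_mod]
    rcases Nat.mod_two_eq_zero_or_one (m / 2 ^ k) with h | h <;> rw [h] <;> norm_num

/-- `f i` for all `i < n` (a fast version of `allBelow`). -/
def allBelowR (f : ℕ → Bool) (n : ℕ) : Bool :=
  Nat.rec (motive := fun _ => Bool) true (fun i ih => and (f i) ih) n

theorem allBelowR_eq (f : ℕ → Bool) (n : ℕ) : allBelowR f n = allBelow f n := by
  induction n with
  | zero => rfl
  | succ k ih =>
    show (f k && allBelowR f k) = (f k && allBelow f k)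
    rw [ih]

theorem allBelowR_spec (f : ℕ → Bool) (n : ℕ) (h : allBelowR f n = true) :
    ∀ k < n, f k = true := by
  rw [allBelowR_eq] at h
  exact allBelow_spec f n h

/-! ### Shape B: `±2` on an octad, evenly many minus signs -/

/-- the positions `i < k` of the bits of `m`, in decreasing order. -/
def posL (m : ℕ) : ℕ → List ℕ
  | 0 => []
  | k + 1 => if m.testBit k then k :: posL m k else posL m k

theorem mem_posL (m k i : ℕ) : i ∈ posL m k ↔ i < k ∧ m.testBit i = true := by
  induction k with
  | zero => simp [posL]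
  | succ k ih =>
    rw [posL]
    split_ifs with h
    · rw [List.mem_cons, ih]
      constructor
      · rintro (rfl | ⟨h1, h2⟩)
        · exact ⟨Nat.lt_succ_self _, h⟩
        · exact ⟨by omega, h2⟩
      · rintro ⟨h1, h2⟩
        by_cases hik : i = k
        · left; exact hik
        · right; exact ⟨by omega, h2⟩
    · rw [ih]
      constructor
      · rintro ⟨h1, h2⟩; exact ⟨by omega, h2⟩
      · rintro ⟨h1, h2⟩
        have : i ≠ k := by rintro rfl; exact h h2
        exact ⟨by omega, h2⟩

/-- a fast version of `posL`. -/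
def posR (m n : ℕ) : List ℕ :=
  Nat.rec (motive := fun _ => List ℕ) []
    (fun k ih => cond (Nat.beq (Nat.land (Nat.shiftRight m k) 1) 1) (k :: ih) ih) n

theorem posR_eq (m n : ℕ) : posR m n = posL m n := by
  induction n with
  | zero => rfl
  | succ k ih =>
    show cond (Nat.beq ((m >>> k) &&& 1) 1) (k :: posR m k) (posR m k) =
      if m.testBit k then k :: posL m k else posL m k
    rw [ih, beq_bit]
    cases m.testBit k <;> rfl

/-- sign patterns: the positions of `l` with a plus sign are chosen freely, the sign at `i1` is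
forced by the parity; the leaf number is `sh / 8`. -/
def foldB (P : ℕ → ℕ → Bool) (c i1 : ℕ) (l : List ℕ) (acc : ℕ) (par : Bool) (sh w : ℕ) : Bool :=
  List.rec (motive := fun _ => ℕ → Bool → ℕ → ℕ → Bool)
    (fun acc par sh _ => P (Nat.land (Nat.shiftRight c sh) 255)
      (cond par (Nat.add acc (Nat.shiftLeft 4 (Nat.mul 4 i1))) acc))
    (fun i _ ih acc par sh w =>
      and (ih acc par sh (Nat.mul 2 w))
        (ih (Nat.add acc (Nat.shiftLeft 4 (Nat.mul 4 i))) (not par) (Nat.add sh w) (Nat.mul 2 w)))
    l acc par sh w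

theorem foldB_nil (P : ℕ → ℕ → Bool) (c i1 acc : ℕ) (par : Bool) (sh w : ℕ) :
    foldB P c i1 [] acc par sh w =
      P ((c >>> sh) &&& 255) (cond par (acc + 4 <<< (4 * i1)) acc) := rfl

theorem foldB_cons (P : ℕ → ℕ → Bool) (c i1 i : ℕ) (l : List ℕ) (acc : ℕ) (par : Bool)
    (sh w : ℕ) :
    foldB P c i1 (i :: l) acc par sh w =
      (foldB P c i1 l acc par sh (2 * w) &&
        foldB P c i1 l (acc + 4 <<< (4 * i)) (!par) (sh + w) (2 * w)) := rfl

theorem foldB_spec (P : ℕ → ℕ → Bool) (c i1 : ℕ) (l : List ℕ) :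
    ∀ acc par sh w, foldB P c i1 l acc par sh w = true →
      ∀ T : Finset ℕ, T ⊆ l.toFinset →
        ∃ a, P a (acc + 4 * spF T + cond (xor par (Nat.bodd T.card)) (4 * 16 ^ i1) 0) = true := by
  induction l with
  | nil =>
    intro acc par sh w h T hT
    rw [foldB_nil] at h
    have hT0 : T = ∅ := by simpa using hT
    subst hT0
    refine ⟨(c >>> sh) &&& 255, ?_⟩
    cases par <;> simpa [spF, shl4] using h
  | cons i l ih =>
    intro acc par sh w h T hT
    rw [foldB_cons, Bool.and_eq_true] at h
    by_cases hi : i ∈ T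
    · have hT' : T.erase i ⊆ l.toFinset := by
        intro x hx
        have hx1 := Finset.mem_of_mem_erase hx
        have hx2 := Finset.ne_of_mem_erase hx
        have := hT hx1
        rw [List.toFinset_cons, Finset.mem_insert] at this
        exact this.resolve_left hx2
      obtain ⟨a, ha⟩ := ih _ _ _ _ h.2 (T.erase i) hT'
      refine ⟨a, ?_⟩
      have e1 : spF T = 16 ^ i + spF (T.erase i) := (Finset.add_sum_erase T _ hi).symm
      have e2 : T.card = (T.erase i).card + 1 := (Finset.card_erase_add_one hi).symm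
      rw [e1, e2, Nat.bodd_succ]
      rw [shl4] at ha
      have e3 : xor par (!Nat.bodd (T.erase i).card) = xor (!par) (Nat.bodd (T.erase i).card) := by
        cases par <;> cases Nat.bodd (T.erase i).card <;> rfl
      rw [e3]
      have e4 : acc + 4 * (16 ^ i + spF (T.erase i)) = acc + 4 * 16 ^ i + 4 * spF (T.erase i) := by
        ring
      rw [e4]
      exact ha
    · have hT' : T ⊆ l.toFinset := by
        intro x hx
        have := hT hx
        rw [List.toFinset_cons, Finset.mem_insert] at this
        rcases this with rfl | h'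
        · exact absurd hx hi
        · exact h'
      exact ih _ _ _ _ h.1 T hT'

/-- all vectors of shape B on the octad of mask `o`, with certificate `c`. -/
def blockBAux (P : ℕ → ℕ → Bool) (o c : ℕ) (L : List ℕ) : Bool :=
  List.rec (motive := fun _ => Bool) true
    (fun i1 l _ =>
      foldB P c i1 l (Nat.sub R8 (Nat.mul 2 (sprdR o 24))) false 0 8) L

theorem blockBAux_cons (P : ℕ → ℕ → Bool) (o c i1 : ℕ) (l : List ℕ) :
    blockBAux P o c (i1 :: l) =
      foldB P c i1 l (R8 - 2 * sprdR o 24) false 0 8 := rfl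

/-- all vectors of shape B on the octad of mask `o`, with certificate `c`. -/
def blockB (P : ℕ → ℕ → Bool) (o c : ℕ) : Bool := blockBAux P o c (posR o 24)

theorem vecB_eq (O S : Finset GolayPt) (hS : S ⊆ O) :
    R8 - 2 * pkN (fun q => if q ∈ O then 1 else 0) + 4 * spF ((O \ S).image idx) = vecB O S := by
  have h1 : pkN (fun q => if q ∈ O then 6 else 8) + 2 * pkN (fun q => if q ∈ O then 1 else 0) =
      R8 := by
    rw [← pkN_mul, ← pkN_add, ← R8_eq]
    refine congrArg pkN (funext fun q => ?_)
    split_ifs <;> rfl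
  have h3 : R8 - 2 * pkN (fun q => if q ∈ O then 1 else 0) =
      pkN (fun q => if q ∈ O then 6 else 8) := by omega
  rw [h3, spF_image, ← pkN_mul, ← pkN_add]
  unfold vecB
  refine congrArg pkN (funext fun q => ?_)
  by_cases hq : q ∈ S
  · have hqO : q ∈ O := hS hq
    simp [hq, hqO]
  · by_cases hqO : q ∈ O
    · simp [hq, hqO]
    · simp [hq, hqO]

theorem bodd_of_even {n : ℕ} (h : n % 2 = 0) : Nat.bodd n = false := by
  have := Nat.mod_two_of_bodd n
  cases hb : Nat.bodd n
  · rfl
  · rw [hb] at this
    simp at this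
    omega

theorem bodd_of_odd {n : ℕ} (h : n % 2 = 1) : Nat.bodd n = true := by
  have := Nat.mod_two_of_bodd n
  cases hb : Nat.bodd n
  · rw [hb] at this
    simp at this
    omega
  · rfl

theorem blockB_spec (P : ℕ → ℕ → Bool) (o c : ℕ) (hcard : (dec o).card = 8)
    (h : blockB P o c = true) (S : Finset GolayPt) (hS : S ⊆ dec o) (hSe : 2 ∣ S.card) :
    ∃ a, P a (vecB (dec o) S) = true := by
  have hpos : ∀ A : Finset GolayPt, A ⊆ dec o → A.image idx ⊆ (posL o 24).toFinset := by
    intro A hA i hi
    obtain ⟨p, hp, rfl⟩ := Finset.mem_image.1 hi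
    rw [List.mem_toFinset, mem_posL]
    exact ⟨idx_lt p, (mem_dec o p).1 (hA hp)⟩
  unfold blockB at h
  rw [posR_eq] at h
  cases hL : posL o 24 with
  | nil =>
    exfalso
    have h0 := hpos (dec o) (Finset.Subset.refl _)
    rw [hL, List.toFinset_nil, Finset.subset_empty, Finset.image_eq_empty] at h0
    rw [h0] at hcard
    simp at hcard
  | cons i1 l =>
    rw [hL, blockBAux_cons, sprdR_eq] at h
    have hTfsub : ((dec o) \ S).image idx ⊆ (i1 :: l).toFinset := by
      rw [← hL]
      exact hpos _ Finset.sdiff_subset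
    have hle : S.card ≤ 8 := hcard ▸ Finset.card_le_card hS
    have hTcard : (((dec o) \ S).image idx).card + S.card = 8 := by
      rw [Finset.card_image_of_injective _ idx_injective, ← hcard]
      exact Finset.card_sdiff_add_card_eq_card hS
    have hT' : (((dec o) \ S).image idx).erase i1 ⊆ l.toFinset := by
      intro x hx
      have hx1 := Finset.mem_of_mem_erase hx
      have hx2 := Finset.ne_of_mem_erase hx
      have := hTfsub hx1
      rw [List.toFinset_cons, Finset.mem_insert] at this
      exact this.resolve_left hx2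
    obtain ⟨a, ha⟩ := foldB_spec P c i1 l _ _ _ _ h _ hT'
    refine ⟨a, ?_⟩
    rw [← vecB_eq _ _ hS, ← gsum_pow_eq o]
    by_cases hi1 : i1 ∈ ((dec o) \ S).image idx
    · have e1 : spF (((dec o) \ S).image idx) =
          16 ^ i1 + spF ((((dec o) \ S).image idx).erase i1) :=
        (Finset.add_sum_erase _ _ hi1).symm
      have e2 := Finset.card_erase_add_one hi1
      have e3 : Nat.bodd ((((dec o) \ S).image idx).erase i1).card = true := by
        apply bodd_of_odd
        omega
      rw [e3] at ha
      simp only [Bool.false_xor, cond_true] at ha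
      rw [e1]
      have e4 : R8 - 2 * gsum (fun i => 16 ^ i) 24 o +
          4 * (16 ^ i1 + spF ((((dec o) \ S).image idx).erase i1)) =
          R8 - 2 * gsum (fun i => 16 ^ i) 24 o +
            4 * spF ((((dec o) \ S).image idx).erase i1) + 4 * 16 ^ i1 := by ring
      rw [e4]
      exact ha
    · have e1 : (((dec o) \ S).image idx).erase i1 = ((dec o) \ S).image idx :=
        Finset.erase_eq_of_notMem hi1
      rw [e1] at ha
      have e3 : Nat.bodd (((dec o) \ S).image idx).card = false := by
        apply bodd_of_even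
        omega
      rw [e3] at ha
      simpa using ha

/-- a list of blocks `o + c * 2 ^ 24`. -/
def segB (P : ℕ → ℕ → Bool) (seg : List ℕ) : Bool :=
  List.rec (motive := fun _ => Bool) true
    (fun e _ ih => and (blockB P (Nat.land e 16777215) (Nat.shiftRight e 24)) ih) seg

theorem segB_spec (P : ℕ → ℕ → Bool) (seg : List ℕ) (h : segB P seg = true) :
    ∀ e ∈ seg, blockB P (e &&& 16777215) (e >>> 24) = true := by
  induction seg with
  | nil => intro e he; simp at he
  | cons x l ih =>
    have h' : (blockB P (x &&& 16777215) (x >>> 24) && segB P l) = true := h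
    rw [Bool.and_eq_true] at h'
    intro e he
    rcases List.mem_cons.1 he with rfl | he'
    · exact h'.1
    · exact ih h'.2 e he'

/-! ### Shape C: `∓3` at one position, `±1` elsewhere, signs along a code word -/

/-- all vectors of shape C with sign set the code word number `k`, with certificate `c`. -/
def blockC (P : ℕ → ℕ → Bool) (k c : ℕ) : Bool :=
  allBelowR (fun i => P (Nat.land (Nat.shiftRight c (Nat.mul 8 i)) 255)
    (cond (Nat.beq (Nat.land (Nat.shiftRight (codeOf k) i) 1) 1)
      (Nat.add (Nat.sub R9 (Nat.mul 2 (sprdR (codeOf k) 24))) (Nat.shiftLeft 4 (Nat.mul 4 i)))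
      (Nat.sub (Nat.sub R9 (Nat.mul 2 (sprdR (codeOf k) 24))) (Nat.shiftLeft 4 (Nat.mul 4 i)))))
    24

theorem vecC_base (C : Finset GolayPt) :
    R9 - 2 * pkN (fun q => if q ∈ C then 1 else 0) = pkN (fun q => if q ∈ C then 7 else 9) := by
  have h1 : pkN (fun q => if q ∈ C then 7 else 9) + 2 * pkN (fun q => if q ∈ C then 1 else 0) =
      R9 := by
    rw [← pkN_mul, ← pkN_add, ← R9_eq]
    refine congrArg pkN (funext fun q => ?_)
    split_ifs <;> rfl
  omega

theorem vecC_pos (C : Finset GolayPt) (p : GolayPt) (hp : p ∈ C) :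
    R9 - 2 * pkN (fun q => if q ∈ C then 1 else 0) + 4 * 16 ^ idx p = vecC C p := by
  rw [vecC_base, ← pkN_single, ← pkN_add]
  unfold vecC
  refine congrArg pkN (funext fun q => ?_)
  by_cases hq : q = p
  · subst hq
    simp [hp]
  · simp [hq]

theorem vecC_neg (C : Finset GolayPt) (p : GolayPt) (hp : p ∉ C) :
    R9 - 2 * pkN (fun q => if q ∈ C then 1 else 0) - 4 * 16 ^ idx p = vecC C p := by
  have h : vecC C p + 4 * 16 ^ idx p = pkN (fun q => if q ∈ C then 7 else 9) := by
    rw [← pkN_single, vecC, ← pkN_add]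
    refine congrArg pkN (funext fun q => ?_)
    by_cases hq : q = p
    · subst hq
      simp [hp]
    · simp [hq]
  rw [vecC_base]
  omega

theorem blockC_spec (P : ℕ → ℕ → Bool) (k c : ℕ) (h : blockC P k c = true) (p : GolayPt) :
    ∃ a, P a (vecC (dec (codeOf k)) p) = true := by
  have h1 : P ((c >>> (8 * idx p)) &&& 255)
      (cond (Nat.beq ((codeOf k >>> idx p) &&& 1) 1)
        (R9 - 2 * sprdR (codeOf k) 24 + 4 <<< (4 * idx p))
        (R9 - 2 * sprdR (codeOf k) 24 - 4 <<< (4 * idx p))) = true :=
    allBelowR_spec _ _ h (idx p) (idx_lt p)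
  rw [beq_bit, sprdR_eq] at h1
  refine ⟨(c >>> (8 * idx p)) &&& 255, ?_⟩
  by_cases hp : p ∈ dec (codeOf k)
  · have hb : Nat.testBit (codeOf k) (idx p) = true := (mem_dec _ _).1 hp
    rw [hb] at h1
    rw [← vecC_pos _ _ hp, ← gsum_pow_eq, ← shl4]
    exact h1
  · have hb : Nat.testBit (codeOf k) (idx p) = false := by
      cases hb : Nat.testBit (codeOf k) (idx p)
      · rfl
      · exact absurd ((mem_dec _ _).2 hb) hp
    rw [hb] at h1
    rw [← vecC_neg _ _ hp, ← gsum_pow_eq, ← shl4]
    exact h1

/-- the blocks `k0, k0 + 1, …` with the certificates of the list. -/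
def segC (P : ℕ → ℕ → Bool) (k0 : ℕ) (certs : List ℕ) : Bool :=
  List.rec (motive := fun _ => ℕ → Bool) (fun _ => true)
    (fun c _ ih k => and (blockC P k c) (ih (Nat.add k 1))) certs k0

theorem segC_spec (P : ℕ → ℕ → Bool) (certs : List ℕ) :
    ∀ k0, segC P k0 certs = true → ∀ j < certs.length, ∃ c, blockC P (k0 + j) c = true := by
  induction certs with
  | nil => intro k0 _ j hj; simp at hj
  | cons c l ih =>
    intro k0 h j hj
    have h' : (blockC P k0 c && segC P (k0 + 1) l) = true := h
    rw [Bool.and_eq_true] at h'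
    cases j with
    | zero => exact ⟨c, h'.1⟩
    | succ j =>
      obtain ⟨c', hc'⟩ := ih (k0 + 1) h'.2 j (by simpa using hj)
      exact ⟨c', by rw [show k0 + (j + 1) = k0 + 1 + j by omega]; exact hc'⟩

/-! ### Shape A: `±4` at two positions -/

/-- nibbles `4` at `i` and `j`. -/
def baseA (i j : ℕ) : ℕ :=
  Nat.sub (Nat.sub R8 (Nat.shiftLeft 4 (Nat.mul 4 i))) (Nat.shiftLeft 4 (Nat.mul 4 j))

/-- all vectors of shape A, with certificate `c` (4 digits for each pair `i < j`, at digit
position `4 * (24 * i + j)`). -/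
def blockA (P : ℕ → ℕ → Bool) (c : ℕ) : Bool :=
  allBelowR (fun i => allBelowR (fun j => cond (Nat.blt i j)
    (and (and (and
      (P (Nat.land (Nat.shiftRight c (Nat.mul 32 (Nat.add (Nat.mul 24 i) j))) 255) (baseA i j))
      (P (Nat.land (Nat.shiftRight c (Nat.add (Nat.mul 32 (Nat.add (Nat.mul 24 i) j)) 8)) 255)
        (Nat.add (baseA i j) (Nat.shiftLeft 8 (Nat.mul 4 j)))))
      (P (Nat.land (Nat.shiftRight c (Nat.add (Nat.mul 32 (Nat.add (Nat.mul 24 i) j)) 16)) 255)
        (Nat.add (baseA i j) (Nat.shiftLeft 8 (Nat.mul 4 i)))))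
      (P (Nat.land (Nat.shiftRight c (Nat.add (Nat.mul 32 (Nat.add (Nat.mul 24 i) j)) 24)) 255)
        (Nat.add (Nat.add (baseA i j) (Nat.shiftLeft 8 (Nat.mul 4 i)))
          (Nat.shiftLeft 8 (Nat.mul 4 j)))))
    true) 24) 24

theorem vecA_comm (a b : GolayPt) (sa sb : Bool) (hab : a ≠ b) :
    vecA a b sa sb = vecA b a sb sa := by
  unfold vecA
  refine congrArg pkN (funext fun q => ?_)
  by_cases hqa : q = a
  · have hqb : q ≠ b := fun h => hab (hqa.symm.trans h)
    rw [if_pos hqa, if_neg hqb, if_pos hqa]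
  · rw [if_neg hqa]
    by_cases hqb : q = b
    · rw [if_pos hqb, if_pos hqb]
    · rw [if_neg hqb, if_neg hqb, if_neg hqa]

theorem vecA_val (a b : GolayPt) (sa sb : Bool) (hab : a ≠ b) :
    vecA a b sa sb + 4 * 16 ^ idx a + 4 * 16 ^ idx b =
      R8 + (cond sa 0 8) * 16 ^ idx a + (cond sb 0 8) * 16 ^ idx b := by
  rw [← pkN_single a 4, ← pkN_single b 4, ← pkN_single a (cond sa 0 8),
    ← pkN_single b (cond sb 0 8), ← R8_eq, vecA, ← pkN_add, ← pkN_add, ← pkN_add, ← pkN_add]
  refine congrArg pkN (funext fun q => ?_)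
  by_cases hqa : q = a
  · have hqb : q ≠ b := fun h => hab (hqa.symm.trans h)
    rw [if_pos hqa, if_pos hqa, if_neg hqb, if_pos hqa, if_neg hqb]
    cases sa <;> rfl
  · rw [if_neg hqa, if_neg hqa, if_neg hqa]
    by_cases hqb : q = b
    · rw [if_pos hqb, if_pos hqb, if_pos hqb]
      cases sb <;> rfl
    · rw [if_neg hqb, if_neg hqb, if_neg hqb]

theorem blockA_spec (P : ℕ → ℕ → Bool) (c : ℕ) (h : blockA P c = true) (a b : GolayPt)
    (sa sb : Bool) (hab : a ≠ b) : ∃ d, P d (vecA a b sa sb) = true := by
  have key : ∀ a b : GolayPt, ∀ sa sb : Bool, idx a < idx b → ∃ d, P d (vecA a b sa sb) = true := by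
    intro a b sa sb hlt
    have hab : a ≠ b := by rintro rfl; omega
    have h1 := allBelowR_spec _ _ (allBelowR_spec _ _ h (idx a) (idx_lt a)) (idx b) (idx_lt b)
    have hblt : Nat.blt (idx a) (idx b) = true := by rw [Nat.blt_eq]; exact hlt
    simp only [hblt, cond_true, Bool.and_eq_true] at h1
    obtain ⟨⟨⟨p1, p2⟩, p3⟩, p4⟩ := h1
    have hb : baseA (idx a) (idx b) = R8 - 4 * 16 ^ idx a - 4 * 16 ^ idx b := by
      show R8 - 4 <<< (4 * idx a) - 4 <<< (4 * idx b) = _
      rw [shl4, shl4]
    have v1 := vecA_val a b true true hab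
    have v := vecA_val a b sa sb hab
    simp only [cond_true, zero_mul, add_zero] at v1
    cases sa <;> cases sb
    · have e : vecA a b false false =
          baseA (idx a) (idx b) + 8 <<< (4 * idx a) + 8 <<< (4 * idx b) := by
        rw [hb, shl8, shl8]
        simp only [cond_false] at v
        omega
      exact ⟨_, by rw [e]; exact p4⟩
    · have e : vecA a b false true = baseA (idx a) (idx b) + 8 <<< (4 * idx a) := by
        rw [hb, shl8]
        simp only [cond_false, cond_true, zero_mul, add_zero] at v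
        omega
      exact ⟨_, by rw [e]; exact p3⟩
    · have e : vecA a b true false = baseA (idx a) (idx b) + 8 <<< (4 * idx b) := by
        rw [hb, shl8]
        simp only [cond_false, cond_true, zero_mul, add_zero] at v
        omega
      exact ⟨_, by rw [e]; exact p2⟩
    · have e : vecA a b true true = baseA (idx a) (idx b) := by
        rw [hb]
        omega
      exact ⟨_, by rw [e]; exact p1⟩
  rcases Nat.lt_or_ge (idx a) (idx b) with hlt | hge
  · exact key a b sa sb hlt
  · have hne : idx a ≠ idx b := fun h' => hab (idx_injective h')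
    rw [vecA_comm a b sa sb hab]
    exact key b a sb sa (by omega)

/-! ### All minimal vectors -/

/-- a property checked on the three shapes holds for every minimal vector. -/
theorem minAll (P : ℕ → ℕ → Bool) (hA : ∃ c, blockA P c = true)
    (hB : ∀ o ∈ octL, ∃ c, blockB P o c = true)
    (hC : ∀ k < 4096, ∃ c, blockC P k c = true)
    (w : GolayPt → ℤ) (hw : w ∈ leechLattice) (hn : sqNorm w = 32) :
    ∃ a, P a (pk w) = true := by
  rcases min_cases w hw hn with ⟨a, b, sa, sb, hab, h⟩ | ⟨O, hO, S, hS, hSe, h⟩ | ⟨C, hC', p, h⟩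
  · rw [h]
    obtain ⟨c, hc⟩ := hA
    exact blockA_spec P c hc a b sa sb hab
  · rw [h]
    obtain ⟨c, hc⟩ := hB _ ((mem_octL_iff O).2 hO)
    have := blockB_spec P (enc O) c (by rw [dec_enc]; exact octads_card hO) hc S
      (by rw [dec_enc]; exact hS) hSe
    rwa [dec_enc] at this
  · rw [h]
    have hcode : isCode (enc C) = true := (mem_supports_iff C).1 hC'
    obtain ⟨c, hc⟩ := hC (enc C % 4096) (Nat.mod_lt _ (by norm_num))
    have := blockC_spec P _ c hc p
    rwa [← eq_codeOf_of_isCode hcode, dec_enc] at this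

end Cfsg.Agent.Helper26
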