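import Cfsg.Agent.Helper26.Co0XiMem
import Cfsg.Agent.Helper91.Perm

/-!
# Letters and words: kernel-evaluable generators of `Cfsg.Co0` acting on packed vectors
-/

set_option autoImplicit false

namespace Cfsg.Agent.Helper26

open Cfsg Cfsg.Agent.Helper92

/-! ### Bitwise facts on packed numbers -/

theorem xor_split (k a b A B : ℕ) (hA : A < 2 ^ k) (hB : B < 2 ^ k) :
    (A + a * 2 ^ k) ^^^ (B + b * 2 ^ k) = (A ^^^ B) + (a ^^^ b) * 2 ^ k := by
  have hAB : A ^^^ B < 2 ^ k := Nat.xor_lt_two_pow hA hB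
  apply Nat.eq_of_testBit_eq
  intro j
  have e1 : A + a * 2 ^ k = 2 ^ k * a + A := by ring
  have e2 : B + b * 2 ^ k = 2 ^ k * b + B := by ring
  have e3 : (A ^^^ B) + (a ^^^ b) * 2 ^ k = 2 ^ k * (a ^^^ b) + (A ^^^ B) := by ring
  rw [Nat.testBit_xor, e1, e2, e3, Nat.testBit_two_pow_mul_add a hA, Nat.testBit_two_pow_mul_add b hB,
    Nat.testBit_two_pow_mul_add (a ^^^ b) hAB]
  by_cases hj : j < k
  · simp only [hj, if_true, Nat.testBit_xor]
  · simp only [hj, if_false, Nat.testBit_xor]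

theorem range_xor (F G : ℕ → ℕ) (hF : ∀ i, F i < 16) (hG : ∀ i, G i < 16) (n : ℕ) :
    (∑ i ∈ Finset.range n, F i * 16 ^ i) ^^^ (∑ i ∈ Finset.range n, G i * 16 ^ i) =
      ∑ i ∈ Finset.range n, (F i ^^^ G i) * 16 ^ i := by
  induction n with
  | zero => simp
  | succ n ih =>
    rw [Finset.sum_range_succ, Finset.sum_range_succ, Finset.sum_range_succ, ← ih]
    have h16 : (16 : ℕ) ^ n = 2 ^ (4 * n) := by rw [pow_mul]; norm_num
    rw [h16]
    apply xor_split
    · rw [← h16]; exact range_sum_lt F hF n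
    · rw [← h16]; exact range_sum_lt G hG n

theorem pkN_xor (g m : GolayPt → ℕ) (hg : ∀ p, g p < 16) (hm : ∀ p, m p < 16) :
    pkN g ^^^ pkN m = pkN (fun p => g p ^^^ m p) := by
  rw [pkN_eq_range, pkN_eq_range, pkN_eq_range]
  exact range_xor (fun i => g (pt i)) (fun i => m (pt i)) (fun i => hg _) (fun i => hm _) 24

theorem gsum_pow_eq (m : ℕ) :
    gsum (fun i => 16 ^ i) 24 m = pkN (fun q => if q ∈ dec m then 1 else 0) := by
  rw [gsum_dec, pkN_ind]
  apply Finset.sum_congr rfl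
  intro q _; rw [one_mul]

theorem xor_fifteen : ∀ g < 16, g ^^^ 15 = 15 - g := by decide

/-! ### The permutation part of a monomial letter -/

theorem shl_eq (a b : ℕ) : Nat.shiftLeft a b = a * 2 ^ b := Nat.shiftLeft_eq a b

/-- move nibble `i` of `n` to bit position `sᵢ` (24 explicit shifts, for fast kernel evaluation). -/
def perm24 (s0 s1 s2 s3 s4 s5 s6 s7 s8 s9 s10 s11 s12 s13 s14 s15 s16 s17 s18 s19 s20 s21 s22 s23 n : ℕ) : ℕ :=
  (Nat.add (Nat.add (Nat.add (Nat.add (Nat.add (Nat.add (Nat.add (Nat.add (Nat.add (Nat.add (Nat.add (Nat.add (Nat.add (Nat.add (Nat.add (Nat.add (Nat.add (Nat.add (Nat.add (Nat.add (Nat.add (Nat.add (Nat.add (Nat.shiftLeft (Nat.land n 15) s0) (Nat.shiftLeft (Nat.land (Nat.shiftRight n 4) 15) s1)) (Nat.shiftLeft (Nat.land (Nat.shiftRight n 8) 15) s2)) (Nat.shiftLeft (Nat.land (Nat.shiftRight n 12) 15) s3)) (Nat.shiftLeft (Nat.land (Nat.shiftRight n 16) 15) s4)) (Nat.shiftLeft (Nat.land (Nat.shiftRight n 20) 15)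 s5)) (Nat.shiftLeft (Nat.land (Nat.shiftRight n 24) 15) s6)) (Nat.shiftLeft (Nat.land (Nat.shiftRight n 28) 15) s7)) (Nat.shiftLeft (Nat.land (Nat.shiftRight n 32) 15) s8)) (Nat.shiftLeft (Nat.land (Nat.shiftRight n 36) 15) s9)) (Nat.shiftLeft (Nat.land (Nat.shiftRight n 40) 15) s10)) (Nat.shiftLeft (Nat.land (Nat.shiftRight n 44) 15) s11)) (Nat.shiftLeft (Nat.land (Nat.shiftRight n 48) 15) s12)) (Nat.shiftLeft (Nat.land (Nat.shiftRight n 52) 15) s13)) (Nat.shiftLeft (Nat.land (Nat.shiftRight n 56) 15) s14)) (Nat.shiftLeft (Nat.land (Nat.shiftRight n 60) 15) s15)) (Nat.shiftLeft (Nat.land (Nat.shiftRight n 64) 15) s16)) (Nat.shiftLeft (Nat.land (Nat.shiftRight n 68) 15) s17)) (Nat.shiftLeft (Nat.land (Nat.shiftRight n 72) 15) s18)) (Nat.shiftLeft (Nat.land (Nat.shiftRight n 76) 15) s19)) (Nat.shiftLeft (Nat.land (Nat.shiftRight n 80) 15) s20)) (Nat.shiftLeft (Nat.land (Nat.shiftRight n 84) 15) s21)) (Nat.shiftLeft (Nat.land (Nat.shiftRight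 n 88) 15) s22)) (Nat.shiftLeft (Nat.land (Nat.shiftRight n 92) 15) s23))

theorem perm24_eq (s0 s1 s2 s3 s4 s5 s6 s7 s8 s9 s10 s11 s12 s13 s14 s15 s16 s17 s18 s19 s20 s21 s22 s23 n : ℕ) :
    perm24 s0 s1 s2 s3 s4 s5 s6 s7 s8 s9 s10 s11 s12 s13 s14 s15 s16 s17 s18 s19 s20 s21 s22 s23 n =
      ∑ i ∈ Finset.range 24, nib n i * 2 ^ ([s0, s1, s2, s3, s4, s5, s6, s7, s8, s9, s10, s11, s12, s13, s14, s15, s16, s17, s18, s19, s20, s21, s22, s23].getD i 0) := by
  simp only [perm24, shl_eq, Finset.sum_range_succ, Finset.sum_range_zero, zero_add,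
    List.getD_cons_succ, List.getD_cons_zero]
  rfl

/-! ### Letters -/

/-- a letter: a monomial map (24 shifts, the masks `M = 15 * S`, `S` the spread of the code word
`D` of sign changes) or the non-monomial map. -/
inductive Ltr : Type
  | mono (s0 s1 s2 s3 s4 s5 s6 s7 s8 s9 s10 s11 s12 s13 s14 s15 s16 s17 s18 s19 s20 s21 s22 s23 M S D : ℕ) : Ltr
  | xi : Ltr

/-- action of a letter on a packed vector. -/
noncomputable def actL (l : Ltr) (n : ℕ) : ℕ :=
  Ltr.rec (motive := fun _ => ℕ)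
    (fun s0 s1 s2 s3 s4 s5 s6 s7 s8 s9 s10 s11 s12 s13 s14 s15 s16 s17 s18 s19 s20 s21 s22 s23 M S _ => Nat.add (Nat.xor (perm24 s0 s1 s2 s3 s4 s5 s6 s7 s8 s9 s10 s11 s12 s13 s14 s15 s16 s17 s18 s19 s20 s21 s22 s23 n) M) S)
    (xiP n) l

/-- validity of the data of a monomial letter. -/
def monoOK (sh : List ℕ) (M S D : ℕ) : Bool :=
  sh.all (fun s => s % 4 == 0) && Cfsg.Agent.Helper91.validTab (sh.map (· / 4)) &&
    Cfsg.Agent.Helper91.inM24 (sh.map (· / 4)) && isCode D &&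
    (S == gsum (fun i => 16 ^ i) 24 D) && (M == 15 * S)

/-- validity of a letter. -/
noncomputable def ltrOK (l : Ltr) : Bool :=
  Ltr.rec (motive := fun _ => Bool)
    (fun s0 s1 s2 s3 s4 s5 s6 s7 s8 s9 s10 s11 s12 s13 s14 s15 s16 s17 s18 s19 s20 s21 s22 s23 M S D => monoOK [s0, s1, s2, s3, s4, s5, s6, s7, s8, s9, s10, s11, s12, s13, s14, s15, s16, s17, s18, s19, s20, s21, s22, s23] M S D)
    true l

theorem idx91 (p : GolayPt) : Cfsg.Agent.Helper91.idx p = idx p := by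
  cases p <;> rfl

theorem mono_sound (sh : List ℕ) (M S D : ℕ) (h : monoOK sh M S D = true) :
    ∃ g : Co0, ∀ w : leechLattice, sqNorm (w : GolayPt → ℤ) < 64 →
      pk ((g • w : leechLattice) : GolayPt → ℤ) =
        Nat.add (Nat.xor (∑ i ∈ Finset.range 24, nib (pk (w : GolayPt → ℤ)) i * 2 ^ (sh.getD i 0)) M) S := by
  simp only [monoOK, Bool.and_eq_true, beq_iff_eq, List.all_eq_true] at h
  obtain ⟨⟨⟨⟨⟨h4, hv⟩, h24⟩, hD⟩, hS⟩, hM⟩ := h
  have hσ := Cfsg.Agent.Helper91.permT_mem_M24 hv h24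
  have hDlt : D < 2 ^ 24 := by
    rw [isCode_iff] at hD
    rw [← hD]; exact codeOf_lt D
  have hC : dec D ∈ supports (golayCode : Set (GolayPt → ZMod 2)) := by
    rw [mem_supports_iff, enc_dec D hDlt]; exact hD
  refine ⟨monoCo0 _ hσ _ hC, fun w hw => ?_⟩
  rw [monoCo0_smul]
  have hx : Short (w : GolayPt → ℤ) := short_of_sqNorm hw
  have hx' : Short (monoFun (Cfsg.Agent.Helper91.permT (sh.map (· / 4)) hv) (dec D) w) :=
    short_of_sqNorm (by rw [sqNorm_monoFun]; exact hw)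
  have hlen : sh.length = 24 := by
    have := Cfsg.Agent.Helper91.validTab_length hv
    simpa using this
  -- the permutation part
  have e1 : ∑ i ∈ Finset.range 24, nib (pk (w : GolayPt → ℤ)) i * 2 ^ (sh.getD i 0) =
      pkN (fun q => nibOf (w : GolayPt → ℤ)
        ((Cfsg.Agent.Helper91.permT (sh.map (· / 4)) hv).symm q)) := by
    unfold pkN
    rw [← Equiv.sum_comp (Cfsg.Agent.Helper91.permT (sh.map (· / 4)) hv), sum_pt]
    apply Finset.sum_congr rfl
    intro i hi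
    have hi' := Finset.mem_range.1 hi
    beta_reduce
    rw [Equiv.symm_apply_apply, nib_pk' hx i hi', Cfsg.Agent.Helper91.permT_apply, ← idx91,
      Cfsg.Agent.Helper91.idx_tabFun hv, idx91, idx_pt i hi']
    have h5 : (sh.map (· / 4)).getD i 0 = sh.getD i 0 / 4 := by
      have := List.getD_map sh 0 (n := i) (fun s => s / 4)
      simpa using this
    have h6 : sh.getD i 0 % 4 = 0 := by
      rw [List.getD_eq_getElem _ _ (by omega)]
      exact h4 _ (List.getElem_mem _)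
    rw [h5]
    have h7 : sh.getD i 0 = 4 * (sh.getD i 0 / 4) := by omega
    conv_lhs => rw [h7, pow_mul]
    norm_num
  rw [e1, hM, hS, gsum_pow_eq, ← pkN_mul]
  have hg : ∀ q, nibOf (w : GolayPt → ℤ)
      ((Cfsg.Agent.Helper91.permT (sh.map (· / 4)) hv).symm q) < 16 := fun q => nibOf_lt hx _
  have hm : ∀ q : GolayPt, 15 * (if q ∈ dec D then 1 else 0) < 16 := by
    intro q; split_ifs <;> norm_num
  show _ = (pkN _ ^^^ pkN _) + pkN _
  rw [pkN_xor _ _ hg hm, ← pkN_add]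
  unfold pk
  refine congrArg pkN ?_
  funext q
  have h8 := nibOf_cast hx ((Cfsg.Agent.Helper91.permT (sh.map (· / 4)) hv).symm q)
  have h9 := nibOf_cast hx' q
  have h10 := nibOf_lt hx ((Cfsg.Agent.Helper91.permT (sh.map (· / 4)) hv).symm q)
  have h11 := nibOf_pos hx ((Cfsg.Agent.Helper91.permT (sh.map (· / 4)) hv).symm q)
  by_cases hq : q ∈ dec D
  · simp only [if_pos hq, mul_one]
    rw [xor_fifteen _ h10]
    have hv9 : monoFun (Cfsg.Agent.Helper91.permT (sh.map (· / 4)) hv) (dec D) (w : GolayPt → ℤ) q =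
        -(w : GolayPt → ℤ) ((Cfsg.Agent.Helper91.permT (sh.map (· / 4)) hv).symm q) := by
      unfold monoFun; rw [if_pos hq]
    rw [hv9] at h9
    omega
  · simp only [if_neg hq, mul_zero, Nat.xor_zero, add_zero]
    have hv9 : monoFun (Cfsg.Agent.Helper91.permT (sh.map (· / 4)) hv) (dec D) (w : GolayPt → ℤ) q =
        (w : GolayPt → ℤ) ((Cfsg.Agent.Helper91.permT (sh.map (· / 4)) hv).symm q) := by
      unfold monoFun; rw [if_neg hq]
    rw [hv9] at h9
    omega

theorem ltr_sound (l : Ltr) (h : ltrOK l = true) :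
    ∃ g : Co0, ∀ w : leechLattice, sqNorm (w : GolayPt → ℤ) < 64 →
      pk ((g • w : leechLattice) : GolayPt → ℤ) = actL l (pk (w : GolayPt → ℤ)) := by
  cases l with
  | mono s0 s1 s2 s3 s4 s5 s6 s7 s8 s9 s10 s11 s12 s13 s14 s15 s16 s17 s18 s19 s20 s21 s22 s23 M S D =>
    obtain ⟨g, hg⟩ := mono_sound [s0, s1, s2, s3, s4, s5, s6, s7, s8, s9, s10, s11, s12, s13, s14, s15, s16, s17, s18, s19, s20, s21, s22, s23] M S D h
    refine ⟨g, fun w hw => ?_⟩
    rw [hg w hw, ← perm24_eq]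
    rfl
  | xi =>
    refine ⟨xiCo0, fun w hw => ?_⟩
    rw [xiCo0_smul]
    exact pk_xiF (evenOn_of_mem w.2) hw

/-- the element of `Co0` of a letter (`1` for invalid letters). -/
noncomputable def semL (l : Ltr) : Co0 :=
  if h : ltrOK l = true then Classical.choose (ltr_sound l h) else 1

theorem semL_spec (l : Ltr) (h : ltrOK l = true) (w : leechLattice)
    (hw : sqNorm (w : GolayPt → ℤ) < 64) :
    pk ((semL l • w : leechLattice) : GolayPt → ℤ) = actL l (pk (w : GolayPt → ℤ)) := by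
  unfold semL
  rw [dif_pos h]
  exact Classical.choose_spec (ltr_sound l h) w hw

/-! ### Words -/

/-- action of a word (the first letter acts first). -/
noncomputable def actW (wd : List Ltr) (n : ℕ) : ℕ :=
  List.rec (motive := fun _ => ℕ → ℕ) (fun n => n) (fun l _ ih n => ih (actL l n)) wd n

theorem actW_nil (n : ℕ) : actW [] n = n := rfl

theorem actW_cons (l : Ltr) (wd : List Ltr) (n : ℕ) : actW (l :: wd) n = actW wd (actL l n) := rfl

/-- the element of `Co0` of a word. -/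
noncomputable def semW : List Ltr → Co0
  | [] => 1
  | l :: wd => semW wd * semL l

/-- validity of a word. -/
noncomputable def wordOK (wd : List Ltr) : Bool := wd.all ltrOK

theorem actW_sound (wd : List Ltr) (h : wordOK wd = true) (w : leechLattice)
    (hw : sqNorm (w : GolayPt → ℤ) < 64) :
    pk ((semW wd • w : leechLattice) : GolayPt → ℤ) = actW wd (pk (w : GolayPt → ℤ)) := by
  induction wd generalizing w with
  | nil => simp [semW, actW_nil]
  | cons l wd ih =>
    simp only [wordOK, List.all_cons, Bool.and_eq_true] at h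
    rw [semW, mul_smul, actW_cons, ← semL_spec l h.1 w hw]
    exact ih h.2 (semL l • w) (by rw [co0_norm]; exact hw)

end Cfsg.Agent.Helper26
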