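import Cfsg.Agent.Helper26.LeechPack
import Cfsg.Agent.S0432
import Cfsg.Agent.S0433

/-!
# Monomial elements of `Cfsg.Co0` and basic facts on the action of `Co0`
-/

set_option autoImplicit false

namespace Cfsg.Agent.Helper26

open Cfsg Cfsg.Agent.Helper92

/-! ### General facts on `Co0` -/

theorem co0_smul_def (g : Co0) (v : leechLattice) : g • v = (g : Equiv.Perm leechLattice) v := rfl

theorem co0_add (g : Co0) (v w : leechLattice) : g • (v + w) = g • v + g • w := g.2.1 v w

theorem co0_norm (g : Co0) (v : leechLattice) :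
    sqNorm ((g • v : leechLattice) : GolayPt → ℤ) = sqNorm (v : GolayPt → ℤ) := g.2.2 v

theorem co0_dot (g : Co0) (v w : leechLattice) :
    dotInt ((g • v : leechLattice) : GolayPt → ℤ) ((g • w : leechLattice) : GolayPt → ℤ) =
      dotInt (v : GolayPt → ℤ) (w : GolayPt → ℤ) := by
  have h1 := co0_norm g (v + w)
  rw [co0_add] at h1
  have h2 : (((g • v + g • w : leechLattice)) : GolayPt → ℤ) =
      ((g • v : leechLattice) : GolayPt → ℤ) + ((g • w : leechLattice) : GolayPt → ℤ) := rfl
  have h3 : ((v + w : leechLattice) : GolayPt → ℤ) = (v : GolayPt → ℤ) + (w : GolayPt → ℤ) := rfl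
  rw [h2, h3, sqNorm_add, sqNorm_add, co0_norm, co0_norm] at h1
  linarith

theorem co0_neg (g : Co0) (v : leechLattice) : g • (-v) = -(g • v) := by
  have h := co0_add g v (-v)
  have h0 : g • (0 : leechLattice) = 0 := by
    have := co0_add g 0 0
    rw [add_zero] at this
    exact left_eq_add.mp this
  rw [add_neg_cancel, h0] at h
  exact (neg_eq_of_add_eq_zero_right h.symm).symm

/-! ### Monomial maps -/

/-- the monomial map: move coordinates along `σ`, then change the signs on `c`. -/
def monoFun (σ : Equiv.Perm GolayPt) (c : Finset GolayPt) (x : GolayPt → ℤ) : GolayPt → ℤ :=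
  fun q => if q ∈ c then -x (σ.symm q) else x (σ.symm q)

/-- the inverse of `monoFun`. -/
def monoInv (σ : Equiv.Perm GolayPt) (c : Finset GolayPt) (y : GolayPt → ℤ) : GolayPt → ℤ :=
  fun p => if σ p ∈ c then -y (σ p) else y (σ p)

theorem monoInv_monoFun (σ : Equiv.Perm GolayPt) (c : Finset GolayPt) (x : GolayPt → ℤ) :
    monoInv σ c (monoFun σ c x) = x := by
  funext p
  unfold monoInv monoFun
  by_cases h : σ p ∈ c <;> simp [h]

theorem monoFun_monoInv (σ : Equiv.Perm GolayPt) (c : Finset GolayPt) (y : GolayPt → ℤ) :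
    monoFun σ c (monoInv σ c y) = y := by
  funext q
  unfold monoInv monoFun
  by_cases h : q ∈ c <;> simp [h]

theorem monoFun_mem {σ : Equiv.Perm GolayPt} (hσ : σ ∈ M24) {c : Finset GolayPt}
    (hc : c ∈ supports (golayCode : Set (GolayPt → ZMod 2))) {x : GolayPt → ℤ}
    (hx : x ∈ leechLattice) : monoFun σ c x ∈ leechLattice :=
  Cfsg.Agent.S0433.result c hc _ (Cfsg.Agent.S0432.result σ⁻¹ (inv_mem hσ) x hx)

theorem monoInv_mem {σ : Equiv.Perm GolayPt} (hσ : σ ∈ M24) {c : Finset GolayPt}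
    (hc : c ∈ supports (golayCode : Set (GolayPt → ZMod 2))) {x : GolayPt → ℤ}
    (hx : x ∈ leechLattice) : monoInv σ c x ∈ leechLattice :=
  Cfsg.Agent.S0432.result σ hσ _ (Cfsg.Agent.S0433.result c hc x hx)

theorem monoFun_add (σ : Equiv.Perm GolayPt) (c : Finset GolayPt) (x y : GolayPt → ℤ) :
    monoFun σ c (x + y) = monoFun σ c x + monoFun σ c y := by
  funext q
  unfold monoFun
  by_cases h : q ∈ c <;> simp [h]
  ring

theorem sqNorm_monoFun (σ : Equiv.Perm GolayPt) (c : Finset GolayPt) (x : GolayPt → ℤ) :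
    sqNorm (monoFun σ c x) = sqNorm x := by
  unfold sqNorm
  rw [← Equiv.sum_comp σ.symm (fun p => x p ^ 2)]
  apply Finset.sum_congr rfl
  intro q _
  unfold monoFun
  by_cases h : q ∈ c <;> simp [h]

/-- the monomial permutation of the lattice. -/
def monoPerm (σ : Equiv.Perm GolayPt) (hσ : σ ∈ M24) (c : Finset GolayPt)
    (hc : c ∈ supports (golayCode : Set (GolayPt → ZMod 2))) : Equiv.Perm leechLattice where
  toFun w := ⟨monoFun σ c w, monoFun_mem hσ hc w.2⟩
  invFun w := ⟨monoInv σ c w, monoInv_mem hσ hc w.2⟩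
  left_inv w := Subtype.ext (monoInv_monoFun σ c w)
  right_inv w := Subtype.ext (monoFun_monoInv σ c w)

/-- the monomial element of `Co0`. -/
def monoCo0 (σ : Equiv.Perm GolayPt) (hσ : σ ∈ M24) (c : Finset GolayPt)
    (hc : c ∈ supports (golayCode : Set (GolayPt → ZMod 2))) : Co0 :=
  ⟨monoPerm σ hσ c hc, by
    refine ⟨fun v w => Subtype.ext ?_, fun v => ?_⟩
    · exact monoFun_add σ c v w
    · exact sqNorm_monoFun σ c v⟩

theorem monoCo0_smul (σ : Equiv.Perm GolayPt) (hσ : σ ∈ M24) (c : Finset GolayPt)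
    (hc : c ∈ supports (golayCode : Set (GolayPt → ZMod 2))) (w : leechLattice) :
    ((monoCo0 σ hσ c hc • w : leechLattice) : GolayPt → ℤ) = monoFun σ c w := rfl

end Cfsg.Agent.Helper26
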