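import Cfsg.Agent.Helper26.Co0Descent
import Cfsg.Agent.Helper26.Co0Count
import Cfsg.Agent.Helper92.LeechIrr

/-!
# Multi-class descent certificates for joint stabilisers, and packed selectors

* `stab_transM`: from one certificate (a digit for every minimal vector) for a table of words in
  a subgroup `K` of `Co0` and a class function `cls` on packed vectors, `K` is transitive on every
  `K`-invariant set of minimal vectors on which `cls` is constant `c + 1`.
* `dV`, `sU`, `dU`, `sX`: packed expressions of the inner products with the standard vectors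
  `Spor.leechV`, `Spor.leechU`, `Spor.leechU'` and `-(4 e_∞ + 4 e_22)`.
* `ncard_coe`, `ncard_smul`: transport of cardinalities.
-/

set_option autoImplicit false

namespace Cfsg.Agent.Helper26

open Cfsg

/-! ### Words and packed vectors -/

theorem word_maps (wd : List Ltr) (hok : wordOK wd = true) (v1 v2 : leechLattice)
    (h1 : sqNorm (v1 : GolayPt → ℤ) < 64) (h2 : sqNorm (v2 : GolayPt → ℤ) < 64)
    (h : actW wd (pk (v1 : GolayPt → ℤ)) = pk (v2 : GolayPt → ℤ)) : semW wd • v1 = v2 := by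
  have h3 := actW_sound wd hok v1 h1
  rw [h] at h3
  exact Subtype.ext (pk_injective (short_of_sqNorm (by rw [co0_norm]; exact h1))
    (short_of_sqNorm h2) h3)

theorem htab1 (tab : List (List Ltr)) (v1 : leechLattice)
    (h1 : sqNorm (v1 : GolayPt → ℤ) < 64) (p1 : ℕ) (hp1 : pk (v1 : GolayPt → ℤ) = p1)
    (t1 : tabOK tab p1 = true) :
    ∀ wd ∈ tab, wordOK wd = true ∧ semW wd ∈ MulAction.stabilizer Co0 v1 := by
  intro wd hwd
  have a := tabOK_spec tab p1 t1 v1 h1 hp1 wd hwd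
  exact ⟨a.1, MulAction.mem_stabilizer_iff.2 a.2⟩

theorem htab2 (tab : List (List Ltr)) (v1 v2 : leechLattice)
    (h1 : sqNorm (v1 : GolayPt → ℤ) < 64) (h2 : sqNorm (v2 : GolayPt → ℤ) < 64) (p1 p2 : ℕ)
    (hp1 : pk (v1 : GolayPt → ℤ) = p1) (hp2 : pk (v2 : GolayPt → ℤ) = p2)
    (t1 : tabOK tab p1 = true) (t2 : tabOK tab p2 = true) :
    ∀ wd ∈ tab, wordOK wd = true ∧
      semW wd ∈ MulAction.stabilizer Co0 v1 ⊓ MulAction.stabilizer Co0 v2 := by
  intro wd hwd
  have a := tabOK_spec tab p1 t1 v1 h1 hp1 wd hwd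
  have b := tabOK_spec tab p2 t2 v2 h2 hp2 wd hwd
  exact ⟨a.1, Subgroup.mem_inf.2 ⟨MulAction.mem_stabilizer_iff.2 a.2,
    MulAction.mem_stabilizer_iff.2 b.2⟩⟩

theorem htab3 (tab : List (List Ltr)) (v1 v2 v3 : leechLattice)
    (h1 : sqNorm (v1 : GolayPt → ℤ) < 64) (h2 : sqNorm (v2 : GolayPt → ℤ) < 64)
    (h3 : sqNorm (v3 : GolayPt → ℤ) < 64) (p1 p2 p3 : ℕ)
    (hp1 : pk (v1 : GolayPt → ℤ) = p1) (hp2 : pk (v2 : GolayPt → ℤ) = p2)
    (hp3 : pk (v3 : GolayPt → ℤ) = p3)
    (t1 : tabOK tab p1 = true) (t2 : tabOK tab p2 = true) (t3 : tabOK tab p3 = true) :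
    ∀ wd ∈ tab, wordOK wd = true ∧
      semW wd ∈ MulAction.stabilizer Co0 v1 ⊓ MulAction.stabilizer Co0 v2 ⊓
        MulAction.stabilizer Co0 v3 := by
  intro wd hwd
  have a := tabOK_spec tab p1 t1 v1 h1 hp1 wd hwd
  have b := tabOK_spec tab p2 t2 v2 h2 hp2 wd hwd
  have c := tabOK_spec tab p3 t3 v3 h3 hp3 wd hwd
  exact ⟨a.1, Subgroup.mem_inf.2 ⟨Subgroup.mem_inf.2 ⟨MulAction.mem_stabilizer_iff.2 a.2,
    MulAction.mem_stabilizer_iff.2 b.2⟩, MulAction.mem_stabilizer_iff.2 c.2⟩⟩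

/-! ### Descent inside a subgroup -/

/-- the descent argument inside a subgroup `K`. -/
theorem descentK (tab : List (List Ltr)) (K : Subgroup Co0)
    (htab : ∀ wd ∈ tab, wordOK wd = true ∧ semW wd ∈ K)
    (W : leechLattice → Prop) (hW : ∀ g ∈ K, ∀ w, W w → W (g • w))
    (hWn : ∀ w, W w → sqNorm (w : GolayPt → ℤ) < 64) (tgt : ℕ)
    (hstep : ∀ w, W w →
      pk (w : GolayPt → ℤ) = tgt ∨ ∃ a, chk tab a (pk (w : GolayPt → ℤ)) = true) :
    ∀ w, W w → ∃ g ∈ K, pk ((g • w : leechLattice) : GolayPt → ℤ) = tgt := by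
  have key : ∀ n, ∀ w, W w → pk (w : GolayPt → ℤ) = n →
      ∃ g ∈ K, pk ((g • w : leechLattice) : GolayPt → ℤ) = tgt := by
    intro n
    induction n using Nat.strong_induction_on with
    | _ n ih =>
      intro w hw hn
      rcases hstep w hw with h | ⟨a, ha⟩
      · exact ⟨1, K.one_mem, by rw [one_smul]; exact h⟩
      · obtain ⟨hmem, hlt⟩ := chk_spec tab a _ ha
        obtain ⟨hok, hK⟩ := htab _ hmem
        have hs := actW_sound _ hok w (hWn w hw)
        obtain ⟨g, hg1, hg2⟩ := ih _ (by rw [hs, ← hn]; exact hlt) (semW (nthW tab a) • w)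
          (hW _ hK w hw) rfl
        exact ⟨g * semW (nthW tab a), K.mul_mem hg1 hK, by rw [mul_smul]; exact hg2⟩
  exact fun w hw => key _ w hw rfl

/-- entry number `i` of a list of numbers (`0` beyond the end). -/
def nthN (l : List ℕ) (i : ℕ) : ℕ :=
  List.rec (motive := fun _ => ℕ → ℕ) (fun _ => 0)
    (fun g _ ih a => Nat.rec (motive := fun _ => ℕ) g (fun a' _ => ih a') a) l i

/-- the property checked on the minimal vectors for a multi-class descent certificate: a vector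
of class `c + 1` is the target number `c` or is made smaller by word number `a`. -/
noncomputable def descM (tab : List (List Ltr)) (cls : ℕ → ℕ) (tgts : List ℕ) (a n : ℕ) : Bool :=
  Nat.rec (motive := fun _ => Bool) true
    (fun c _ => or (Nat.beq n (nthN tgts c)) (chk tab a n)) (cls n)

theorem descM_spec (tab : List (List Ltr)) (cls : ℕ → ℕ) (tgts : List ℕ) (a n c : ℕ)
    (ha : descM tab cls tgts a n = true) (hs : cls n = c + 1) :
    n = nthN tgts c ∨ chk tab a n = true := by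
  unfold descM at ha
  rw [hs] at ha
  have ha' : (Nat.beq n (nthN tgts c) || chk tab a n) = true := ha
  rw [Bool.or_eq_true] at ha'
  rcases ha' with h | h
  · left
    exact Nat.eq_of_beq_eq_true h
  · right
    exact h

/-- transitivity of a subgroup `K` on an invariant set of minimal vectors of constant class. -/
theorem stab_transM (tab : List (List Ltr)) (K : Subgroup Co0)
    (htab : ∀ wd ∈ tab, wordOK wd = true ∧ semW wd ∈ K)
    (cls : ℕ → ℕ) (tgts : List ℕ)
    (hA : ∃ c, blockA (descM tab cls tgts) c = true)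
    (hB : ∀ o ∈ octL, ∃ c, blockB (descM tab cls tgts) o c = true)
    (hC : ∀ k < 4096, ∃ c, blockC (descM tab cls tgts) k c = true)
    (c : ℕ) (W : leechLattice → Prop) (hW : ∀ g ∈ K, ∀ w, W w → W (g • w))
    (hWn : ∀ w, W w → sqNorm (w : GolayPt → ℤ) = 32)
    (hsel : ∀ w, W w → cls (pk (w : GolayPt → ℤ)) = c + 1)
    (w w' : leechLattice) (hw : W w) (hw' : W w') :
    ∃ g ∈ K, g • w = w' := by
  have hWn' : ∀ w, W w → sqNorm (w : GolayPt → ℤ) < 64 := by
    intro w hw
    rw [hWn w hw]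
    norm_num
  have hstep : ∀ w, W w →
      pk (w : GolayPt → ℤ) = nthN tgts c ∨ ∃ a, chk tab a (pk (w : GolayPt → ℤ)) = true := by
    intro w hw
    obtain ⟨a, ha⟩ := minAll (descM tab cls tgts) hA hB hC (w : GolayPt → ℤ) w.2 (hWn w hw)
    rcases descM_spec tab cls tgts a _ c ha (hsel w hw) with h | h
    · left
      exact h
    · right
      exact ⟨a, h⟩
  obtain ⟨g1, a1, b1⟩ := descentK tab K htab W hW hWn' _ hstep w hw
  obtain ⟨g2, a2, b2⟩ := descentK tab K htab W hW hWn' _ hstep w' hw'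
  have e : g1 • w = g2 • w' := by
    apply Subtype.ext
    apply pk_injective (short_of_sqNorm (hWn' _ (hW g1 a1 w hw)))
      (short_of_sqNorm (hWn' _ (hW g2 a2 w' hw')))
    rw [b1, b2]
  refine ⟨g2⁻¹ * g1, K.mul_mem (K.inv_mem a2) a1, ?_⟩
  rw [mul_smul, e, inv_smul_smul]

/-! ### Transport of cardinalities -/

theorem ncard_coe (P : (GolayPt → ℤ) → Prop) :
    {x : leechLattice | P (x : GolayPt → ℤ)}.ncard =
      {x : GolayPt → ℤ | x ∈ leechLattice ∧ P x}.ncard := by
  rw [← Set.ncard_image_of_injective {x : leechLattice | P (x : GolayPt → ℤ)}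
    Subtype.val_injective]
  congr 1
  ext x
  constructor
  · rintro ⟨y, hy, rfl⟩
    exact ⟨y.2, hy⟩
  · rintro ⟨h1, h2⟩
    exact ⟨⟨x, h1⟩, h2, rfl⟩

theorem ncard_smul (g : Co0) (Q Q' : leechLattice → Prop) (h : ∀ x, Q x ↔ Q' (g • x)) :
    {x : leechLattice | Q x}.ncard = {x : leechLattice | Q' x}.ncard := by
  rw [← Set.ncard_image_of_injective {x : leechLattice | Q x} (MulAction.injective g)]
  congr 1
  ext y
  constructor
  · rintro ⟨x, hx, rfl⟩
    exact (h x).1 hx
  · intro hy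
    exact ⟨g⁻¹ • y, (h _).2 (by rw [smul_inv_smul]; exact hy), smul_inv_smul g y⟩

/-- counting a class of minimal vectors given by a packed test. -/
theorem ncard_class (Q : leechLattice → Prop) (sel : ℕ → Bool) (N : ℕ)
    (hQ : ∀ x : leechLattice, Q x ↔
      (sqNorm (x : GolayPt → ℤ) = 32 ∧ sel (pk (x : GolayPt → ℤ)) = true))
    (h : cntAll sel = N) : {x : leechLattice | Q x}.ncard = N := by
  have e : {x : leechLattice | Q x} = {x : leechLattice |
      sqNorm (x : GolayPt → ℤ) = 32 ∧ sel (pk (x : GolayPt → ℤ)) = true} := by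
    ext x
    exact hQ x
  rw [e, ncard_coe (fun x => sqNorm x = 32 ∧ sel (pk x) = true)]
  exact minCount sel N h

theorem conj_fix (g h : Co0) (u : leechLattice) (hu : h • (g • u) = g • u) :
    (g⁻¹ * h * g) • u = u := by
  rw [mul_smul, mul_smul, hu, inv_smul_smul]

theorem conj_map (g h : Co0) (x x' : leechLattice) (hx : h • (g • x) = g • x') :
    (g⁻¹ * h * g) • x = x' := by
  rw [mul_smul, mul_smul, hx, inv_smul_smul]

/-! ### Packed selectors -/

/-- `(224 - V · x) mod 15` for the packed minimal vector `x`, `V = Spor.leechV`. -/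
def dV (n : ℕ) : ℕ :=
  Nat.mod (Nat.add (Nat.mod n 15) (Nat.mul 4 (Nat.land (Nat.shiftRight n 92) 15))) 15

/-- `x_0 + x_∞ + 16`. -/
def sU (n : ℕ) : ℕ := Nat.add (Nat.land n 15) (Nat.land (Nat.shiftRight n 92) 15)

/-- `x_∞ - x_0 + 16`. -/
def dU (n : ℕ) : ℕ := Nat.sub (Nat.add (Nat.land (Nat.shiftRight n 92) 15) 16) (Nat.land n 15)

/-- `x_22 + x_∞ + 16`. -/
def sX (n : ℕ) : ℕ :=
  Nat.add (Nat.land (Nat.shiftRight n 88) 15) (Nat.land (Nat.shiftRight n 92) 15)

theorem nib_cast0 {w : GolayPt → ℤ} (hS : Short w) :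
    ((Nat.land (pk w) 15 : ℕ) : ℤ) = w (some 0) + 8 := by
  have h0 : nib (pk w) 0 = nibOf w (pt 0) := nib_pk' hS 0 (by norm_num)
  have c0 := nibOf_cast hS (pt 0)
  have e0 : pt 0 = some 0 := by decide
  rw [e0] at c0 h0
  have : Nat.land (pk w) 15 = nib (pk w) 0 := by simp [nib]
  rw [this, h0, c0]

theorem nib_cast23 {w : GolayPt → ℤ} (hS : Short w) :
    ((Nat.land (Nat.shiftRight (pk w) 92) 15 : ℕ) : ℤ) = w none + 8 := by
  have h0 : nib (pk w) 23 = nibOf w (pt 23) := nib_pk' hS 23 (by norm_num)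
  have c0 := nibOf_cast hS (pt 23)
  have e0 : pt 23 = none := by decide
  rw [e0] at c0 h0
  have : Nat.land (Nat.shiftRight (pk w) 92) 15 = nib (pk w) 23 := by simp [nib]
  rw [this, h0, c0]

theorem nib_cast22 {w : GolayPt → ℤ} (hS : Short w) :
    ((Nat.land (Nat.shiftRight (pk w) 88) 15 : ℕ) : ℤ) = w (some 22) + 8 := by
  have h0 : nib (pk w) 22 = nibOf w (pt 22) := nib_pk' hS 22 (by norm_num)
  have c0 := nibOf_cast hS (pt 22)
  have e0 : pt 22 = some 22 := by decide
  rw [e0] at c0 h0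
  have : Nat.land (Nat.shiftRight (pk w) 88) 15 = nib (pk w) 22 := by simp [nib]
  rw [this, h0, c0]

theorem sU_cast {w : GolayPt → ℤ} (hS : Short w) :
    ((sU (pk w) : ℕ) : ℤ) = w (some 0) + w none + 16 := by
  have a := nib_cast0 hS
  have b := nib_cast23 hS
  show ((Nat.land (pk w) 15 + Nat.land (Nat.shiftRight (pk w) 92) 15 : ℕ) : ℤ) = _
  push_cast
  omega

theorem dU_cast {w : GolayPt → ℤ} (hS : Short w) :
    ((dU (pk w) : ℕ) : ℤ) = w none - w (some 0) + 16 := by
  have a := nib_cast0 hS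
  have b := nib_cast23 hS
  have h1 := (hS (some 0)).2
  have h2 := (hS none).1
  show ((Nat.land (Nat.shiftRight (pk w) 92) 15 + 16 - Nat.land (pk w) 15 : ℕ) : ℤ) = _
  omega

theorem sX_cast {w : GolayPt → ℤ} (hS : Short w) :
    ((sX (pk w) : ℕ) : ℤ) = w (some 22) + w none + 16 := by
  have a := nib_cast22 hS
  have b := nib_cast23 hS
  show ((Nat.land (Nat.shiftRight (pk w) 88) 15 +
    Nat.land (Nat.shiftRight (pk w) 92) 15 : ℕ) : ℤ) = _
  push_cast
  omega

theorem dot_leechU' (w : GolayPt → ℤ) :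
    dotInt (Spor.leechU' : GolayPt → ℤ) w = 4 * w none - 4 * w (some 0) := by
  show ∑ p, Spor.vecU' p * w p = _
  rw [Fintype.sum_option]
  have h : ∀ a : ZMod 23, Spor.vecU' (some a) * w (some a) =
      if a = 0 then -4 * w (some 0) else 0 := by
    intro a
    unfold Spor.vecU'
    by_cases h : a = 0
    · simp [h]
    · simp [h]
  simp only [h, Finset.sum_ite_eq', Finset.mem_univ, if_true]
  simp [Spor.vecU']
  ring

theorem dot_leechV (w : GolayPt → ℤ) :
    dotInt (Spor.leechV : GolayPt → ℤ) w = -(∑ p, w p) - 4 * w none := by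
  show ∑ p, Spor.vecV p * w p = _
  have h : ∀ p : GolayPt, Spor.vecV p * w p = -w p - (if p = none then 4 * w none else 0) := by
    intro p
    unfold Spor.vecV
    by_cases h : p = none
    · simp [h]; ring
    · simp [h]
  simp only [h, Finset.sum_sub_distrib, Finset.sum_neg_distrib, Finset.sum_ite_eq',
    Finset.mem_univ, if_true]

theorem pk_mod15 {w : GolayPt → ℤ} (hS : Short w) :
    (15 : ℤ) ∣ (pk w : ℤ) - ((∑ p, w p) + 192) := by
  have h1 : (pk w : ℤ) = ∑ p, (w p + 8) * 16 ^ idx p := by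
    unfold pk pkN
    push_cast
    apply Finset.sum_congr rfl
    intro p _
    rw [nibOf_cast hS p]
  have h2 : (∑ p : GolayPt, w p) + 192 = ∑ p : GolayPt, (w p + 8) := by
    rw [Finset.sum_add_distrib]
    simp
  rw [h1, h2, ← Finset.sum_sub_distrib]
  apply Finset.dvd_sum
  intro p _
  have h3 : (w p + 8) * 16 ^ idx p - (w p + 8) = (w p + 8) * (16 ^ idx p - 1 ^ idx p) := by
    rw [one_pow]; ring
  rw [h3]
  exact Dvd.dvd.mul_left (by
    have := sub_dvd_pow_sub_pow (16 : ℤ) 1 (idx p)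
    norm_num at this
    simpa using this) _

/-- the packed expression of the inner product with `Spor.leechV`. -/
theorem dV_spec (w : GolayPt → ℤ) (hw : w ∈ leechLattice) (hn : sqNorm w = 32) :
    ∃ k : ℤ, dotInt (Spor.leechV : GolayPt → ℤ) w = 8 * k ∧ -4 ≤ k ∧ k ≤ 4 ∧
      ((dV (pk w) : ℕ) : ℤ) = (224 - 8 * k) % 15 := by
  have hS : Short w := short_of_sqNorm (by rw [hn]; norm_num)
  obtain ⟨k, hk⟩ := Cfsg.Agent.Helper92.leech_eight_dvd_dotInt Spor.leechV.2 hw
  have hcs : (dotInt (Spor.leechV : GolayPt → ℤ) w) ^ 2 ≤ 48 * 32 := by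
    have h := Finset.sum_mul_sq_le_sq_mul_sq Finset.univ (Spor.leechV : GolayPt → ℤ) w
    have h48 : sqNorm (Spor.leechV : GolayPt → ℤ) = 48 := Cfsg.Agent.Helper92.sqNorm_leechV
    unfold sqNorm at h48 hn
    unfold dotInt
    rw [h48, hn] at h
    exact h
  rw [hk] at hcs
  have hk1 : -4 ≤ k := by nlinarith
  have hk2 : k ≤ 4 := by nlinarith
  refine ⟨k, hk, hk1, hk2, ?_⟩
  have hd := dot_leechV w
  rw [hk] at hd
  obtain ⟨q, hq⟩ := pk_mod15 hS
  have b := nib_cast23 hS
  show (((pk w % 15 + 4 * Nat.land (Nat.shiftRight (pk w) 92) 15) % 15 : ℕ) : ℤ) = _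
  omega

theorem dV_iff (w : GolayPt → ℤ) (hw : w ∈ leechLattice) (hn : sqNorm w = 32) (j : ℤ) (c : ℕ)
    (hj : -4 ≤ j ∧ j ≤ 4) (hc : (c : ℤ) = (224 - 8 * j) % 15) :
    dotInt (Spor.leechV : GolayPt → ℤ) w = 8 * j ↔ dV (pk w) = c := by
  obtain ⟨k, h1, h2, h3, h4⟩ := dV_spec w hw hn
  constructor
  · intro h
    omega
  · intro h
    rw [h] at h4
    omega

end Cfsg.Agent.Helper26
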