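import Cfsg.Agent.Helper26.Co0Mono

/-!
# The tetrad operations and the non-monomial map `xiF` (semantic side and packed side)
-/

set_option autoImplicit false

namespace Cfsg.Agent.Helper26

open Cfsg Cfsg.Agent.Helper92

/-- on the 4-set `T`: replace each coordinate by `s * (half the sum over T - coordinate)`. -/
def tetOp (s : ℤ) (T : Finset GolayPt) (x : GolayPt → ℤ) : GolayPt → ℤ :=
  fun p => if p ∈ T then s * ((∑ q ∈ T, x q) / 2 - x p) else x p

theorem tetOp_mem {s : ℤ} {T : Finset GolayPt} {x : GolayPt → ℤ} {k : ℤ}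
    (hk : ∑ q ∈ T, x q = 2 * k) {p : GolayPt} (hp : p ∈ T) : tetOp s T x p = s * (k - x p) := by
  simp only [tetOp, if_pos hp, hk]
  rw [Int.mul_ediv_cancel_left _ (by norm_num)]

theorem tetOp_not_mem {s : ℤ} {T : Finset GolayPt} {x : GolayPt → ℤ} {p : GolayPt}
    (hp : p ∉ T) : tetOp s T x p = x p := by
  simp only [tetOp, if_neg hp]

theorem sum_tetOp_same {s : ℤ} {T : Finset GolayPt} (hT : T.card = 4) {x : GolayPt → ℤ} {k : ℤ}
    (hk : ∑ q ∈ T, x q = 2 * k) : ∑ q ∈ T, tetOp s T x q = 2 * (s * k) := by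
  have h1 : ∀ q ∈ T, tetOp s T x q = s * k - s * x q := by
    intro q hq
    rw [tetOp_mem hk hq]; ring
  rw [Finset.sum_congr rfl h1, Finset.sum_sub_distrib, Finset.sum_const, ← Finset.mul_sum, hk, hT]
  simp only [nsmul_eq_mul, Nat.cast_ofNat]
  ring

theorem sum_tetOp_disj {s : ℤ} {T T' : Finset GolayPt} {x : GolayPt → ℤ} (h : Disjoint T T') :
    ∑ q ∈ T', tetOp s T x q = ∑ q ∈ T', x q := by
  apply Finset.sum_congr rfl
  intro q hq
  exact tetOp_not_mem (fun hq' => Finset.disjoint_left.1 h hq' hq)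

theorem dot_tetOp {s : ℤ} (hs : s * s = 1) {T : Finset GolayPt} (hT : T.card = 4)
    {x y : GolayPt → ℤ} {k k' : ℤ} (hx : ∑ q ∈ T, x q = 2 * k) (hy : ∑ q ∈ T, y q = 2 * k') :
    dotInt (tetOp s T x) (tetOp s T y) = dotInt x y := by
  unfold dotInt
  rw [← Finset.sum_add_sum_compl T (fun p => tetOp s T x p * tetOp s T y p),
    ← Finset.sum_add_sum_compl T (fun p => x p * y p)]
  congr 1
  · have h1 : ∀ p ∈ T, tetOp s T x p * tetOp s T y p =
        k * k' - k * y p - k' * x p + x p * y p := by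
      intro p hp
      rw [tetOp_mem hx hp, tetOp_mem hy hp]
      linear_combination (k - x p) * (k' - y p) * hs
    rw [Finset.sum_congr rfl h1, Finset.sum_add_distrib, Finset.sum_sub_distrib,
      Finset.sum_sub_distrib, Finset.sum_const, ← Finset.mul_sum, ← Finset.mul_sum, hx, hy, hT]
    simp only [nsmul_eq_mul, Nat.cast_ofNat]
    ring
  · apply Finset.sum_congr rfl
    intro p hp
    have hp' : p ∉ T := Finset.mem_compl.1 hp
    rw [tetOp_not_mem hp', tetOp_not_mem hp']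

theorem tetOp_add {s : ℤ} {T : Finset GolayPt} {x y : GolayPt → ℤ} {k k' : ℤ}
    (hx : ∑ q ∈ T, x q = 2 * k) (hy : ∑ q ∈ T, y q = 2 * k') :
    tetOp s T (x + y) = tetOp s T x + tetOp s T y := by
  funext p
  have hxy : ∑ q ∈ T, (x + y) q = 2 * (k + k') := by
    simp only [Pi.add_apply, Finset.sum_add_distrib, hx, hy]; ring
  by_cases hp : p ∈ T
  · rw [Pi.add_apply, tetOp_mem hxy hp, tetOp_mem hx hp, tetOp_mem hy hp, Pi.add_apply]; ring
  · rw [Pi.add_apply, tetOp_not_mem hp, tetOp_not_mem hp, tetOp_not_mem hp, Pi.add_apply]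

theorem tetOp_tetOp {s : ℤ} (hs : s * s = 1) {T : Finset GolayPt} (hT : T.card = 4)
    {x : GolayPt → ℤ} {k : ℤ} (hx : ∑ q ∈ T, x q = 2 * k) : tetOp s T (tetOp s T x) = x := by
  funext p
  have h2 := sum_tetOp_same (s := s) hT hx
  by_cases hp : p ∈ T
  · rw [tetOp_mem h2 hp, tetOp_mem hx hp]
    linear_combination (x p) * hs
  · rw [tetOp_not_mem hp, tetOp_not_mem hp]

/-! ### The six tetrads of a sextet -/

/-- masks of the six tetrads of the sextet containing the tetrad of points 0,1,2,3. -/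
def tetM : List ℕ := [15, 5264, 8536096, 4196928, 622848, 3416064]

theorem tetM_card : ∀ m ∈ tetM, (dec m).card = 4 := by
  intro m hm
  rw [card_eq_pc24, enc_dec m (by revert m hm; decide)]
  revert m hm; decide

theorem tetM_disj : ∀ m ∈ tetM, ∀ m' ∈ tetM, m = m' ∨ Disjoint (dec m) (dec m') := by
  intro m hm m' hm'
  rw [disjoint_iff_enc, enc_dec m (by revert m hm; decide), enc_dec m' (by revert m' hm'; decide)]
  revert m hm m' hm'; decide

/-- vectors whose sum over each of the six tetrads is even. -/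
def EvenOn (x : GolayPt → ℤ) : Prop := ∀ m ∈ tetM, ∃ k : ℤ, ∑ q ∈ dec m, x q = 2 * k

theorem EvenOn.add {x y : GolayPt → ℤ} (hx : EvenOn x) (hy : EvenOn y) : EvenOn (x + y) := by
  intro m hm
  obtain ⟨k, hk⟩ := hx m hm
  obtain ⟨k', hk'⟩ := hy m hm
  refine ⟨k + k', ?_⟩
  simp only [Pi.add_apply, Finset.sum_add_distrib, hk, hk']; ring

theorem evenOn_of_mem {x : GolayPt → ℤ} (hx : x ∈ leechLattice) : EvenOn x := by
  rw [mem_leechLattice_iff, mem_leechSet_iff] at hx
  obtain ⟨m0, h1, -, -⟩ := hx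
  intro m hm
  have hc := tetM_card m hm
  have h2 : (∑ q ∈ dec m, x q) % 2 = 0 := by
    rw [Finset.sum_int_mod]
    have h3 : ∀ q ∈ dec m, x q % 2 = m0 % 2 := fun q _ => h1 q
    rw [Finset.sum_congr rfl h3, Finset.sum_const, hc]
    simp only [nsmul_eq_mul, Nat.cast_ofNat]
    omega
  exact ⟨(∑ q ∈ dec m, x q) / 2, by omega⟩

/-- a pair of mutually inverse maps that are additive and preserve `dotInt` on `EvenOn` vectors. -/
structure LatOp (F G : (GolayPt → ℤ) → (GolayPt → ℤ)) : Prop where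
  evF : ∀ x, EvenOn x → EvenOn (F x)
  evG : ∀ x, EvenOn x → EvenOn (G x)
  addF : ∀ x y, EvenOn x → EvenOn y → F (x + y) = F x + F y
  addG : ∀ x y, EvenOn x → EvenOn y → G (x + y) = G x + G y
  dotF : ∀ x y, EvenOn x → EvenOn y → dotInt (F x) (F y) = dotInt x y
  dotG : ∀ x y, EvenOn x → EvenOn y → dotInt (G x) (G y) = dotInt x y
  GF : ∀ x, EvenOn x → G (F x) = x
  FG : ∀ x, EvenOn x → F (G x) = x

theorem LatOp.comp {F1 G1 F2 G2 : (GolayPt → ℤ) → (GolayPt → ℤ)} (h1 : LatOp F1 G1)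
    (h2 : LatOp F2 G2) : LatOp (fun x => F1 (F2 x)) (fun x => G2 (G1 x)) where
  evF x hx := h1.evF _ (h2.evF x hx)
  evG x hx := h2.evG _ (h1.evG x hx)
  addF x y hx hy := by
    show F1 (F2 (x + y)) = F1 (F2 x) + F1 (F2 y)
    rw [h2.addF x y hx hy, h1.addF _ _ (h2.evF x hx) (h2.evF y hy)]
  addG x y hx hy := by
    show G2 (G1 (x + y)) = G2 (G1 x) + G2 (G1 y)
    rw [h1.addG x y hx hy, h2.addG _ _ (h1.evG x hx) (h1.evG y hy)]
  dotF x y hx hy := by
    show dotInt (F1 (F2 x)) (F1 (F2 y)) = dotInt x y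
    rw [h1.dotF _ _ (h2.evF x hx) (h2.evF y hy), h2.dotF x y hx hy]
  dotG x y hx hy := by
    show dotInt (G2 (G1 x)) (G2 (G1 y)) = dotInt x y
    rw [h2.dotG _ _ (h1.evG x hx) (h1.evG y hy), h1.dotG x y hx hy]
  GF x hx := by
    show G2 (G1 (F1 (F2 x))) = x
    rw [h1.GF _ (h2.evF x hx), h2.GF x hx]
  FG x hx := by
    show F1 (F2 (G2 (G1 x))) = x
    rw [h2.FG _ (h1.evG x hx), h1.FG x hx]

theorem evenOn_tetOp {s : ℤ} {m : ℕ} (hm : m ∈ tetM) {x : GolayPt → ℤ} (hx : EvenOn x) :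
    EvenOn (tetOp s (dec m) x) := by
  intro m' hm'
  obtain ⟨k, hk⟩ := hx m hm
  rcases tetM_disj m hm m' hm' with h | h
  · subst h
    exact ⟨s * k, sum_tetOp_same (tetM_card m hm) hk⟩
  · obtain ⟨k', hk'⟩ := hx m' hm'
    exact ⟨k', by rw [sum_tetOp_disj h, hk']⟩

theorem latOp_tet {s : ℤ} (hs : s * s = 1) {m : ℕ} (hm : m ∈ tetM) :
    LatOp (tetOp s (dec m)) (tetOp s (dec m)) where
  evF _ hx := evenOn_tetOp hm hx
  evG _ hx := evenOn_tetOp hm hx
  addF x y hx hy := by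
    obtain ⟨k, hk⟩ := hx m hm
    obtain ⟨k', hk'⟩ := hy m hm
    exact tetOp_add hk hk'
  addG x y hx hy := by
    obtain ⟨k, hk⟩ := hx m hm
    obtain ⟨k', hk'⟩ := hy m hm
    exact tetOp_add hk hk'
  dotF x y hx hy := by
    obtain ⟨k, hk⟩ := hx m hm
    obtain ⟨k', hk'⟩ := hy m hm
    exact dot_tetOp hs (tetM_card m hm) hk hk'
  dotG x y hx hy := by
    obtain ⟨k, hk⟩ := hx m hm
    obtain ⟨k', hk'⟩ := hy m hm
    exact dot_tetOp hs (tetM_card m hm) hk hk'
  GF x hx := by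
    obtain ⟨k, hk⟩ := hx m hm
    exact tetOp_tetOp hs (tetM_card m hm) hk
  FG x hx := by
    obtain ⟨k, hk⟩ := hx m hm
    exact tetOp_tetOp hs (tetM_card m hm) hk

/-- the non-monomial map (Conway's `ξ` for the sextet `tetM`). -/
def xiF (x : GolayPt → ℤ) : GolayPt → ℤ :=
  tetOp (-1) (dec 15) (tetOp 1 (dec 5264) (tetOp 1 (dec 8536096) (tetOp 1 (dec 4196928)
    (tetOp 1 (dec 622848) (tetOp 1 (dec 3416064) x)))))

/-- the inverse of `xiF` (the same operations in the opposite order). -/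
def xiG (x : GolayPt → ℤ) : GolayPt → ℤ :=
  tetOp 1 (dec 3416064) (tetOp 1 (dec 622848) (tetOp 1 (dec 4196928) (tetOp 1 (dec 8536096)
    (tetOp 1 (dec 5264) (tetOp (-1) (dec 15) x)))))

theorem latOp_xi : LatOp xiF xiG :=
  (latOp_tet (s := -1) (by norm_num) (m := 15) (by decide)).comp
    ((latOp_tet (s := 1) (by norm_num) (m := 5264) (by decide)).comp
      ((latOp_tet (s := 1) (by norm_num) (m := 8536096) (by decide)).comp
        ((latOp_tet (s := 1) (by norm_num) (m := 4196928) (by decide)).comp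
          ((latOp_tet (s := 1) (by norm_num) (m := 622848) (by decide)).comp
            (latOp_tet (s := 1) (by norm_num) (m := 3416064) (by decide))))))

theorem sqNorm_xiF {x : GolayPt → ℤ} (hx : EvenOn x) : sqNorm (xiF x) = sqNorm x := by
  rw [← dotInt_self, ← dotInt_self, latOp_xi.dotF x x hx hx]

theorem sqNorm_xiG {x : GolayPt → ℤ} (hx : EvenOn x) : sqNorm (xiG x) = sqNorm x := by
  rw [← dotInt_self, ← dotInt_self, latOp_xi.dotG x x hx hx]

end Cfsg.Agent.Helper26
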