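import Cfsg.Agent.Helper26.LeechDual

/-!
# A Boolean lattice-membership test on packed vectors, and the element `xiCo0` of `Cfsg.Co0`
-/

set_option autoImplicit false

namespace Cfsg.Agent.Helper26

open Cfsg Cfsg.Agent.Helper92

/-- `∑ i < k, w i`. -/
def nsum (w : ℕ → ℕ) : ℕ → ℕ
  | 0 => 0
  | k + 1 => nsum w k + w k

theorem nsum_eq (w : ℕ → ℕ) (k : ℕ) : nsum w k = ∑ i ∈ Finset.range k, w i := by
  induction k with
  | zero => rfl
  | succ k ih => rw [nsum, ih, Finset.sum_range_succ]

/-- Boolean test: the packed vector `n` lies in the lattice. -/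
def leechOK (n : ℕ) : Bool :=
  allBelow (fun i => nib n i % 2 == nib n 0 % 2) 24 &&
    ((nsum (fun i => nib n i) 24 + 4 * (nib n 0 % 2)) % 8 == 0) &&
    isCode (nsum (fun i => nib n i / 2 % 2 * 2 ^ i) 24)

theorem leechOK_sound {y : GolayPt → ℤ} (hy : Short y) (h : leechOK (pk y) = true) :
    y ∈ leechLattice := by
  simp only [leechOK, Bool.and_eq_true, beq_iff_eq] at h
  obtain ⟨⟨h1, h2⟩, h3⟩ := h
  have hpar := allBelow_spec _ _ h1
  have hn : ∀ i < 24, nib (pk y) i = nibOf y (pt i) := fun i hi => nib_pk' hy i hi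
  have hparp : ∀ p, nibOf y p % 2 = nibOf y (pt 0) % 2 := by
    intro p
    have := hpar (idx p) (idx_lt p)
    rw [beq_iff_eq, hn _ (idx_lt p), hn 0 (by norm_num), pt_idx] at this
    exact this
  rw [mem_leechLattice_iff, mem_leechSet_iff]
  refine ⟨((nibOf y (pt 0) % 2 : ℕ) : ℤ), ?_, ?_, ?_⟩
  · intro p
    have := hparp p
    have := nibOf_cast hy p
    unfold Int.ModEq
    omega
  · have e : nsum (fun i => nib (pk y) i) 24 = ∑ p, nibOf y p := by
      rw [nsum_eq, sum_pt]
      apply Finset.sum_congr rfl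
      intro i hi
      exact hn i (Finset.mem_range.1 hi)
    have e2 : ((∑ p, nibOf y p : ℕ) : ℤ) = (∑ p, y p) + 192 := by
      rw [Nat.cast_sum, Finset.sum_congr rfl (fun p _ => nibOf_cast hy p),
        Finset.sum_add_distrib, Finset.sum_const, Finset.card_univ, card_golayPt]
      norm_num
    rw [e, hn 0 (by norm_num)] at h2
    unfold Int.ModEq
    omega
  · rw [mem_supports_iff]
    have e3 : enc (lvl y ((nibOf y (pt 0) % 2 : ℕ) : ℤ)) =
        nsum (fun i => nib (pk y) i / 2 % 2 * 2 ^ i) 24 := by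
      rw [nsum_eq]
      unfold enc lvl
      rw [Finset.sum_filter, sum_pt]
      apply Finset.sum_congr rfl
      intro i hi
      have hi' := Finset.mem_range.1 hi
      rw [idx_pt i hi', hn i hi']
      have h4 := hparp (pt i)
      have h5 := nibOf_cast hy (pt i)
      by_cases hc : y (pt i) ≡ ((nibOf y (pt 0) % 2 : ℕ) : ℤ) + 2 [ZMOD 4]
      · rw [if_pos hc]
        unfold Int.ModEq at hc
        have : nibOf y (pt i) / 2 % 2 = 1 := by omega
        rw [this, one_mul]
      · rw [if_neg hc]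
        unfold Int.ModEq at hc
        have : nibOf y (pt i) / 2 % 2 = 0 := by omega
        rw [this, zero_mul]
    rw [e3]
    exact h3

/-- the Boolean checks made on a test vector. -/
def testOK (t : GolayPt → ℤ) : Bool :=
  decide (sqNorm t < 64) && leechOK (pk t) && leechOK (xiP (pk t)) && leechOK (xiGP (pk t))

theorem testOK_sound {t : GolayPt → ℤ} (h : testOK t = true) :
    t ∈ leechLattice ∧ xiF t ∈ leechLattice ∧ xiG t ∈ leechLattice := by
  simp only [testOK, Bool.and_eq_true, decide_eq_true_eq] at h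
  obtain ⟨⟨⟨h0, h1⟩, h2⟩, h3⟩ := h
  have ht : t ∈ leechLattice := leechOK_sound (short_of_sqNorm h0) h1
  have hE := evenOn_of_mem ht
  refine ⟨ht, ?_, ?_⟩
  · apply leechOK_sound (short_of_sqNorm (by rw [sqNorm_xiF hE]; exact h0))
    rw [pk_xiF hE h0]; exact h2
  · apply leechOK_sound (short_of_sqNorm (by rw [sqNorm_xiG hE]; exact h0))
    rw [pk_xiG hE h0]; exact h3

theorem testA_check : ∀ b : GolayPt, b ≠ none → testOK (tA b) = true := by decide +kernel

theorem testC_check : testOK tC = true := by decide +kernel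

theorem testB_check : ∀ b ∈ basisL, testOK (tB b) = true := by decide +kernel

theorem dvd_dot_xiF {w t : GolayPt → ℤ} (hw : w ∈ leechLattice) (ht : testOK t = true) :
    (8 : ℤ) ∣ dotInt (xiF w) t := by
  obtain ⟨h1, -, h3⟩ := testOK_sound ht
  rw [← latOp_xi.FG t (evenOn_of_mem h1),
    latOp_xi.dotF w (xiG t) (evenOn_of_mem hw) (evenOn_of_mem h3)]
  exact leech_eight_dvd_dotInt hw h3

theorem dvd_dot_xiG {w t : GolayPt → ℤ} (hw : w ∈ leechLattice) (ht : testOK t = true) :
    (8 : ℤ) ∣ dotInt (xiG w) t := by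
  obtain ⟨h1, h2, -⟩ := testOK_sound ht
  rw [← latOp_xi.GF t (evenOn_of_mem h1),
    latOp_xi.dotG w (xiF t) (evenOn_of_mem hw) (evenOn_of_mem h2)]
  exact leech_eight_dvd_dotInt hw h2

theorem xiF_mem {w : GolayPt → ℤ} (hw : w ∈ leechLattice) : xiF w ∈ leechLattice :=
  detect _ (fun b hb => dvd_dot_xiF hw (testA_check b hb)) (dvd_dot_xiF hw testC_check)
    (fun b hb => dvd_dot_xiF hw (testB_check b hb))

theorem xiG_mem {w : GolayPt → ℤ} (hw : w ∈ leechLattice) : xiG w ∈ leechLattice :=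
  detect _ (fun b hb => dvd_dot_xiG hw (testA_check b hb)) (dvd_dot_xiG hw testC_check)
    (fun b hb => dvd_dot_xiG hw (testB_check b hb))

/-- the non-monomial permutation of the lattice. -/
def xiPerm : Equiv.Perm leechLattice where
  toFun w := ⟨xiF w, xiF_mem w.2⟩
  invFun w := ⟨xiG w, xiG_mem w.2⟩
  left_inv w := Subtype.ext (latOp_xi.GF w (evenOn_of_mem w.2))
  right_inv w := Subtype.ext (latOp_xi.FG w (evenOn_of_mem w.2))

/-- the non-monomial element of `Co0`. -/
def xiCo0 : Co0 :=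
  ⟨xiPerm, by
    refine ⟨fun v w => Subtype.ext ?_, fun v => ?_⟩
    · exact latOp_xi.addF v w (evenOn_of_mem v.2) (evenOn_of_mem w.2)
    · exact sqNorm_xiF (evenOn_of_mem v.2)⟩

theorem xiCo0_smul (w : leechLattice) :
    ((xiCo0 • w : leechLattice) : GolayPt → ℤ) = xiF w := rfl

end Cfsg.Agent.Helper26
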