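import Cfsg.Agent.Helper26.Co0Xi

/-!
# Packed evaluation of the tetrad operations and of `xiF`, `xiG`
-/

set_option autoImplicit false

namespace Cfsg.Agent.Helper26

open Cfsg Cfsg.Agent.Helper92

/-- sum of `w i` over the bits `i < k` of the mask `m`. -/
def gsum (w : ℕ → ℕ) : ℕ → ℕ → ℕ
  | 0, _ => 0
  | k + 1, m => gsum w k m + (if m.testBit k then w k else 0)

theorem gsum_eq (w : ℕ → ℕ) (k m : ℕ) :
    gsum w k m = ∑ i ∈ Finset.range k, if m.testBit i then w i else 0 := by
  induction k with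
  | zero => rfl
  | succ k ih => rw [gsum, ih, Finset.sum_range_succ]

theorem gsum_dec (w : ℕ → ℕ) (m : ℕ) : gsum w 24 m = ∑ q ∈ dec m, w (idx q) := by
  rw [gsum_eq, dec, Finset.sum_filter, sum_pt]
  apply Finset.sum_congr rfl
  intro i hi
  rw [idx_pt i (Finset.mem_range.1 hi)]

theorem pkN_ind (T : Finset GolayPt) (g : GolayPt → ℕ) :
    pkN (fun q => if q ∈ T then g q else 0) = ∑ q ∈ T, g q * 16 ^ idx q := by
  unfold pkN
  have h : ∀ q, (if q ∈ T then g q else 0) * 16 ^ idx q = if q ∈ T then g q * 16 ^ idx q else 0 := by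
    intro q; split_ifs <;> simp
  simp only [h]
  rw [← Finset.sum_filter]
  congr 1
  ext q; simp

/-- packed form of a tetrad operation on the tetrad of mask `m` (`neg` for the sign `-1`). -/
def tetP (neg : Bool) (m n : ℕ) : ℕ :=
  cond neg
    (n + 16 * gsum (fun i => 16 ^ i) 24 m
      - gsum (fun i => nib n i) 24 m / 2 * gsum (fun i => 16 ^ i) 24 m)
    (n + gsum (fun i => nib n i) 24 m / 2 * gsum (fun i => 16 ^ i) 24 m
      - 2 * gsum (fun i => nib n i * 16 ^ i) 24 m)

theorem pk_tetOp (neg : Bool) {m : ℕ} (hm : (dec m).card = 4) {x : GolayPt → ℤ} (hx : Short x)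
    {k : ℤ} (hk : ∑ q ∈ dec m, x q = 2 * k)
    (hx' : Short (tetOp (if neg then -1 else 1) (dec m) x)) :
    pk (tetOp (if neg then -1 else 1) (dec m) x) = tetP neg m (pk x) := by
  have hS : gsum (fun i => 16 ^ i) 24 m = pkN (fun q => if q ∈ dec m then 1 else 0) := by
    rw [gsum_dec, pkN_ind]
    apply Finset.sum_congr rfl
    intro q _; rw [one_mul]
  have hH : gsum (fun i => nib (pk x) i) 24 m = ∑ q ∈ dec m, nibOf x q := by
    rw [gsum_dec]
    apply Finset.sum_congr rfl
    intro q _; exact nib_pk hx q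
  have hR : gsum (fun i => nib (pk x) i * 16 ^ i) 24 m =
      pkN (fun q => if q ∈ dec m then nibOf x q else 0) := by
    rw [gsum_dec, pkN_ind]
    apply Finset.sum_congr rfl
    intro q _; rw [nib_pk hx q]
  have hsum : ((∑ q ∈ dec m, nibOf x q : ℕ) : ℤ) = 2 * (k + 16) := by
    rw [Nat.cast_sum, Finset.sum_congr rfl (fun q _ => nibOf_cast hx q), Finset.sum_add_distrib,
      hk, Finset.sum_const, hm]
    simp only [nsmul_eq_mul, Nat.cast_ofNat]
    ring
  obtain ⟨hN, hhN⟩ : ∃ hN : ℕ, (hN : ℤ) = k + 16 := ⟨(k + 16).toNat, by omega⟩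
  have hdiv : (∑ q ∈ dec m, nibOf x q) / 2 = hN := by omega
  cases neg with
  | true =>
    simp only [if_true] at hx' ⊢
    have e1 : pkN (nibOf (tetOp (-1) (dec m) x)) + hN * pkN (fun q => if q ∈ dec m then 1 else 0) =
        pkN (nibOf x) + 16 * pkN (fun q => if q ∈ dec m then 1 else 0) := by
      rw [← pkN_mul, ← pkN_mul, ← pkN_add, ← pkN_add]
      congr 1
      funext q
      by_cases hq : q ∈ dec m
      · simp only [if_pos hq, mul_one]
        have h1 := nibOf_cast hx q
        have h2 := nibOf_cast hx' q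
        rw [tetOp_mem hk hq] at h2
        omega
      · simp only [if_neg hq, mul_zero, add_zero]
        unfold nibOf
        rw [tetOp_not_mem hq]
    unfold tetP
    simp only [cond_true]
    rw [hS, hH, hdiv]
    exact Nat.eq_sub_of_add_eq e1
  | false =>
    simp only [Bool.false_eq_true, if_false] at hx' ⊢
    have e1 : pkN (nibOf (tetOp 1 (dec m) x)) + 2 * pkN (fun q => if q ∈ dec m then nibOf x q else 0) =
        pkN (nibOf x) + hN * pkN (fun q => if q ∈ dec m then 1 else 0) := by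
      rw [← pkN_mul, ← pkN_mul, ← pkN_add, ← pkN_add]
      congr 1
      funext q
      by_cases hq : q ∈ dec m
      · simp only [if_pos hq, mul_one]
        have h1 := nibOf_cast hx q
        have h2 := nibOf_cast hx' q
        rw [tetOp_mem hk hq] at h2
        omega
      · simp only [if_neg hq, mul_zero, add_zero]
        unfold nibOf
        rw [tetOp_not_mem hq]
    unfold tetP
    simp only [cond_false]
    rw [hS, hH, hR, hdiv]
    exact Nat.eq_sub_of_add_eq e1

theorem pk_step (neg : Bool) {m : ℕ} (hm : m ∈ tetM) {x : GolayPt → ℤ} (hE : EvenOn x)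
    (hn : sqNorm x < 64) :
    EvenOn (tetOp (if neg then -1 else 1) (dec m) x) ∧
      sqNorm (tetOp (if neg then -1 else 1) (dec m) x) < 64 ∧
      pk (tetOp (if neg then -1 else 1) (dec m) x) = tetP neg m (pk x) := by
  have hs : (if neg then (-1 : ℤ) else 1) * (if neg then -1 else 1) = 1 := by
    cases neg <;> norm_num
  obtain ⟨k, hk⟩ := hE m hm
  have hnorm : sqNorm (tetOp (if neg then -1 else 1) (dec m) x) = sqNorm x := by
    rw [← dotInt_self, ← dotInt_self, dot_tetOp hs (tetM_card m hm) hk hk]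
  refine ⟨evenOn_tetOp hm hE, by rw [hnorm]; exact hn, ?_⟩
  exact pk_tetOp neg (tetM_card m hm) (short_of_sqNorm hn) hk
    (short_of_sqNorm (by rw [hnorm]; exact hn))

theorem pk_step_pos {m : ℕ} (hm : m ∈ tetM) {x : GolayPt → ℤ} (hE : EvenOn x)
    (hn : sqNorm x < 64) :
    EvenOn (tetOp 1 (dec m) x) ∧ sqNorm (tetOp 1 (dec m) x) < 64 ∧
      pk (tetOp 1 (dec m) x) = tetP false m (pk x) := by
  simpa using pk_step false hm hE hn

theorem pk_step_neg {m : ℕ} (hm : m ∈ tetM) {x : GolayPt → ℤ} (hE : EvenOn x)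
    (hn : sqNorm x < 64) :
    EvenOn (tetOp (-1) (dec m) x) ∧ sqNorm (tetOp (-1) (dec m) x) < 64 ∧
      pk (tetOp (-1) (dec m) x) = tetP true m (pk x) := by
  simpa using pk_step true hm hE hn

/-- packed form of `xiF`. -/
def xiP (n : ℕ) : ℕ :=
  tetP true 15 (tetP false 5264 (tetP false 8536096 (tetP false 4196928
    (tetP false 622848 (tetP false 3416064 n)))))

/-- packed form of `xiG`. -/
def xiGP (n : ℕ) : ℕ :=
  tetP false 3416064 (tetP false 622848 (tetP false 4196928 (tetP false 8536096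
    (tetP false 5264 (tetP true 15 n)))))

theorem pk_xiF {x : GolayPt → ℤ} (hE : EvenOn x) (hn : sqNorm x < 64) :
    pk (xiF x) = xiP (pk x) := by
  obtain ⟨e6, n6, p6⟩ := pk_step_pos (m := 3416064) (by decide) hE hn
  obtain ⟨e5, n5, p5⟩ := pk_step_pos (m := 622848) (by decide) e6 n6
  obtain ⟨e4, n4, p4⟩ := pk_step_pos (m := 4196928) (by decide) e5 n5
  obtain ⟨e3, n3, p3⟩ := pk_step_pos (m := 8536096) (by decide) e4 n4
  obtain ⟨e2, n2, p2⟩ := pk_step_pos (m := 5264) (by decide) e3 n3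
  obtain ⟨e1, n1, p1⟩ := pk_step_neg (m := 15) (by decide) e2 n2
  unfold xiF xiP
  rw [p1, p2, p3, p4, p5, p6]

theorem pk_xiG {x : GolayPt → ℤ} (hE : EvenOn x) (hn : sqNorm x < 64) :
    pk (xiG x) = xiGP (pk x) := by
  obtain ⟨e6, n6, p6⟩ := pk_step_neg (m := 15) (by decide) hE hn
  obtain ⟨e5, n5, p5⟩ := pk_step_pos (m := 5264) (by decide) e6 n6
  obtain ⟨e4, n4, p4⟩ := pk_step_pos (m := 8536096) (by decide) e5 n5
  obtain ⟨e3, n3, p3⟩ := pk_step_pos (m := 4196928) (by decide) e4 n4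
  obtain ⟨e2, n2, p2⟩ := pk_step_pos (m := 622848) (by decide) e3 n3
  obtain ⟨e1, n1, p1⟩ := pk_step_pos (m := 3416064) (by decide) e2 n2
  unfold xiG xiGP
  rw [p1, p2, p3, p4, p5, p6]

end Cfsg.Agent.Helper26
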