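import Cfsg.Agent.Helper26.Co3Cert

/-!
# The stabiliser of `(-5, -1^23)`: transitivity on two classes of minimal vectors

* `co3_trans16`, `co3_trans24`: the stabiliser of `Spor.leechV` in `Co0` is transitive on the
  minimal vectors of inner product `-16`, resp. `24`, with it.
* `co3_count16`: there are `11178` minimal vectors of inner product `-16`.
* `pair48`: `Co0` is transitive on the pairs of vectors of squared length 48 with inner
  product `-32`; `swap48`: such a pair is exchanged by an element of `Co0`.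
-/

set_option autoImplicit false

namespace Cfsg.Agent.Helper26

open Cfsg

theorem cond_beq {α : Type} (a b : ℕ) (x y : α) :
    cond (Nat.beq a b) x y = if a = b then x else y := by
  by_cases h : a = b
  · subst h
    rw [Nat.beq_refl, if_pos rfl]
    rfl
  · rw [if_neg h]
    have hb : Nat.beq a b = false := by
      cases hb : Nat.beq a b
      · rfl
      · exact absurd (Nat.eq_of_beq_eq_true hb) h
    rw [hb]
    rfl

theorem dot_fix (g : Co0) (v : leechLattice) (hg : g • v = v) (w : leechLattice) :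
    dotInt (v : GolayPt → ℤ) ((g • w : leechLattice) : GolayPt → ℤ) =
      dotInt (v : GolayPt → ℤ) (w : GolayPt → ℤ) := by
  have h := co0_dot g v w
  rw [hg] at h
  exact h

theorem dot_map (g : Co0) (v v' : leechLattice) (hg : g • v = v') (w : leechLattice) :
    dotInt (v' : GolayPt → ℤ) ((g • w : leechLattice) : GolayPt → ℤ) =
      dotInt (v : GolayPt → ℤ) (w : GolayPt → ℤ) := by
  have h := co0_dot g v w
  rw [hg] at h
  exact h

theorem dot_neg_r (x u : GolayPt → ℤ) : dotInt x (-u) = -dotInt x u := by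
  simp only [dotInt, Pi.neg_apply, mul_neg, Finset.sum_neg_distrib]

theorem dot_add_r (x u v : GolayPt → ℤ) : dotInt x (u + v) = dotInt x u + dotInt x v := by
  simp only [dotInt, Pi.add_apply, mul_add, Finset.sum_add_distrib]

theorem dot_sub_r (x u v : GolayPt → ℤ) : dotInt x (u - v) = dotInt x u - dotInt x v := by
  simp only [dotInt, Pi.sub_apply, mul_sub, Finset.sum_sub_distrib]

theorem pk_leechV : pk (Spor.leechV : GolayPt → ℤ) = pvV := by decide +kernel

theorem sqNorm_leechV48 : sqNorm (Spor.leechV : GolayPt → ℤ) = 48 :=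
  Cfsg.Agent.Helper92.sqNorm_leechV

theorem clsV_eq (n : ℕ) : clsV n = if dV n = 0 then 1 else if dV n = 5 then 2 else 0 := by
  unfold clsV
  rw [cond_beq, cond_beq]

theorem clsV_iff16 (w : GolayPt → ℤ) (hw : w ∈ leechLattice) (hn : sqNorm w = 32) :
    dotInt (Spor.leechV : GolayPt → ℤ) w = -16 ↔ clsV (pk w) = 1 := by
  have h := dV_iff w hw hn (-2) 0 (by norm_num) (by norm_num)
  rw [clsV_eq]
  constructor
  · intro hd
    rw [if_pos (h.1 (by rw [hd]; norm_num))]
  · intro hc
    by_cases h0 : dV (pk w) = 0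
    · have := h.2 h0
      omega
    · rw [if_neg h0] at hc
      split_ifs at hc <;> omega

theorem clsV_iff24 (w : GolayPt → ℤ) (hw : w ∈ leechLattice) (hn : sqNorm w = 32) :
    dotInt (Spor.leechV : GolayPt → ℤ) w = 24 ↔ clsV (pk w) = 2 := by
  have h := dV_iff w hw hn 3 5 (by norm_num) (by norm_num)
  rw [clsV_eq]
  constructor
  · intro hd
    have h5 : dV (pk w) = 5 := h.1 (by rw [hd]; norm_num)
    rw [if_neg (by omega), if_pos h5]
  · intro hc
    by_cases h0 : dV (pk w) = 0
    · rw [if_pos h0] at hc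
      omega
    · rw [if_neg h0] at hc
      by_cases h5 : dV (pk w) = 5
      · have := h.2 h5
        omega
      · rw [if_neg h5] at hc
        omega

/-- transitivity of the stabiliser of `Spor.leechV` on the minimal vectors of a class. -/
theorem co3_transC (c : ℕ) (d : ℤ)
    (hc : ∀ w : GolayPt → ℤ, w ∈ leechLattice → sqNorm w = 32 →
      dotInt (Spor.leechV : GolayPt → ℤ) w = d → clsV (pk w) = c + 1)
    (w w' : leechLattice) (hw : sqNorm (w : GolayPt → ℤ) = 32)
    (hw' : sqNorm (w' : GolayPt → ℤ) = 32)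
    (hd : dotInt (Spor.leechV : GolayPt → ℤ) (w : GolayPt → ℤ) = d)
    (hd' : dotInt (Spor.leechV : GolayPt → ℤ) (w' : GolayPt → ℤ) = d) :
    ∃ g : Co0, g • Spor.leechV = Spor.leechV ∧ g • w = w' := by
  obtain ⟨g, hg, h⟩ := stab_transM tabV (MulAction.stabilizer Co0 Spor.leechV)
    (htab1 tabV Spor.leechV (by rw [sqNorm_leechV48]; norm_num) pvV pk_leechV tabV_ok_pvV)
    clsV tgtsV ⟨cVA, dVA⟩ (hB_of_seg _ cVB dVB cVB_cover) (hC_of_seg _ cVC dVC cVC_length) c
    (fun w => sqNorm (w : GolayPt → ℤ) = 32 ∧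
      dotInt (Spor.leechV : GolayPt → ℤ) (w : GolayPt → ℤ) = d)
    (fun g hg w h => ⟨by rw [co0_norm]; exact h.1,
      by rw [dot_fix g _ (MulAction.mem_stabilizer_iff.1 hg)]; exact h.2⟩)
    (fun _ h => h.1) (fun w h => hc w w.2 h.1 h.2) w w' ⟨hw, hd⟩ ⟨hw', hd'⟩
  exact ⟨g, MulAction.mem_stabilizer_iff.1 hg, h⟩

/-- the stabiliser of `(-5, -1^23)` is transitive on the minimal vectors with inner product
`-16` with it. -/
theorem co3_trans16 (w w' : leechLattice) (hw : sqNorm (w : GolayPt → ℤ) = 32)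
    (hw' : sqNorm (w' : GolayPt → ℤ) = 32)
    (hd : dotInt (Spor.leechV : GolayPt → ℤ) (w : GolayPt → ℤ) = -16)
    (hd' : dotInt (Spor.leechV : GolayPt → ℤ) (w' : GolayPt → ℤ) = -16) :
    ∃ g : Co0, g • Spor.leechV = Spor.leechV ∧ g • w = w' :=
  co3_transC 0 (-16) (fun w hw hn hd => (clsV_iff16 w hw hn).1 hd) w w' hw hw' hd hd'

/-- the stabiliser of `(-5, -1^23)` is transitive on the minimal vectors with inner product
`24` with it. -/
theorem co3_trans24 (w w' : leechLattice) (hw : sqNorm (w : GolayPt → ℤ) = 32)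
    (hw' : sqNorm (w' : GolayPt → ℤ) = 32)
    (hd : dotInt (Spor.leechV : GolayPt → ℤ) (w : GolayPt → ℤ) = 24)
    (hd' : dotInt (Spor.leechV : GolayPt → ℤ) (w' : GolayPt → ℤ) = 24) :
    ∃ g : Co0, g • Spor.leechV = Spor.leechV ∧ g • w = w' :=
  co3_transC 1 24 (fun w hw hn hd => (clsV_iff24 w hw hn).1 hd) w w' hw hw' hd hd'

set_option maxRecDepth 100000 in
theorem cnt_V16 : cntAll (fun n => Nat.beq (clsV n) 1) = 11178 := by decide +kernel

theorem co3_count16 : {x : leechLattice | sqNorm (x : GolayPt → ℤ) = 32 ∧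
    dotInt (Spor.leechV : GolayPt → ℤ) (x : GolayPt → ℤ) = -16}.ncard = 11178 := by
  apply ncard_class _ (fun n => Nat.beq (clsV n) 1) 11178 _ cnt_V16
  intro x
  constructor
  · rintro ⟨h1, h2⟩
    refine ⟨h1, ?_⟩
    show Nat.beq (clsV (pk (x : GolayPt → ℤ))) 1 = true
    rw [(clsV_iff16 _ x.2 h1).1 h2]
    rfl
  · rintro ⟨h1, h2⟩
    exact ⟨h1, (clsV_iff16 _ x.2 h1).2 (Nat.eq_of_beq_eq_true h2)⟩

/-- **The stabiliser of a vector of squared length 48 on the minimal vectors of inner product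
`-16`**: there are `11178` of them, permuted transitively. -/
theorem co3_class16 (u : leechLattice) (hu : sqNorm (u : GolayPt → ℤ) = 48) :
    {x : leechLattice | sqNorm (x : GolayPt → ℤ) = 32 ∧
      dotInt (u : GolayPt → ℤ) (x : GolayPt → ℤ) = -16}.ncard = 11178 ∧
    ∀ x ∈ {x : leechLattice | sqNorm (x : GolayPt → ℤ) = 32 ∧
      dotInt (u : GolayPt → ℤ) (x : GolayPt → ℤ) = -16},
    ∀ x' ∈ {x : leechLattice | sqNorm (x : GolayPt → ℤ) = 32 ∧
      dotInt (u : GolayPt → ℤ) (x : GolayPt → ℤ) = -16},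
    ∃ g : Co0, g • u = u ∧ g • x = x' := by
  obtain ⟨g, hg⟩ := Cfsg.Agent.Helper92.exists_smul_eq_of_norm48 u Spor.leechV hu sqNorm_leechV48
  constructor
  · rw [← co3_count16]
    apply ncard_smul g
    intro x
    rw [co0_norm, dot_map g u _ hg]
  · intro x hx x' hx'
    obtain ⟨h, h1, h2⟩ := co3_trans16 (g • x) (g • x') (by rw [co0_norm]; exact hx.1)
      (by rw [co0_norm]; exact hx'.1) (by rw [dot_map g u _ hg]; exact hx.2)
      (by rw [dot_map g u _ hg]; exact hx'.2)
    exact ⟨g⁻¹ * h * g, conj_fix g h u (by rw [hg]; exact h1), conj_map g h x x' h2⟩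

/-! ### Pairs of vectors of squared length 48 with inner product `-32` -/

theorem sqNorm_leechU'32 : sqNorm (Spor.leechU' : GolayPt → ℤ) = 32 := by decide +kernel

theorem dot_V_U' : dotInt (Spor.leechV : GolayPt → ℤ) (Spor.leechU' : GolayPt → ℤ) = -16 := by
  decide +kernel

/-- `Co0` is transitive on the pairs of vectors of squared length 48 with inner product `-32`:
each is carried to `(V, -U' - V)`. -/
theorem pair48 (v w : leechLattice) (hv : sqNorm (v : GolayPt → ℤ) = 48)
    (hw : sqNorm (w : GolayPt → ℤ) = 48)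
    (hvw : dotInt (v : GolayPt → ℤ) (w : GolayPt → ℤ) = -32) :
    ∃ g : Co0, g • v = Spor.leechV ∧ g • w = -Spor.leechU' - Spor.leechV := by
  obtain ⟨g, hg⟩ := Cfsg.Agent.Helper92.exists_smul_eq_of_norm48 v Spor.leechV hv sqNorm_leechV48
  have hw1 : sqNorm ((g • w : leechLattice) : GolayPt → ℤ) = 48 := by rw [co0_norm]; exact hw
  have hd1 : dotInt (Spor.leechV : GolayPt → ℤ) ((g • w : leechLattice) : GolayPt → ℤ) = -32 := by
    rw [dot_map g v _ hg]; exact hvw
  obtain ⟨m, hmdef⟩ : ∃ m : leechLattice, m = -(Spor.leechV + g • w) := ⟨_, rfl⟩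
  have hmc : (m : GolayPt → ℤ) =
      -((Spor.leechV : GolayPt → ℤ) + ((g • w : leechLattice) : GolayPt → ℤ)) := by
    rw [hmdef]; rfl
  have hm : sqNorm (m : GolayPt → ℤ) = 32 := by
    rw [hmc, Cfsg.Agent.Helper92.sqNorm_neg, Cfsg.Agent.Helper92.sqNorm_add, sqNorm_leechV48,
      hw1, hd1]
    norm_num
  have hdm : dotInt (Spor.leechV : GolayPt → ℤ) (m : GolayPt → ℤ) = -16 := by
    rw [hmc, dot_neg_r, dot_add_r, Cfsg.Agent.Helper92.dotInt_self, sqNorm_leechV48, hd1]
    norm_num
  obtain ⟨h, h1, h2⟩ := co3_trans16 m Spor.leechU' hm sqNorm_leechU'32 hdm dot_V_U'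
  refine ⟨h * g, by rw [mul_smul, hg, h1], ?_⟩
  have e : g • w = -m + -Spor.leechV := by rw [hmdef]; abel
  rw [mul_smul, e, co0_add, co0_neg h m, co0_neg h Spor.leechV, h2, h1, sub_eq_add_neg]

/-- the monomial map exchanging the coordinates `∞` and `0` and changing all signs. -/
noncomputable def swapW : List Ltr :=
  [Ltr.mono 92 88 44 60 68 36 76 52 80 20 64 8 84 28 72 12 40 16 56 24 32 48 4 0 79228162514264337593543950335 5281877500950955839569596689 16777215]

theorem swapW_ok : wordOK swapW = true := by decide +kernel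

/-- the packed vector `-U' - V = (5, 1^23)` with the `5` at the coordinate `0`. -/
def pvW0 : ℕ := 47536897508558602556126370205

theorem pk_W0 : pk ((-Spor.leechU' - Spor.leechV : leechLattice) : GolayPt → ℤ) = pvW0 := by
  decide +kernel

theorem sqNorm_W0 : sqNorm ((-Spor.leechU' - Spor.leechV : leechLattice) : GolayPt → ℤ) = 48 := by
  decide +kernel

theorem swapW_V : actW swapW pvV = pvW0 := by decide +kernel

theorem swapW_W0 : actW swapW pvW0 = pvV := by decide +kernel

/-- two vectors of squared length 48 with inner product `-32` are exchanged by an element of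
`Co0`. -/
theorem swap48 (v w : leechLattice) (hv : sqNorm (v : GolayPt → ℤ) = 48)
    (hw : sqNorm (w : GolayPt → ℤ) = 48)
    (hvw : dotInt (v : GolayPt → ℤ) (w : GolayPt → ℤ) = -32) :
    ∃ g : Co0, g • v = w ∧ g • w = v := by
  obtain ⟨g, h1, h2⟩ := pair48 v w hv hw hvw
  have a : semW swapW • Spor.leechV = -Spor.leechU' - Spor.leechV :=
    word_maps swapW swapW_ok _ _ (by rw [sqNorm_leechV48]; norm_num)
      (by rw [sqNorm_W0]; norm_num) (by rw [pk_leechV, pk_W0]; exact swapW_V)
  have b : semW swapW • (-Spor.leechU' - Spor.leechV) = Spor.leechV :=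
    word_maps swapW swapW_ok _ _ (by rw [sqNorm_W0]; norm_num)
      (by rw [sqNorm_leechV48]; norm_num) (by rw [pk_leechV, pk_W0]; exact swapW_W0)
  refine ⟨g⁻¹ * semW swapW * g, ?_, ?_⟩
  · rw [mul_smul, mul_smul, h1, a, ← h2, inv_smul_smul]
  · rw [mul_smul, mul_smul, h2, b, ← h1, inv_smul_smul]

end Cfsg.Agent.Helper26
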