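import Mathlib
import Cfsg.Prelude.Def_Sporadic_a

/-!
# A computational model of the length-24 code `Cfsg.golayCode`

Subsets of the 24 points are encoded as 24-bit natural numbers (`enc`): the point `some x`
is bit `x.val` and the extra point `none` is bit 23.  Membership of a subset in
`supports golayCode` is then the Boolean test `isCode (enc b)`.
-/

set_option autoImplicit false

namespace Cfsg.Agent.Helper26

open Cfsg

/-! ### Points and bit indices -/

/-- the bit index of a point: `some x ↦ x.val`, `none ↦ 23`. -/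
def idx : GolayPt → ℕ
  | none => 23
  | some x => x.val

/-- the point with a given bit index. -/
def pt (j : ℕ) : GolayPt := if j < 23 then some (j : ZMod 23) else none

theorem idx_lt (p : GolayPt) : idx p < 24 := by
  cases p with
  | none => simp [idx]
  | some x => have := ZMod.val_lt x; simp only [idx]; omega

theorem pt_idx (p : GolayPt) : pt (idx p) = p := by
  cases p with
  | none => simp [idx, pt]
  | some x =>
    have := ZMod.val_lt x
    simp [idx, pt, this]

theorem idx_pt (j : ℕ) (h : j < 24) : idx (pt j) = j := by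
  unfold pt
  split_ifs with h1
  · simp only [idx]
    exact ZMod.val_natCast_of_lt h1
  · simp only [idx]; omega

theorem idx_injective : Function.Injective idx := by
  intro p q h
  rw [← pt_idx p, ← pt_idx q, h]

theorem pt_eq_iff (j : ℕ) (h : j < 24) (p : GolayPt) : pt j = p ↔ idx p = j := by
  constructor
  · intro h1; rw [← h1, idx_pt j h]
  · intro h1; rw [← h1, pt_idx]

/-! ### Encoding subsets as numbers -/

/-- the 24-bit number encoding a set of points. -/
def enc (s : Finset GolayPt) : ℕ := ∑ p ∈ s, 2 ^ idx p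

theorem testBit_sum_two_pow (S : Finset ℕ) (j : ℕ) :
    (∑ i ∈ S, 2 ^ i).testBit j = decide (j ∈ S) := by
  have h := Finset.toFinset_bitIndices_sum_two_pow S
  have h2 : j ∈ (∑ i ∈ S, 2 ^ i).bitIndices.toFinset ↔ j ∈ S := by rw [h]
  rw [List.mem_toFinset, Nat.mem_bitIndices] at h2
  by_cases hj : j ∈ S
  · simp [hj, h2.2 hj]
  · simp only [hj, decide_false]
    by_contra hc
    exact hj (h2.1 (by simpa using hc))

theorem testBit_enc (s : Finset GolayPt) (j : ℕ) :
    (enc s).testBit j = decide (j < 24 ∧ pt j ∈ s) := by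
  have h1 : enc s = ∑ i ∈ s.image idx, 2 ^ i := by
    unfold enc
    rw [Finset.sum_image (fun x _ y _ h => idx_injective h)]
  rw [h1, testBit_sum_two_pow]
  congr 1
  apply propext
  simp only [Finset.mem_image]
  constructor
  · rintro ⟨p, hp, rfl⟩
    exact ⟨idx_lt p, by rwa [pt_idx]⟩
  · rintro ⟨hj, hp⟩
    exact ⟨pt j, hp, idx_pt j hj⟩

theorem testBit_enc_idx (s : Finset GolayPt) (p : GolayPt) :
    (enc s).testBit (idx p) = decide (p ∈ s) := by
  rw [testBit_enc, pt_idx]
  simp [idx_lt]

theorem enc_injective : Function.Injective enc := by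
  intro s t h
  ext p
  have h1 := testBit_enc_idx s p
  have h2 := testBit_enc_idx t p
  rw [h] at h1
  rw [h1] at h2
  simpa using h2

theorem enc_lt (s : Finset GolayPt) : enc s < 2 ^ 24 := by
  apply Nat.lt_pow_two_of_testBit
  intro i hi
  rw [testBit_enc]
  simp only [decide_eq_false_iff_not, not_and]
  intro h
  have : 2 ^ 24 ≤ 2 ^ i := Nat.pow_le_pow_right (by norm_num) hi
  have h2 := Nat.lt_two_pow_self (n := i)
  omega

theorem enc_empty : enc ∅ = 0 := by simp [enc]

theorem enc_inter (s t : Finset GolayPt) : enc (s ∩ t) = enc s &&& enc t := by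
  apply Nat.eq_of_testBit_eq
  intro j
  rw [Nat.testBit_and, testBit_enc, testBit_enc, testBit_enc]
  by_cases hj : j < 24 <;> by_cases h1 : pt j ∈ s <;> by_cases h2 : pt j ∈ t <;>
    simp [hj, h1, h2]

theorem enc_union (s t : Finset GolayPt) : enc (s ∪ t) = enc s ||| enc t := by
  apply Nat.eq_of_testBit_eq
  intro j
  rw [Nat.testBit_or, testBit_enc, testBit_enc, testBit_enc]
  by_cases hj : j < 24 <;> by_cases h1 : pt j ∈ s <;> by_cases h2 : pt j ∈ t <;>
    simp [hj, h1, h2]

theorem enc_symmDiff (s t : Finset GolayPt) : enc (symmDiff s t) = enc s ^^^ enc t := by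
  apply Nat.eq_of_testBit_eq
  intro j
  rw [Nat.testBit_xor, testBit_enc, testBit_enc, testBit_enc]
  by_cases hj : j < 24 <;> by_cases h1 : pt j ∈ s <;> by_cases h2 : pt j ∈ t <;>
    simp [hj, h1, h2, Finset.mem_symmDiff]

theorem enc_univ : enc Finset.univ = 16777215 := by
  apply Nat.eq_of_testBit_eq
  intro j
  rw [testBit_enc]
  have : (16777215 : ℕ) = 2 ^ 24 - 1 := by norm_num
  rw [this, Nat.testBit_two_pow_sub_one]
  simp

theorem enc_compl (s : Finset GolayPt) : enc sᶜ = enc s ^^^ 16777215 := by
  apply Nat.eq_of_testBit_eq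
  intro j
  have : (16777215 : ℕ) = 2 ^ 24 - 1 := by norm_num
  rw [Nat.testBit_xor, testBit_enc, testBit_enc, this, Nat.testBit_two_pow_sub_one]
  by_cases hj : j < 24 <;> by_cases h1 : pt j ∈ s <;> simp [hj, h1]

theorem enc_sdiff (s t : Finset GolayPt) : enc (s \ t) = enc s ^^^ (enc s &&& enc t) := by
  apply Nat.eq_of_testBit_eq
  intro j
  rw [Nat.testBit_xor, Nat.testBit_and, testBit_enc, testBit_enc, testBit_enc]
  by_cases hj : j < 24 <;> by_cases h1 : pt j ∈ s <;> by_cases h2 : pt j ∈ t <;>
    simp [hj, h1, h2]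

theorem subset_iff_enc (s t : Finset GolayPt) : s ⊆ t ↔ enc s &&& enc t = enc s := by
  rw [← enc_inter]
  constructor
  · intro h; rw [Finset.inter_eq_left.2 h]
  · intro h; exact Finset.inter_eq_left.1 (enc_injective h)

theorem disjoint_iff_enc (s t : Finset GolayPt) : Disjoint s t ↔ enc s &&& enc t = 0 := by
  rw [← enc_inter, Finset.disjoint_iff_inter_eq_empty, ← enc_empty]
  exact ⟨fun h => by rw [h], fun h => enc_injective h⟩

/-- the set of points encoded by a number. -/
def dec (m : ℕ) : Finset GolayPt := Finset.univ.filter (fun p => m.testBit (idx p))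

theorem mem_dec (m : ℕ) (p : GolayPt) : p ∈ dec m ↔ m.testBit (idx p) = true := by
  simp [dec]

theorem dec_enc (s : Finset GolayPt) : dec (enc s) = s := by
  ext p
  rw [mem_dec, testBit_enc_idx]
  simp

theorem enc_dec (m : ℕ) (h : m < 2 ^ 24) : enc (dec m) = m := by
  apply Nat.eq_of_testBit_eq
  intro j
  rw [testBit_enc]
  by_cases hj : j < 24
  · simp only [hj, true_and, mem_dec, idx_pt j hj]
    simp
  · simp only [hj, false_and, decide_false]
    symm
    apply Nat.testBit_lt_two_pow
    have : 2 ^ 24 ≤ 2 ^ j := Nat.pow_le_pow_right (by norm_num) (by omega)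
    omega

/-! ### Cardinality as a bit count -/

/-- number of set bits among the 24 low bits. -/
def popc (m : ℕ) : ℕ := ∑ j ∈ Finset.range 24, if m.testBit j then 1 else 0

theorem card_eq_popc (s : Finset GolayPt) : s.card = popc (enc s) := by
  unfold popc
  rw [← Finset.card_filter]
  have h1 : s.card = (s.image idx).card := (Finset.card_image_of_injective s idx_injective).symm
  rw [h1]
  congr 1
  ext j
  simp only [Finset.mem_image, Finset.mem_filter, Finset.mem_range, testBit_enc,
    decide_eq_true_eq]
  constructor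
  · rintro ⟨p, hp, rfl⟩
    exact ⟨idx_lt p, idx_lt p, by rwa [pt_idx]⟩
  · rintro ⟨hj, _, hp⟩
    exact ⟨pt j, hp, idx_pt j hj⟩

end Cfsg.Agent.Helper26
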