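import Cfsg.Agent.Helper26.GolayBasic

/-!
# Membership in `Cfsg.golayCode` as a Boolean test on 24-bit numbers

`mem_supports_iff : b ∈ supports golayCode ↔ isCode (enc b) = true`, where `isCode m` says
that `m` is the XOR of the systematic basis rows selected by its 12 low bits.
-/

set_option autoImplicit false

namespace Cfsg.Agent.Helper26

open Cfsg

/-! ### XOR helpers -/

theorem xor_xor_xor_cancel (c x y : ℕ) : (c ^^^ x) ^^^ (c ^^^ y) = x ^^^ y := by
  apply Nat.eq_of_testBit_eq
  intro j
  simp only [Nat.testBit_xor]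
  cases c.testBit j <;> cases x.testBit j <;> cases y.testBit j <;> rfl

theorem xor_xor_xor_swap (c x y : ℕ) : c ^^^ (x ^^^ y) = x ^^^ (c ^^^ y) := by
  apply Nat.eq_of_testBit_eq
  intro j
  simp only [Nat.testBit_xor]
  cases c.testBit j <;> cases x.testBit j <;> cases y.testBit j <;> rfl

/-! ### The systematic basis -/

/-- the twelve rows of a systematic generator matrix (row `i` has low 12 bits `2 ^ i`). -/
def basisL : List ℕ := [13062145, 4845570, 13938692, 7221256, 10170384, 11952160, 15515712,
  2019456, 4038912, 8077824, 11654144, 14919680]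

/-- XOR of the rows `bs` selected by the bits `i, i+1, …` of `k`. -/
def codeOfAux : List ℕ → ℕ → ℕ → ℕ
  | [], _, _ => 0
  | b :: bs, i, k => (if k.testBit i then b else 0) ^^^ codeOfAux bs (i + 1) k

theorem mul_bit (b k i : ℕ) :
    Nat.mul b (Nat.land (Nat.shiftRight k i) 1) = if k.testBit i then b else 0 := by
  have h1 : Nat.land (Nat.shiftRight k i) 1 = k / 2 ^ i % 2 := by
    show (k >>> i) &&& 1 = k / 2 ^ i % 2
    rw [Nat.and_one_is_mod, Nat.shiftRight_eq_div_pow]
  rw [h1, Nat.testBit_eq_decide_div_mod_eq]
  show b * (k / 2 ^ i % 2) = _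
  rcases Nat.mod_two_eq_zero_or_one (k / 2 ^ i) with h | h <;> simp [h]

/-- the code word whose 12 low bits are those of `k` (unrolled, for fast kernel evaluation). -/
def codeOf (k : ℕ) : ℕ :=
  Nat.xor (Nat.mul 13062145 (Nat.land (Nat.shiftRight k 0) 1)) (Nat.xor (Nat.mul 4845570 (Nat.land (Nat.shiftRight k 1) 1)) (Nat.xor (Nat.mul 13938692 (Nat.land (Nat.shiftRight k 2) 1)) (Nat.xor (Nat.mul 7221256 (Nat.land (Nat.shiftRight k 3) 1)) (Nat.xor (Nat.mul 10170384 (Nat.land (Nat.shiftRight k 4) 1)) (Nat.xor (Nat.mul 11952160 (Nat.land (Nat.shiftRight k 5) 1)) (Nat.xor (Nat.mul 15515712 (Nat.land (Nat.shiftRight k 6) 1)) (Nat.xor (Nat.mul 2019456 (Nat.land (Nat.shiftRight k 7) 1)) (Nat.xor (Nat.mul 4038912 (Nat.land (Nat.shiftRight k 8) 1)) (Nat.xor (Nat.mul 8077824 (Nat.land (Nat.shiftRight k 9) 1)) (Nat.xor (Nat.mul 11654144 (Nat.land (Nat.shiftRight k 10) 1)) (Nat.xor (Nat.mul 14919680 (Nat.land (Nat.shiftRight k 11) 1)) (0))))))))))))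

theorem codeOf_eq_aux (k : ℕ) : codeOf k = codeOfAux basisL 0 k := by
  simp only [codeOf, codeOfAux, basisL, mul_bit]
  rfl

/-- Boolean membership test for the code. -/
def isCode (m : ℕ) : Bool := Nat.beq (codeOf m) m

theorem isCode_iff (m : ℕ) : isCode m = true ↔ codeOf m = m := by
  simp [isCode]

theorem codeOfAux_xor (bs : List ℕ) (i a b : ℕ) :
    codeOfAux bs i (a ^^^ b) = codeOfAux bs i a ^^^ codeOfAux bs i b := by
  induction bs generalizing i with
  | nil => simp [codeOfAux]
  | cons c cs ih =>
    simp only [codeOfAux, ih, Nat.testBit_xor]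
    cases a.testBit i <;> cases b.testBit i
    · simp
    · simp [xor_xor_xor_swap]
    · simp [Nat.xor_assoc]
    · simp [xor_xor_xor_cancel]

theorem codeOf_xor (a b : ℕ) : codeOf (a ^^^ b) = codeOf a ^^^ codeOf b := by
  rw [codeOf_eq_aux, codeOf_eq_aux, codeOf_eq_aux, codeOfAux_xor]

theorem isCode_xor {a b : ℕ} (ha : isCode a = true) (hb : isCode b = true) :
    isCode (a ^^^ b) = true := by
  rw [isCode_iff] at *
  rw [codeOf_xor, ha, hb]

theorem codeOfAux_mod (bs : List ℕ) (i n m : ℕ) (h : i + bs.length ≤ n) :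
    codeOfAux bs i (m % 2 ^ n) = codeOfAux bs i m := by
  induction bs generalizing i with
  | nil => simp [codeOfAux]
  | cons c cs ih =>
    simp only [List.length_cons] at h
    simp only [codeOfAux]
    rw [ih (i + 1) (by omega), Nat.testBit_mod_two_pow]
    have : i < n := by omega
    simp [this]

theorem codeOf_mod (m : ℕ) : codeOf (m % 4096) = codeOf m := by
  rw [codeOf_eq_aux, codeOf_eq_aux]
  exact codeOfAux_mod basisL 0 12 m (by simp [basisL])

theorem codeOfAux_lt (bs : List ℕ) (h : ∀ b ∈ bs, b < 2 ^ 24) (i k : ℕ) :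
    codeOfAux bs i k < 2 ^ 24 := by
  induction bs generalizing i with
  | nil => simp [codeOfAux]
  | cons c cs ih =>
    simp only [codeOfAux]
    apply Nat.xor_lt_two_pow
    · split_ifs
      · exact h c (by simp)
      · norm_num
    · exact ih (fun b hb => h b (by simp [hb])) _

theorem codeOf_lt (k : ℕ) : codeOf k < 2 ^ 24 := by
  rw [codeOf_eq_aux]
  exact codeOfAux_lt basisL (by decide) 0 k

/-! ### The generators of the code -/

/-- the numbers encoding the 23 translates of the squares, and the all-ones word. -/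
def genL : List ℕ := [340831, 681662, 1363324, 2726648, 5453296, 2517985, 5035970, 1683333,
  3366666, 6733332, 5078057, 1767507, 3535014, 7070028, 5751449, 3114291, 6228582, 4068557,
  8137114, 7885621, 7382635, 6376663, 4364719, 16777215]

theorem enc_qrWord : ∀ t : ZMod 23, enc (support₂ (qrWord t)) = genL.getD t.val 0 := by
  decide +kernel

theorem isCode_gen : ∀ j < 24, isCode (genL.getD j 0) = true := by decide +kernel

theorem support₂_add (x y : GolayPt → ZMod 2) :
    support₂ (x + y) = symmDiff (support₂ x) (support₂ y) := by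
  ext p
  simp only [support₂, Finset.mem_filter, Finset.mem_univ, true_and, Pi.add_apply,
    Finset.mem_symmDiff]
  generalize x p = a
  generalize y p = b
  revert a b
  decide

theorem support₂_zero : support₂ (0 : GolayPt → ZMod 2) = ∅ := by
  ext p; simp [support₂]

theorem support₂_one : support₂ (1 : GolayPt → ZMod 2) = Finset.univ := by
  ext p; simp [support₂]

theorem isCode_of_mem (w : GolayPt → ZMod 2) (hw : w ∈ golayCode) :
    isCode (enc (support₂ w)) = true := by
  unfold golayCode at hw
  induction hw using Submodule.span_induction with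
  | mem x hx =>
    rcases hx with ⟨t, rfl⟩ | hx
    · rw [enc_qrWord]; exact isCode_gen _ (lt_trans (ZMod.val_lt t) (by norm_num))
    · rw [Set.mem_singleton_iff] at hx
      subst hx
      rw [support₂_one, enc_univ]
      decide +kernel
  | zero => rw [support₂_zero, enc_empty]; decide +kernel
  | add x y _ _ hx hy => rw [support₂_add, enc_symmDiff]; exact isCode_xor hx hy
  | smul a x _ hx =>
    have ha : a = 0 ∨ a = 1 := by revert a; decide
    rcases ha with rfl | rfl
    · rw [zero_smul, support₂_zero, enc_empty]; decide +kernel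
    · rwa [one_smul]

/-! ### Every number passing the test is a code word -/

/-- numbers encoding the support of a code word. -/
def Realized (m : ℕ) : Prop := ∃ w ∈ golayCode, enc (support₂ w) = m

theorem realized_zero : Realized 0 :=
  ⟨0, golayCode.zero_mem, by rw [support₂_zero, enc_empty]⟩

theorem realized_xor {a b : ℕ} (ha : Realized a) (hb : Realized b) : Realized (a ^^^ b) := by
  obtain ⟨x, hx, rfl⟩ := ha
  obtain ⟨y, hy, rfl⟩ := hb
  exact ⟨x + y, golayCode.add_mem hx hy, by rw [support₂_add, enc_symmDiff]⟩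

theorem realized_gen (j : ℕ) (hj : j < 24) : Realized (genL.getD j 0) := by
  by_cases h : j < 23
  · refine ⟨qrWord (j : ZMod 23), Submodule.subset_span (Or.inl ⟨_, rfl⟩), ?_⟩
    rw [enc_qrWord, ZMod.val_natCast_of_lt h]
  · have : j = 23 := by omega
    subst this
    refine ⟨1, Submodule.subset_span (Or.inr rfl), ?_⟩
    rw [support₂_one, enc_univ]
    rfl

/-- XOR of the generators with the listed indices. -/
def xorGens : List ℕ → ℕ
  | [] => 0
  | j :: l => genL.getD j 0 ^^^ xorGens l

theorem realized_xorGens (l : List ℕ) (h : ∀ j ∈ l, j < 24) : Realized (xorGens l) := by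
  induction l with
  | nil => exact realized_zero
  | cons j l ih =>
    exact realized_xor (realized_gen j (h j (by simp))) (ih (fun i hi => h i (by simp [hi])))

/-- each basis row as a sum of generators. -/
def basisExpr : List (List ℕ) := [[0, 3, 5, 7, 9, 10, 23], [3, 4, 8], [0, 3, 4, 7, 10, 23],
  [3, 4, 5, 6, 8, 10], [1, 3, 4, 5, 7, 9, 10, 23], [0, 1, 2, 4, 7, 8, 9, 10, 23],
  [0, 2, 3, 6, 7, 8, 10, 23], [4, 6, 7, 8, 9, 10], [0, 1, 6, 8, 10], [0, 2, 5, 6],
  [0, 1, 5, 6, 9, 10, 23], [0, 2, 5, 9, 10, 23]]

theorem basis_eq : basisL = basisExpr.map xorGens := by decide +kernel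

theorem basisExpr_lt : ∀ l ∈ basisExpr, ∀ j ∈ l, j < 24 := by decide

theorem realized_basis : ∀ b ∈ basisL, Realized b := by
  intro b hb
  rw [basis_eq, List.mem_map] at hb
  obtain ⟨l, hl, rfl⟩ := hb
  exact realized_xorGens l (basisExpr_lt l hl)

theorem realized_codeOfAux (bs : List ℕ) (h : ∀ b ∈ bs, Realized b) (i k : ℕ) :
    Realized (codeOfAux bs i k) := by
  induction bs generalizing i with
  | nil => exact realized_zero
  | cons c cs ih =>
    simp only [codeOfAux]
    apply realized_xor
    · split_ifs
      · exact h c (by simp)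
      · exact realized_zero
    · exact ih (fun b hb => h b (by simp [hb])) _

theorem realized_of_isCode (m : ℕ) (h : isCode m = true) : Realized m := by
  rw [isCode_iff] at h
  rw [← h, codeOf_eq_aux]
  exact realized_codeOfAux basisL realized_basis 0 m

/-- **Membership test**: a set of points is the support of a word of `golayCode` iff its
encoding passes `isCode`. -/
theorem mem_supports_iff (b : Finset GolayPt) :
    b ∈ supports (golayCode : Set (GolayPt → ZMod 2)) ↔ isCode (enc b) = true := by
  constructor
  · rintro ⟨w, hw, rfl⟩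
    exact isCode_of_mem w hw
  · intro h
    obtain ⟨w, hw, he⟩ := realized_of_isCode _ h
    exact ⟨w, hw, enc_injective he⟩

theorem mem_octads_iff (b : Finset GolayPt) :
    b ∈ octads ↔ isCode (enc b) = true ∧ b.card = 8 := by
  unfold octads wordsOfWeight
  rw [Set.mem_ofPred_eq, mem_supports_iff]

theorem mem_dodecads_iff (b : Finset GolayPt) :
    b ∈ dodecads ↔ isCode (enc b) = true ∧ b.card = 12 := by
  unfold dodecads wordsOfWeight
  rw [Set.mem_ofPred_eq, mem_supports_iff]

/-! ### Closure properties of the family of supports -/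

theorem supports_symmDiff {a b : Finset GolayPt}
    (ha : a ∈ supports (golayCode : Set (GolayPt → ZMod 2)))
    (hb : b ∈ supports (golayCode : Set (GolayPt → ZMod 2))) :
    symmDiff a b ∈ supports (golayCode : Set (GolayPt → ZMod 2)) := by
  rw [mem_supports_iff] at *
  rw [enc_symmDiff]
  exact isCode_xor ha hb

theorem supports_univ : (Finset.univ : Finset GolayPt) ∈
    supports (golayCode : Set (GolayPt → ZMod 2)) := by
  rw [mem_supports_iff, enc_univ]
  decide +kernel

theorem supports_empty : (∅ : Finset GolayPt) ∈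
    supports (golayCode : Set (GolayPt → ZMod 2)) := by
  rw [mem_supports_iff, enc_empty]
  decide +kernel

theorem supports_compl {a : Finset GolayPt}
    (ha : a ∈ supports (golayCode : Set (GolayPt → ZMod 2))) :
    aᶜ ∈ supports (golayCode : Set (GolayPt → ZMod 2)) := by
  have h := supports_symmDiff ha supports_univ
  rwa [← Finset.top_eq_univ, symmDiff_top] at h

end Cfsg.Agent.Helper26
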