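import Cfsg.Agent.Helper26.GolayOctads

/-!
# Further consequences: the set of all code words, evenness of intersections
-/

set_option autoImplicit false

namespace Cfsg.Agent.Helper26

open Cfsg

/-- the supports of all code words, as a finite set. -/
def codeF : Finset (Finset GolayPt) := (Finset.range 4096).image (fun k => dec (codeOf k))

theorem mem_codeF (b : Finset GolayPt) :
    b ∈ codeF ↔ b ∈ supports (golayCode : Set (GolayPt → ZMod 2)) := by
  rw [mem_supports_iff]
  unfold codeF
  simp only [Finset.mem_image, Finset.mem_range]
  constructor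
  · rintro ⟨k, _, rfl⟩
    rw [enc_dec _ (codeOf_lt k)]
    exact isCode_codeOf k
  · intro hc
    have h1 := eq_codeOf_of_isCode hc
    exact ⟨enc b % 4096, Nat.mod_lt _ (by norm_num), by rw [← h1, dec_enc]⟩

theorem card_codeF : codeF.card = 4096 := by
  unfold codeF
  rw [Finset.card_image_of_injOn, Finset.card_range]
  intro k₁ h₁ k₂ h₂ h
  simp only [Finset.coe_range, Set.mem_Iio] at h₁ h₂
  have h' : codeOf k₁ = codeOf k₂ := by
    have := congrArg enc h
    rwa [enc_dec _ (codeOf_lt k₁), enc_dec _ (codeOf_lt k₂)] at this
  rw [← codeOf_mod_self k₁ h₁, ← codeOf_mod_self k₂ h₂, h']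

theorem coe_codeF : (codeF : Set (Finset GolayPt)) =
    supports (golayCode : Set (GolayPt → ZMod 2)) := by
  ext b; exact mem_codeF b

theorem support₂_injective :
    Function.Injective (support₂ : (GolayPt → ZMod 2) → Finset GolayPt) := by
  intro v w h
  funext p
  have h1 : p ∈ support₂ v ↔ p ∈ support₂ w := by rw [h]
  simp only [support₂, Finset.mem_filter, Finset.mem_univ, true_and] at h1
  generalize v p = a at h1
  generalize w p = b at h1
  revert a b
  decide

/-- the code has exactly 4096 words. -/
theorem ncard_golayCode : (golayCode : Set (GolayPt → ZMod 2)).ncard = 4096 := by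
  have h1 : supports (golayCode : Set (GolayPt → ZMod 2)) =
      support₂ '' (golayCode : Set (GolayPt → ZMod 2)) := rfl
  have h2 := Set.ncard_image_of_injective (golayCode : Set (GolayPt → ZMod 2)) support₂_injective
  rw [← h2, ← h1, ← coe_codeF, Set.ncard_coe_finset, card_codeF]

/-- the supports of two code words meet in an even number of points. -/
theorem even_card_inter {a b : Finset GolayPt}
    (ha : a ∈ supports (golayCode : Set (GolayPt → ZMod 2)))
    (hb : b ∈ supports (golayCode : Set (GolayPt → ZMod 2))) : 2 ∣ (a ∩ b).card := by
  have h1 := card_symmDiff_add a b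
  have h2 := card_of_mem_supports (supports_symmDiff ha hb)
  have h3 := card_of_mem_supports ha
  have h4 := card_of_mem_supports hb
  omega

end Cfsg.Agent.Helper26
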