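import Cfsg.Agent.Helper26.GolayCode

/-!
# Weights of the code words, the 759 octads, and the Steiner system S(5, 8, 24)
-/

set_option autoImplicit false
set_option linter.constructorNameAsVariable false

namespace Cfsg.Agent.Helper26

open Cfsg

/-! ### Kernel-friendly loops -/

theorem land_shift_one (m n : ℕ) :
    Nat.land (Nat.shiftRight m n) 1 = if m.testBit n then 1 else 0 := by
  have h := mul_bit 1 m n
  rw [← h]
  exact (Nat.one_mul _).symm

/-- bit count of the `n` low bits, by recursion on `n`. -/
def popcN : ℕ → ℕ → ℕ
  | 0, _ => 0
  | n + 1, m => Nat.add (popcN n m) (Nat.land (Nat.shiftRight m n) 1)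

theorem popcN_eq_sum (n m : ℕ) :
    popcN n m = ∑ j ∈ Finset.range n, if m.testBit j then 1 else 0 := by
  induction n with
  | zero => simp [popcN]
  | succ n ih =>
    rw [Finset.sum_range_succ, popcN, ih, land_shift_one]
    rfl

theorem popc_eq (m : ℕ) : popc m = popcN 24 m := by
  rw [popcN_eq_sum]; rfl

theorem popcN_split (m : ℕ) : popcN 24 m = popcN 12 (m % 4096) + popcN 12 (m / 4096) := by
  rw [popcN_eq_sum, popcN_eq_sum, popcN_eq_sum]
  rw [show 24 = 12 + 12 from rfl, Finset.sum_range_add]
  have h4096 : (4096 : ℕ) = 2 ^ 12 := by norm_num
  congr 1
  · apply Finset.sum_congr rfl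
    intro j hj
    rw [Finset.mem_range] at hj
    rw [h4096, Nat.testBit_mod_two_pow]
    simp [hj]
  · apply Finset.sum_congr rfl
    intro j _
    rw [h4096, Nat.testBit_div_two_pow, Nat.add_comm]

/-- `P k` holds for all `k < n`. -/
def allBelow (P : ℕ → Bool) : ℕ → Bool
  | 0 => true
  | n + 1 => P n && allBelow P n

theorem allBelow_spec (P : ℕ → Bool) (n : ℕ) (h : allBelow P n = true) :
    ∀ k < n, P k = true := by
  induction n with
  | zero => intro k hk; omega
  | succ n ih =>
    simp only [allBelow, Bool.and_eq_true] at h
    intro k hk
    rcases Nat.lt_succ_iff_lt_or_eq.1 hk with h1 | h1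
    · exact ih h.2 k h1
    · rw [h1]; exact h.1

/-- the number of `k < n` with `P k`. -/
def countBelow (P : ℕ → Bool) : ℕ → ℕ
  | 0 => 0
  | n + 1 => countBelow P n + (if P n then 1 else 0)

theorem card_filter_range (P : ℕ → Bool) (n : ℕ) :
    ((Finset.range n).filter (fun k => P k = true)).card = countBelow P n := by
  induction n with
  | zero => simp [countBelow]
  | succ n ih =>
    rw [Finset.range_add_one, Finset.filter_insert, countBelow]
    split_ifs with h
    · rw [Finset.card_insert_of_notMem (by simp), ih]
    · rw [ih]; simp

/-! ### Fast bit count by table lookup -/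

/-- packed table of the bit counts of the 12-bit numbers (4 bits per entry). -/
def pcTable : ℕ :=
  0xcbbabaa9baa9a998baa9a998a9989887baa9a998a9989887a998988798878776baa9a998a9989887a998988798878776a9989887988787769887877687767665baa9a998a9989887a998988798878776a9989887988787769887877687767665a998988798878776988787768776766598878776877676658776766576656554baa9a998a9989887a998988798878776a9989887988787769887877687767665a998988798878776988787768776766598878776877676658776766576656554a9989887988787769887877687767665988787768776766587767665766565549887877687767665877676657665655487767665766565547665655465545443baa9a998a9989887a998988798878776a9989887988787769887877687767665a998988798878776988787768776766598878776877676658776766576656554a9989887988787769887877687767665988787768776766587767665766565549887877687767665877676657665655487767665766565547665655465545443a998988798878776988787768776766598878776877676658776766576656554988787768776766587767665766565548776766576656554766565546554544398878776877676658776766576656554877676657665655476656554655454438776766576656554766565546554544376656554655454436554544354434332baa9a998a9989887a998988798878776a99898879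88787769887877687767665a998988798878776988787768776766598878776877676658776766576656554a9989887988787769887877687767665988787768776766587767665766565549887877687767665877676657665655487767665766565547665655465545443a998988798878776988787768776766598878776877676658776766576656554988787768776766587767665766565548776766576656554766565546554544398878776877676658776766576656554877676657665655476656554655454438776766576656554766565546554544376656554655454436554544354434332a9989887988787769887877687767665988787768776766587767665766565549887877687767665877676657665655487767665766565547665655465545443988787768776766587767665766565548776766576656554766565546554544387767665766565547665655465545443766565546554544365545443544343329887877687767665877676657665655487767665766565547665655465545443877676657665655476656554655454437665655465545443655454435443433287767665766565547665655465545443766565546554544365545443544343327665655465545443655454435443433265545443544343325443433243323221baa9a998a9989887a998988798878776a9989887988787769887877687767665a998988798878776988787768776766598878776877676658776766576656554a9989887988787769887877687767665988787768776766587767665766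565549887877687767665877676657665655487767665766565547665655465545443a998988798878776988787768776766598878776877676658776766576656554988787768776766587767665766565548776766576656554766565546554544398878776877676658776766576656554877676657665655476656554655454438776766576656554766565546554544376656554655454436554544354434332a9989887988787769887877687767665988787768776766587767665766565549887877687767665877676657665655487767665766565547665655465545443988787768776766587767665766565548776766576656554766565546554544387767665766565547665655465545443766565546554544365545443544343329887877687767665877676657665655487767665766565547665655465545443877676657665655476656554655454437665655465545443655454435443433287767665766565547665655465545443766565546554544365545443544343327665655465545443655454435443433265545443544343325443433243323221a99898879887877698878776877676659887877687767665877676657665655498878776877676658776766576656554877676657665655476656554655454439887877687767665877676657665655487767665766565547665655465545443877676657665655476656554655454437665655465545443655454435443433298878776877676658776766576656554877676657665655476656554655454438776766576656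5547665655465545443766565546554544365545443544343328776766576656554766565546554544376656554655454436554544354434332766565546554544365545443544343326554544354434332544343324332322198878776877676658776766576656554877676657665655476656554655454438776766576656554766565546554544376656554655454436554544354434332877676657665655476656554655454437665655465545443655454435443433276656554655454436554544354434332655454435443433254434332433232218776766576656554766565546554544376656554655454436554544354434332766565546554544365545443544343326554544354434332544343324332322176656554655454436554544354434332655454435443433254434332433232216554544354434332544343324332322154434332433232214332322132212110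

/-- bit count of a 12-bit number, by table lookup. -/
def pc12 (v : ℕ) : ℕ := Nat.land (Nat.shiftRight pcTable (Nat.mul 4 v)) 15

/-- bit count of a 24-bit number, by two table lookups. -/
def pc24 (m : ℕ) : ℕ := Nat.add (pc12 (Nat.land m 4095)) (pc12 (Nat.shiftRight m 12))

theorem pc12_check : allBelow (fun v => Nat.beq (pc12 v) (popcN 12 v)) 4096 = true := by
  decide +kernel

theorem pc12_eq (v : ℕ) (hv : v < 4096) : pc12 v = popcN 12 v := by
  have := allBelow_spec _ _ pc12_check v hv
  simpa using this

theorem pc24_eq (m : ℕ) (hm : m < 2 ^ 24) : pc24 m = popc m := by
  rw [popc_eq, popcN_split]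
  have h1 : Nat.land m 4095 = m % 4096 := by
    show m &&& 4095 = m % 4096
    have := Nat.and_two_pow_sub_one_eq_mod m 12
    simpa using this
  have h2 : Nat.shiftRight m 12 = m / 4096 := by
    show m >>> 12 = m / 4096
    rw [Nat.shiftRight_eq_div_pow]
  unfold pc24
  rw [h1, h2, pc12_eq _ (Nat.mod_lt _ (by norm_num)),
    pc12_eq _ (by rw [Nat.div_lt_iff_lt_mul (by norm_num)]; norm_num at hm; omega)]
  rfl

theorem card_eq_pc24 (s : Finset GolayPt) : s.card = pc24 (enc s) := by
  rw [pc24_eq _ (enc_lt s), card_eq_popc]

/-! ### Weights -/

/-- the possible weights. -/
def wtOK (w : ℕ) : Bool := w == 0 || w == 8 || w == 12 || w == 16 || w == 24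

theorem weights_check : allBelow (fun k => wtOK (pc24 (codeOf k))) 4096 = true := by
  decide +kernel

theorem systematic_check : allBelow (fun k => Nat.beq (Nat.land (codeOf k) 4095) k) 4096 = true := by
  decide +kernel

theorem codeOf_mod_self (k : ℕ) (hk : k < 4096) : codeOf k % 4096 = k := by
  have := allBelow_spec _ _ systematic_check k hk
  have h1 : Nat.land (codeOf k) 4095 = codeOf k % 4096 := by
    show codeOf k &&& 4095 = codeOf k % 4096
    have := Nat.and_two_pow_sub_one_eq_mod (codeOf k) 12
    simpa using this
  rw [h1] at this
  simpa using this

theorem codeOf_codeOf (k : ℕ) : codeOf (codeOf k) = codeOf k := by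
  have hk : k % 4096 < 4096 := Nat.mod_lt _ (by norm_num)
  rw [← codeOf_mod k, ← codeOf_mod (codeOf (k % 4096)), codeOf_mod_self _ hk]

theorem isCode_codeOf (k : ℕ) : isCode (codeOf k) = true := by
  rw [isCode_iff, codeOf_codeOf]

/-- a code word is `codeOf` of its 12 low bits. -/
theorem eq_codeOf_of_isCode {m : ℕ} (h : isCode m = true) : m = codeOf (m % 4096) := by
  rw [isCode_iff] at h
  rw [codeOf_mod, h]

theorem card_of_mem_supports {b : Finset GolayPt}
    (hb : b ∈ supports (golayCode : Set (GolayPt → ZMod 2))) :
    b.card = 0 ∨ b.card = 8 ∨ b.card = 12 ∨ b.card = 16 ∨ b.card = 24 := by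
  rw [mem_supports_iff] at hb
  have h1 := eq_codeOf_of_isCode hb
  have hk : enc b % 4096 < 4096 := Nat.mod_lt _ (by norm_num)
  have h2 := allBelow_spec _ _ weights_check _ hk
  simp only [← h1, ← card_eq_pc24] at h2
  simp only [wtOK, Bool.or_eq_true, beq_iff_eq] at h2
  rcases h2 with (((h | h) | h) | h) | h
  · left; exact h
  · right; left; exact h
  · right; right; left; exact h
  · right; right; right; left; exact h
  · right; right; right; right; exact h

/-! ### The code words of a given weight as a finite set -/

/-- indices `k < 4096` of the code words of weight `w`. -/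
def wtIdx (w : ℕ) : Finset ℕ :=
  (Finset.range 4096).filter (fun k => (Nat.beq (pc24 (codeOf k)) w) = true)

/-- the supports of code words of weight `w`, as a finite set. -/
def wtF (w : ℕ) : Finset (Finset GolayPt) := (wtIdx w).image (fun k => dec (codeOf k))

theorem mem_wtF (w : ℕ) (b : Finset GolayPt) :
    b ∈ wtF w ↔ b ∈ supports (golayCode : Set (GolayPt → ZMod 2)) ∧ b.card = w := by
  rw [mem_supports_iff]
  unfold wtF wtIdx
  simp only [Finset.mem_image, Finset.mem_filter, Finset.mem_range, Nat.beq_eq]
  constructor
  · rintro ⟨k, ⟨hk, hw⟩, rfl⟩
    have he : enc (dec (codeOf k)) = codeOf k := enc_dec _ (codeOf_lt k)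
    rw [he, card_eq_pc24, he]
    exact ⟨isCode_codeOf k, hw⟩
  · rintro ⟨hc, hw⟩
    have h1 := eq_codeOf_of_isCode hc
    refine ⟨enc b % 4096, ⟨Nat.mod_lt _ (by norm_num), ?_⟩, ?_⟩
    · rw [← h1, ← card_eq_pc24, hw]
    · rw [← h1, dec_enc]

theorem card_wtF (w : ℕ) :
    (wtF w).card = countBelow (fun k => Nat.beq (pc24 (codeOf k)) w) 4096 := by
  unfold wtF
  rw [Finset.card_image_of_injOn]
  · exact card_filter_range _ _
  · intro k₁ h₁ k₂ h₂ h
    simp only [wtIdx, Finset.coe_filter, Finset.mem_range, Set.mem_ofPred_eq] at h₁ h₂
    have h' : codeOf k₁ = codeOf k₂ := by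
      have := congrArg enc h
      rwa [enc_dec _ (codeOf_lt k₁), enc_dec _ (codeOf_lt k₂)] at this
    rw [← codeOf_mod_self k₁ h₁.1, ← codeOf_mod_self k₂ h₂.1, h']

theorem count_octads : countBelow (fun k => Nat.beq (pc24 (codeOf k)) 8) 4096 = 759 := by
  decide +kernel

theorem count_dodecads : countBelow (fun k => Nat.beq (pc24 (codeOf k)) 12) 4096 = 2576 := by
  decide +kernel

/-- the octads as a finite set. -/
def octF : Finset (Finset GolayPt) := wtF 8

/-- the dodecads as a finite set. -/
def dodF : Finset (Finset GolayPt) := wtF 12

theorem mem_octF (b : Finset GolayPt) : b ∈ octF ↔ b ∈ octads := by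
  unfold octF octads wordsOfWeight
  rw [mem_wtF]; rfl

theorem mem_dodF (b : Finset GolayPt) : b ∈ dodF ↔ b ∈ dodecads := by
  unfold dodF dodecads wordsOfWeight
  rw [mem_wtF]; rfl

theorem card_octF : octF.card = 759 := by
  unfold octF; rw [card_wtF, count_octads]

theorem card_dodF : dodF.card = 2576 := by
  unfold dodF; rw [card_wtF, count_dodecads]

theorem coe_octF : (octF : Set (Finset GolayPt)) = octads := by
  ext b; exact mem_octF b

theorem coe_dodF : (dodF : Set (Finset GolayPt)) = dodecads := by
  ext b; exact mem_dodF b

theorem octads_ncard : octads.ncard = 759 := by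
  rw [← coe_octF, Set.ncard_coe_finset, card_octF]

theorem dodecads_ncard : dodecads.ncard = 2576 := by
  rw [← coe_dodF, Set.ncard_coe_finset, card_dodF]

theorem octads_card {o : Finset GolayPt} (ho : o ∈ octads) : o.card = 8 := ho.2

theorem octads_supports {o : Finset GolayPt} (ho : o ∈ octads) :
    o ∈ supports (golayCode : Set (GolayPt → ZMod 2)) := ho.1

theorem dodecads_card {o : Finset GolayPt} (ho : o ∈ dodecads) : o.card = 12 := ho.2

theorem dodecads_supports {o : Finset GolayPt} (ho : o ∈ dodecads) :
    o ∈ supports (golayCode : Set (GolayPt → ZMod 2)) := ho.1

/-! ### Intersections of octads -/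

theorem card_symmDiff_add (a b : Finset GolayPt) :
    (symmDiff a b).card + 2 * (a ∩ b).card = a.card + b.card := by
  have h1 : symmDiff a b = (a \ b) ∪ (b \ a) := rfl
  have h2 : Disjoint (a \ b) (b \ a) := by
    rw [Finset.disjoint_left]
    intro x hx hx'
    simp only [Finset.mem_sdiff] at hx hx'
    exact hx.2 hx'.1
  rw [h1, Finset.card_union_of_disjoint h2]
  have h3 := Finset.card_sdiff_add_card_inter a b
  have h4 := Finset.card_sdiff_add_card_inter b a
  rw [Finset.inter_comm b a] at h4
  omega

/-- two octads are equal or meet in 0, 2 or 4 points. -/
theorem octads_inter {a b : Finset GolayPt} (ha : a ∈ octads) (hb : b ∈ octads) :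
    a = b ∨ (a ∩ b).card = 0 ∨ (a ∩ b).card = 2 ∨ (a ∩ b).card = 4 := by
  have h1 := card_symmDiff_add a b
  rw [octads_card ha, octads_card hb] at h1
  have h2 := card_of_mem_supports (supports_symmDiff (octads_supports ha) (octads_supports hb))
  have h3 : (a ∩ b).card = 8 → a = b := by
    intro h
    have hab : a ∩ b = a :=
      Finset.eq_of_subset_of_card_le Finset.inter_subset_left (by rw [h, octads_card ha])
    have hba : a ∩ b = b :=
      Finset.eq_of_subset_of_card_le Finset.inter_subset_right (by rw [h, octads_card hb])
    rw [← hab, hba]
  rcases h2 with h | h | h | h | h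
  · left; exact h3 (by omega)
  · right; right; right; omega
  · right; right; left; omega
  · right; left; omega
  · omega

theorem octads_inter_le {a b : Finset GolayPt} (ha : a ∈ octads) (hb : b ∈ octads)
    (hne : a ≠ b) : (a ∩ b).card ≤ 4 := by
  rcases octads_inter ha hb with h | h | h | h
  · exact absurd h hne
  all_goals omega

/-! ### The Steiner system S(5, 8, 24) -/

theorem card_golayPt : Fintype.card GolayPt = 24 := by
  simp [GolayPt, ZMod.card]

theorem octads_unique_of_five {s a b : Finset GolayPt} (hs : 5 ≤ s.card)
    (ha : a ∈ octads) (hb : b ∈ octads) (hsa : s ⊆ a) (hsb : s ⊆ b) : a = b := by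
  by_contra hne
  have h1 := octads_inter_le ha hb hne
  have h2 : s.card ≤ (a ∩ b).card := Finset.card_le_card (Finset.subset_inter hsa hsb)
  omega

theorem exists_octad_of_five (s : Finset GolayPt) (hs : s.card = 5) :
    ∃ o ∈ octads, s ⊆ o := by
  classical
  -- the 5-subsets of octads
  set U : Finset (Finset GolayPt) := octF.biUnion (fun o => Finset.powersetCard 5 o) with hU
  have hdisj : ∀ o ∈ octF, ∀ o' ∈ octF, o ≠ o' →
      Disjoint (Finset.powersetCard 5 o) (Finset.powersetCard 5 o') := by
    intro o ho o' ho' hne
    rw [Finset.disjoint_left]
    intro t ht ht'
    rw [Finset.mem_powersetCard] at ht ht'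
    exact hne (octads_unique_of_five (le_of_eq ht.2.symm) ((mem_octF o).1 ho)
      ((mem_octF o').1 ho') ht.1 ht'.1)
  have hcard : U.card = 42504 := by
    rw [hU, Finset.card_biUnion hdisj]
    have : ∀ o ∈ octF, (Finset.powersetCard 5 o).card = 56 := by
      intro o ho
      rw [Finset.card_powersetCard, octads_card ((mem_octF o).1 ho)]
      decide
    rw [Finset.sum_congr rfl this, Finset.sum_const, card_octF]
    norm_num
  have hsub : U ⊆ Finset.powersetCard 5 Finset.univ := by
    intro t ht
    rw [hU, Finset.mem_biUnion] at ht
    obtain ⟨o, _, ht⟩ := ht
    rw [Finset.mem_powersetCard] at ht ⊢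
    exact ⟨Finset.subset_univ _, ht.2⟩
  have hall : (Finset.powersetCard 5 (Finset.univ : Finset GolayPt)).card = 42504 := by
    rw [Finset.card_powersetCard, Finset.card_univ, card_golayPt]
    decide
  have heq : U = Finset.powersetCard 5 Finset.univ :=
    Finset.eq_of_subset_of_card_le hsub (by rw [hall, hcard])
  have hsU : s ∈ U := by
    rw [heq, Finset.mem_powersetCard]
    exact ⟨Finset.subset_univ _, hs⟩
  rw [hU, Finset.mem_biUnion] at hsU
  obtain ⟨o, ho, hso⟩ := hsU
  exact ⟨o, (mem_octF o).1 ho, (Finset.mem_powersetCard.1 hso).1⟩

/-- the octads form a Steiner system S(5, 8, 24). -/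
theorem octads_steiner : IsSteinerSystem 5 8 octads := by
  refine ⟨fun b hb => octads_card hb, fun s hs => ?_⟩
  obtain ⟨o, ho, hso⟩ := exists_octad_of_five s hs
  refine ⟨o, ⟨ho, hso⟩, ?_⟩
  rintro o' ⟨ho', hso'⟩
  exact octads_unique_of_five (le_of_eq hs.symm) ho' ho hso' hso

end Cfsg.Agent.Helper26
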