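import Cfsg.Agent.Helper26.GolayCount
import Cfsg.Prelude.Def_SporadicCombinatorics

/-!
# Octads through a 4-set, sextets, trios
-/

set_option autoImplicit false
set_option linter.constructorNameAsVariable false

namespace Cfsg.Agent.Helper26

open Cfsg

/-- counting through fibres of constant size (stated with variables only, so that the kernel
never tries to evaluate a concrete finite set). -/
theorem fiber_count {α β : Type*} [DecidableEq β] (s : Finset α) (t : Finset β) (f : α → β)
    (c : ℕ) (hmaps : ∀ a ∈ s, f a ∈ t)
    (hfib : ∀ b ∈ t, (s.filter (fun a => f a = b)).card = c) : s.card = t.card * c := by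
  rw [Finset.card_eq_sum_card_fiberwise hmaps, Finset.sum_congr rfl hfib, Finset.sum_const,
    smul_eq_mul]

/-- two distinct octads containing a common 4-set meet exactly in it. -/
theorem octads_inter_eq_of_four {t o o' : Finset GolayPt} (ht : t.card = 4) (ho : o ∈ octads)
    (ho' : o' ∈ octads) (hne : o ≠ o') (hto : t ⊆ o) (hto' : t ⊆ o') : o ∩ o' = t := by
  have h1 := octads_inter_le ho ho' hne
  exact (Finset.eq_of_subset_of_card_le (Finset.subset_inter hto hto') (by omega)).symm

/-- the octads containing a given set. -/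
def octsThrough (t : Finset GolayPt) : Finset (Finset GolayPt) := octF.filter (fun o => t ⊆ o)

theorem mem_octsThrough {t o : Finset GolayPt} : o ∈ octsThrough t ↔ o ∈ octads ∧ t ⊆ o := by
  unfold octsThrough
  rw [Finset.mem_filter, mem_octF]

/-- a 4-set lies in exactly 5 octads. -/
theorem card_octsThrough_four (t : Finset GolayPt) (ht : t.card = 4) :
    (octsThrough t).card = 5 := by
  classical
  have hcover : (Finset.univ \ t) = (octsThrough t).biUnion (fun o => o \ t) := by
    ext p
    simp only [Finset.mem_sdiff, Finset.mem_univ, true_and, Finset.mem_biUnion]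
    constructor
    · intro hp
      obtain ⟨o, ho, hso⟩ := exists_octad_of_five (insert p t)
        (by rw [Finset.card_insert_of_notMem hp, ht])
      exact ⟨o, mem_octsThrough.2 ⟨ho, (Finset.subset_insert p t).trans hso⟩,
        hso (Finset.mem_insert_self p t), hp⟩
    · rintro ⟨o, _, _, hpt⟩
      exact hpt
  have hdisj : ∀ o ∈ octsThrough t, ∀ o' ∈ octsThrough t, o ≠ o' →
      Disjoint (o \ t) (o' \ t) := by
    intro o ho o' ho' hne
    rw [mem_octsThrough] at ho ho'
    have hi := octads_inter_eq_of_four ht ho.1 ho'.1 hne ho.2 ho'.2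
    rw [Finset.disjoint_left]
    intro p hp hp'
    rw [Finset.mem_sdiff] at hp hp'
    have : p ∈ o ∩ o' := Finset.mem_inter.2 ⟨hp.1, hp'.1⟩
    rw [hi] at this
    exact hp.2 this
  have hc := congrArg Finset.card hcover
  rw [Finset.card_biUnion hdisj, Finset.card_univ_sdiff, card_golayPt, ht] at hc
  have h4 : ∀ o ∈ octsThrough t, (o \ t).card = 4 := by
    intro o ho
    rw [mem_octsThrough] at ho
    rw [Finset.card_sdiff_of_subset ho.2, octads_card ho.1, ht]
  rw [Finset.sum_congr rfl h4, Finset.sum_const, smul_eq_mul] at hc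
  omega

/-! ### Sextets -/

/-- the sextet containing the 4-set `t`. -/
def sextetOf (t : Finset GolayPt) : Finset (Finset GolayPt) :=
  insert t ((octsThrough t).image (fun o => o \ t))

theorem mem_sextetOf_self (t : Finset GolayPt) : t ∈ sextetOf t := Finset.mem_insert_self _ _

theorem mem_sextetOf {t u : Finset GolayPt} :
    u ∈ sextetOf t ↔ u = t ∨ ∃ o, (o ∈ octads ∧ t ⊆ o) ∧ o \ t = u := by
  unfold sextetOf
  simp only [Finset.mem_insert, Finset.mem_image, mem_octsThrough]

theorem card_sextetOf (t : Finset GolayPt) (ht : t.card = 4) : (sextetOf t).card = 6 := by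
  unfold sextetOf
  rw [Finset.card_insert_of_notMem, Finset.card_image_of_injOn, card_octsThrough_four t ht]
  · intro o ho o' ho' h
    simp only [Finset.mem_coe, mem_octsThrough] at ho ho'
    have h' : o \ t = o' \ t := h
    calc o = (o \ t) ∪ t := (Finset.sdiff_union_of_subset ho.2).symm
      _ = (o' \ t) ∪ t := by rw [h']
      _ = o' := Finset.sdiff_union_of_subset ho'.2
  · simp only [Finset.mem_image, mem_octsThrough, not_exists, not_and]
    intro o _ h
    have h3 : t ⊆ o \ t := by rw [h]
    have h4 : t = ∅ := by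
      rw [← Finset.subset_empty]
      intro p hp
      exact absurd hp (Finset.mem_sdiff.1 (h3 hp)).2
    rw [h4] at ht
    simp at ht

theorem sextetOf_mem_sextets (t : Finset GolayPt) (ht : t.card = 4) : sextetOf t ∈ sextets := by
  have hcard : ∀ o, (o ∈ octads ∧ t ⊆ o) → (o \ t).card = 4 := by
    intro o ho
    rw [Finset.card_sdiff_of_subset ho.2, octads_card ho.1, ht]
  have hunion : ∀ o, (o ∈ octads ∧ t ⊆ o) → t ∪ (o \ t) = o := by
    intro o ho
    exact Finset.union_sdiff_of_subset ho.2
  refine ⟨card_sextetOf t ht, ?_, ?_⟩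
  · intro u hu
    rcases mem_sextetOf.1 hu with rfl | ⟨o, ho, rfl⟩
    · exact ht
    · exact hcard o ho
  · intro a ha b hb hab
    rcases mem_sextetOf.1 ha with rfl | ⟨o, ho, rfl⟩
    · rcases mem_sextetOf.1 hb with rfl | ⟨o', ho', rfl⟩
      · exact absurd rfl hab
      · rw [hunion o' ho']; exact ho'.1
    · rcases mem_sextetOf.1 hb with rfl | ⟨o', ho', rfl⟩
      · rw [Finset.union_comm, hunion o ho]; exact ho.1
      · have hne : o ≠ o' := by
          rintro rfl
          exact hab rfl
        have hi := octads_inter_eq_of_four ht ho.1 ho'.1 hne ho.2 ho'.2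
        have hsd : (o \ t) ∪ (o' \ t) = symmDiff o o' := by
          ext p
          have hp : p ∈ t ↔ p ∈ o ∧ p ∈ o' := by rw [← hi, Finset.mem_inter]
          simp only [Finset.mem_union, Finset.mem_sdiff, Finset.mem_symmDiff]
          constructor
          · rintro (⟨h1, h2⟩ | ⟨h1, h2⟩)
            · exact Or.inl ⟨h1, fun h3 => h2 (hp.2 ⟨h1, h3⟩)⟩
            · exact Or.inr ⟨h1, fun h3 => h2 (hp.2 ⟨h3, h1⟩)⟩
          · rintro (⟨h1, h2⟩ | ⟨h1, h2⟩)
            · exact Or.inl ⟨h1, fun h3 => h2 (hp.1 h3).2⟩
            · exact Or.inr ⟨h1, fun h3 => h2 (hp.1 h3).1⟩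
        have hdis : Disjoint (o \ t) (o' \ t) := by
          rw [Finset.disjoint_left]
          intro p hp hp'
          rw [Finset.mem_sdiff] at hp hp'
          have : p ∈ o ∩ o' := Finset.mem_inter.2 ⟨hp.1, hp'.1⟩
          rw [hi] at this
          exact hp.2 this
        refine ⟨?_, ?_⟩
        · rw [hsd]
          exact supports_symmDiff (octads_supports ho.1) (octads_supports ho'.1)
        · rw [Finset.card_union_of_disjoint hdis, hcard o ho, hcard o' ho']

/-- a sextet is determined by any of its tetrads. -/
theorem eq_sextetOf {S : Finset (Finset GolayPt)} (hS : S ∈ sextets) {t : Finset GolayPt}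
    (ht : t ∈ S) : S = sextetOf t := by
  obtain ⟨h6, h4, hun⟩ := hS
  have ht4 := h4 t ht
  apply Finset.eq_of_subset_of_card_le
  · intro u hu
    rw [mem_sextetOf]
    by_cases hut : u = t
    · exact Or.inl hut
    · right
      have ho := hun t ht u hu (Ne.symm hut)
      have h1 := Finset.card_union_add_card_inter t u
      rw [octads_card ho, ht4, h4 u hu] at h1
      have hdis : Disjoint t u := by
        rw [Finset.disjoint_iff_inter_eq_empty, ← Finset.card_eq_zero]
        omega
      refine ⟨t ∪ u, ⟨ho, Finset.subset_union_left⟩, ?_⟩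
      exact Finset.union_sdiff_cancel_left hdis
  · rw [card_sextetOf t ht4, h6]

/-- the sextets, as a finite set. -/
def sextetF : Finset (Finset (Finset GolayPt)) :=
  (Finset.powersetCard 4 Finset.univ).image sextetOf

theorem mem_sextetF (S : Finset (Finset GolayPt)) : S ∈ sextetF ↔ S ∈ sextets := by
  unfold sextetF
  simp only [Finset.mem_image, Finset.mem_powersetCard, Finset.subset_univ, true_and]
  constructor
  · rintro ⟨t, ht, rfl⟩
    exact sextetOf_mem_sextets t ht
  · intro hS
    have h6 : S.card = 6 := hS.1
    have hne : S.Nonempty := by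
      rw [← Finset.card_pos, h6]; norm_num
    obtain ⟨t, ht⟩ := hne
    exact ⟨t, hS.2.1 t ht, (eq_sextetOf hS ht).symm⟩

theorem coe_sextetF : (sextetF : Set (Finset (Finset GolayPt))) = sextets := by
  ext S; exact mem_sextetF S

theorem card_sextetF : sextetF.card = 1771 := by
  have hmaps : ∀ t ∈ Finset.powersetCard 4 (Finset.univ : Finset GolayPt),
      sextetOf t ∈ sextetF := fun t ht => Finset.mem_image_of_mem _ ht
  have hfib : ∀ S ∈ sextetF,
      ((Finset.powersetCard 4 (Finset.univ : Finset GolayPt)).filter
        (fun t => sextetOf t = S)).card = 6 := by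
    intro S hS
    rw [mem_sextetF] at hS
    have : (Finset.powersetCard 4 (Finset.univ : Finset GolayPt)).filter
        (fun t => sextetOf t = S) = S := by
      ext t
      simp only [Finset.mem_filter, Finset.mem_powersetCard, Finset.subset_univ, true_and]
      constructor
      · rintro ⟨_, rfl⟩
        exact mem_sextetOf_self t
      · intro ht
        exact ⟨hS.2.1 t ht, (eq_sextetOf hS ht).symm⟩
    rw [this]
    exact hS.1
  have h1 := fiber_count _ _ sextetOf 6 hmaps hfib
  have hP : (Finset.powersetCard 4 (Finset.univ : Finset GolayPt)).card = 10626 := by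
    rw [Finset.card_powersetCard, Finset.card_univ, card_golayPt]
    norm_num [Nat.choose]
  rw [hP] at h1
  exact Nat.eq_of_mul_eq_mul_right (by norm_num : 0 < 6) (h1.symm.trans (by norm_num))

theorem sextets_ncard : sextets.ncard = 1771 := by
  rw [← coe_sextetF, Set.ncard_coe_finset, card_sextetF]

end Cfsg.Agent.Helper26
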