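import Cfsg.Agent.Helper26.GolaySextet

/-!
# Disjoint octads and trios
-/

set_option autoImplicit false
set_option linter.constructorNameAsVariable false

namespace Cfsg.Agent.Helper26

open Cfsg

theorem compl_union_mem_octads {o o' : Finset GolayPt} (ho : o ∈ octads) (ho' : o' ∈ octads)
    (hd : Disjoint o o') : (o ∪ o')ᶜ ∈ octads := by
  refine ⟨?_, ?_⟩
  · have h := supports_symmDiff (octads_supports ho) (octads_supports ho')
    rw [hd.symmDiff_eq_sup] at h
    exact supports_compl h
  · rw [Finset.card_compl, Finset.card_union_of_disjoint hd, octads_card ho, octads_card ho',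
      card_golayPt]

/-- every octad is disjoint from exactly 30 octads. -/
theorem card_disjoint_octads (o : Finset GolayPt) (ho : o ∈ octads) :
    (octF.filter (fun o' => Disjoint o o')).card = 30 := by
  have h1 := card_filter_octF (fun m => Nat.beq (Nat.land (enc o) m) 0)
  have h2 := allL_spec _ _ disj30_check (enc o) ((mem_octL_iff o).2 ho)
  have h3 : octF.filter (fun o' => Disjoint o o') =
      octF.filter (fun b => (fun m => Nat.beq (Nat.land (enc o) m) 0) (enc b) = true) := by
    apply Finset.filter_congr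
    intro b _
    rw [disjoint_iff_enc, Nat.beq_eq]
    rfl
  rw [h3, h1]
  exact Nat.eq_of_beq_eq_true h2

theorem octad_ne_empty {o : Finset GolayPt} (ho : o ∈ octads) : o ≠ ∅ := by
  intro h
  have := octads_card ho
  rw [h] at this
  simp at this

theorem ne_of_disjoint_octads {o o' : Finset GolayPt} (ho : o ∈ octads)
    (hd : Disjoint o o') : o ≠ o' := by
  rintro rfl
  exact octad_ne_empty ho ((Finset.disjoint_self_iff_empty o).1 hd)

/-- ordered pairs of disjoint octads. -/
def disjPairs : Finset (Finset GolayPt × Finset GolayPt) :=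
  (octF ×ˢ octF).filter (fun p => Disjoint p.1 p.2)

theorem mem_disjPairs {p : Finset GolayPt × Finset GolayPt} :
    p ∈ disjPairs ↔ p.1 ∈ octads ∧ p.2 ∈ octads ∧ Disjoint p.1 p.2 := by
  unfold disjPairs
  rw [Finset.mem_filter, Finset.mem_product, mem_octF, mem_octF, and_assoc]

/- `disjPairs` is a product of concrete finite sets: the elaborator's `whnf` on a hypothesis
`p ∈ disjPairs` would try to enumerate it, so it is made irreducible from here on. -/
attribute [irreducible] disjPairs

theorem card_disjPairs : disjPairs.card = 759 * 30 := by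
  have hmaps : ∀ p ∈ disjPairs, p.1 ∈ octF := by
    intro p hp
    rw [mem_disjPairs] at hp
    rw [mem_octF]
    exact hp.1
  have hfib : ∀ o ∈ octF, (disjPairs.filter (fun p => p.1 = o)).card = 30 := by
    intro o ho
    rw [mem_octF] at ho
    have : disjPairs.filter (fun p => p.1 = o) =
        (octF.filter (fun o' => Disjoint o o')).image (fun o' => (o, o')) := by
      ext ⟨a, b⟩
      simp only [Finset.mem_filter, mem_disjPairs, Finset.mem_image, mem_octF, Prod.mk.injEq]
      constructor
      · rintro ⟨⟨_, hb, hd⟩, rfl⟩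
        exact ⟨b, ⟨hb, hd⟩, rfl, rfl⟩
      · rintro ⟨o', ⟨ho', hd⟩, rfl, rfl⟩
        exact ⟨⟨ho, ho', hd⟩, rfl⟩
    rw [this, Finset.card_image_of_injective _ (Prod.mk_right_injective o)]
    exact card_disjoint_octads o ho
  have h := fiber_count disjPairs octF Prod.fst 30 hmaps hfib
  rw [h, card_octF]

/-! ### Trios -/

/-- the trio determined by an ordered pair of disjoint octads. -/
def trioOf (p : Finset GolayPt × Finset GolayPt) : Finset (Finset GolayPt) :=
  {p.1, p.2, (p.1 ∪ p.2)ᶜ}

theorem mem_trioOf {p : Finset GolayPt × Finset GolayPt} {x : Finset GolayPt} :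
    x ∈ trioOf p ↔ x = p.1 ∨ x = p.2 ∨ x = (p.1 ∪ p.2)ᶜ := by
  unfold trioOf
  simp only [Finset.mem_insert, Finset.mem_singleton]

theorem trioOf_facts {o o' : Finset GolayPt} (ho : o ∈ octads) (ho' : o' ∈ octads)
    (hd : Disjoint o o') :
    (o ∪ o')ᶜ ∈ octads ∧ Disjoint o (o ∪ o')ᶜ ∧ Disjoint o' (o ∪ o')ᶜ ∧
      (trioOf (o, o')).card = 3 := by
  have hc := compl_union_mem_octads ho ho' hd
  have h1 : Disjoint o (o ∪ o')ᶜ :=
    Finset.disjoint_of_subset_left Finset.subset_union_left disjoint_compl_right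
  have h2 : Disjoint o' (o ∪ o')ᶜ :=
    Finset.disjoint_of_subset_left Finset.subset_union_right disjoint_compl_right
  refine ⟨hc, h1, h2, ?_⟩
  unfold trioOf
  rw [Finset.card_insert_of_notMem, Finset.card_insert_of_notMem, Finset.card_singleton]
  · rw [Finset.mem_singleton]
    exact ne_of_disjoint_octads ho' h2
  · rw [Finset.mem_insert, Finset.mem_singleton]
    rintro (h | h)
    · exact ne_of_disjoint_octads ho hd h
    · exact ne_of_disjoint_octads ho h1 h

theorem trioOf_mem_trios {o o' : Finset GolayPt} (ho : o ∈ octads) (ho' : o' ∈ octads)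
    (hd : Disjoint o o') : trioOf (o, o') ∈ trios := by
  obtain ⟨hc, h1, h2, h3⟩ := trioOf_facts ho ho' hd
  refine ⟨h3, ?_, ?_⟩
  · intro x hx
    rcases mem_trioOf.1 hx with rfl | rfl | rfl
    · exact ho
    · exact ho'
    · exact hc
  · intro x hx y hy hxy
    rcases mem_trioOf.1 hx with rfl | rfl | rfl <;> rcases mem_trioOf.1 hy with rfl | rfl | rfl
    · exact absurd rfl hxy
    · exact hd
    · exact h1
    · exact hd.symm
    · exact absurd rfl hxy
    · exact h2
    · exact h1.symm
    · exact h2.symm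
    · exact absurd rfl hxy

/-- a trio is determined by any two of its octads. -/
theorem trio_eq_trioOf {T : Finset (Finset GolayPt)} (hT : T ∈ trios) {o o' : Finset GolayPt}
    (ho : o ∈ T) (ho' : o' ∈ T) (hne : o ≠ o') : T = trioOf (o, o') := by
  obtain ⟨h3, hoct, hdisj⟩ := hT
  have hd := hdisj o ho o' ho' hne
  obtain ⟨hc, _, _, hcard⟩ := trioOf_facts (hoct o ho) (hoct o' ho') hd
  have hlt : ({o, o'} : Finset (Finset GolayPt)).card < T.card := by
    rw [h3, Finset.card_pair hne]
    norm_num
  obtain ⟨c, hcT, hcn⟩ := Finset.exists_mem_notMem_of_card_lt_card hlt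
  rw [Finset.mem_insert, Finset.mem_singleton, not_or] at hcn
  have hco : Disjoint c o := hdisj c hcT o ho hcn.1
  have hco' : Disjoint c o' := hdisj c hcT o' ho' hcn.2
  have hsub : c ⊆ (o ∪ o')ᶜ := by
    intro p hp
    rw [Finset.mem_compl, Finset.mem_union]
    rintro (h | h)
    · exact (Finset.disjoint_left.1 hco hp) h
    · exact (Finset.disjoint_left.1 hco' hp) h
  have hceq : c = (o ∪ o')ᶜ :=
    Finset.eq_of_subset_of_card_le hsub (by rw [octads_card hc, octads_card (hoct c hcT)])
  symm
  apply Finset.eq_of_subset_of_card_le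
  · intro x hx
    rcases mem_trioOf.1 hx with rfl | rfl | rfl
    · exact ho
    · exact ho'
    · rw [← hceq]; exact hcT
  · rw [hcard, h3]

/-- the trios, as a finite set. -/
def trioF : Finset (Finset (Finset GolayPt)) := disjPairs.image trioOf

theorem mem_trioF (T : Finset (Finset GolayPt)) : T ∈ trioF ↔ T ∈ trios := by
  unfold trioF
  rw [Finset.mem_image]
  constructor
  · rintro ⟨⟨o, o'⟩, hp, rfl⟩
    rw [mem_disjPairs] at hp
    exact trioOf_mem_trios hp.1 hp.2.1 hp.2.2
  · intro hT
    have h3 : T.card = 3 := hT.1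
    obtain ⟨o, ho, o', ho', hne⟩ := Finset.one_lt_card.1 (by rw [h3]; norm_num)
    refine ⟨(o, o'), ?_, (trio_eq_trioOf hT ho ho' hne).symm⟩
    rw [mem_disjPairs]
    exact ⟨hT.2.1 o ho, hT.2.1 o' ho', hT.2.2 o ho o' ho' hne⟩

theorem coe_trioF : (trioF : Set (Finset (Finset GolayPt))) = trios := by
  ext T; exact mem_trioF T

theorem card_trioF : trioF.card = 3795 := by
  have hmaps : ∀ p ∈ disjPairs, trioOf p ∈ trioF := by
    intro p hp
    unfold trioF
    exact Finset.mem_image_of_mem _ hp
  have hfib : ∀ T ∈ trioF, (disjPairs.filter (fun p => trioOf p = T)).card = 6 := by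
    intro T hT
    rw [mem_trioF] at hT
    have : disjPairs.filter (fun p => trioOf p = T) = T.offDiag := by
      ext ⟨a, b⟩
      rw [Finset.mem_filter, Finset.mem_offDiag, mem_disjPairs]
      constructor
      · rintro ⟨⟨ha, _, hd⟩, rfl⟩
        exact ⟨mem_trioOf.2 (Or.inl rfl), mem_trioOf.2 (Or.inr (Or.inl rfl)),
          ne_of_disjoint_octads ha hd⟩
      · rintro ⟨ha, hb, hne⟩
        exact ⟨⟨hT.2.1 a ha, hT.2.1 b hb, hT.2.2 a ha b hb hne⟩,
          (trio_eq_trioOf hT ha hb hne).symm⟩
    rw [this, Finset.offDiag_card, hT.1]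
  have h := fiber_count disjPairs trioF trioOf 6 hmaps hfib
  rw [card_disjPairs] at h
  exact Nat.eq_of_mul_eq_mul_right (by norm_num : 0 < 6) (h.symm.trans (by norm_num))

theorem trios_ncard : trios.ncard = 3795 := by
  rw [← coe_trioF, Set.ncard_coe_finset, card_trioF]

end Cfsg.Agent.Helper26
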