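import Cfsg.Agent.Helper26.Co0Count
import Cfsg.Agent.Helper26.HSCert

/-!
# Class sizes for the Higman–Sims pass

Kernel evaluation of `cntAll` (`Co0Count`) for the class functions of the descent passes.
-/

set_option autoImplicit false

namespace Cfsg.Agent.Helper26

set_option maxRecDepth 100000 in
theorem cnt_H1 : cntAll (fun n => Nat.beq (clsH n) 1) = 100 := by decide +kernel

set_option maxRecDepth 100000 in
theorem cnt_H2 : cntAll (fun n => Nat.beq (clsH n) 2) = 352 := by decide +kernel

set_option maxRecDepth 100000 in
theorem cnt_H3 : cntAll (fun n => Nat.beq (clsH n) 3) = 4125 := by decide +kernel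

set_option maxRecDepth 100000 in
theorem cnt_H4 : cntAll (fun n => Nat.beq (clsH n) 4) = 5600 := by decide +kernel

set_option maxRecDepth 100000 in
theorem cnt_H5 : cntAll (fun n => Nat.beq (clsH n) 5) = 1100 := by decide +kernel

end Cfsg.Agent.Helper26
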