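import Cfsg.Agent.Helper26.Co0Cls
import Cfsg.Agent.Helper26.HSCount
import Cfsg.Agent.Helper26.M22Count

/-!
# The Higman–Sims configuration in the Leech lattice

`V = Spor.leechV = (-5, -1^23)`, `U' = Spor.leechU' = (4, -4, 0^22)`, `U = Spor.leechU`.
Every pair of vectors of squared length 48 with inner product `-32` is conjugate to
`(V, -U' - V)` (`pair48`).

* `hs_trans`: the joint stabiliser of `V`, `U'` is transitive on each class of `clsH`.
* `m22_trans`: the joint stabiliser of `V`, `U'`, `U` is transitive on each class of `clsM`.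
* `hs_config` (the 100 points), `hs_rank3` (subdegrees 1, 22, 77).
-/

set_option autoImplicit false

namespace Cfsg.Agent.Helper26

open Cfsg

/-- counting a class of a class function. -/
theorem ncard_cls (cls : ℕ → ℕ) (c N : ℕ) (h : cntAll (fun n => Nat.beq (cls n) c) = N) :
    {x : leechLattice | sqNorm (x : GolayPt → ℤ) = 32 ∧ cls (pk (x : GolayPt → ℤ)) = c}.ncard
      = N := by
  apply ncard_class _ (fun n => Nat.beq (cls n) c) N _ h
  intro x
  constructor
  · rintro ⟨h1, h2⟩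
    refine ⟨h1, ?_⟩
    show Nat.beq (cls (pk (x : GolayPt → ℤ))) c = true
    rw [h2]
    exact Nat.beq_refl c
  · rintro ⟨h1, h2⟩
    exact ⟨h1, Nat.eq_of_beq_eq_true h2⟩

theorem dV_iff24 (w : GolayPt → ℤ) (hw : w ∈ leechLattice) (hn : sqNorm w = 32) :
    dV (pk w) = 5 ↔ dotInt (Spor.leechV : GolayPt → ℤ) w = 24 := by
  rw [← dV_iff w hw hn 3 5 (by norm_num) (by norm_num)]
  norm_num

theorem dV_iff16 (w : GolayPt → ℤ) (hw : w ∈ leechLattice) (hn : sqNorm w = 32) :
    dV (pk w) = 0 ↔ dotInt (Spor.leechV : GolayPt → ℤ) w = -16 := by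
  rw [← dV_iff w hw hn (-2) 0 (by norm_num) (by norm_num)]
  norm_num

/-! ### The pass for `V`, `U'` -/

theorem pk_HV : pk (Spor.leechV : GolayPt → ℤ) = pvHV := by decide +kernel

theorem pk_HU : pk (Spor.leechU' : GolayPt → ℤ) = pvHU := by decide +kernel

theorem clsH_eq (n : ℕ) : clsH n =
    if dV n = 5 then (if dU n = 16 then 1 else 0)
    else if dV n = 0 then
      (if dU n = 14 then 2 else if dU n = 16 then 3 else if dU n = 18 then 4
        else if dU n = 20 then 5 else 6)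
    else 0 := by
  unfold clsH
  simp only [cond_beq]

theorem clsH_spec (w : GolayPt → ℤ) (hw : w ∈ leechLattice) (hn : sqNorm w = 32) :
    clsH (pk w) =
      if dotInt (Spor.leechV : GolayPt → ℤ) w = 24 then
        (if dotInt (Spor.leechU' : GolayPt → ℤ) w = 0 then 1 else 0)
      else if dotInt (Spor.leechV : GolayPt → ℤ) w = -16 then
        (if dotInt (Spor.leechU' : GolayPt → ℤ) w = -8 then 2
          else if dotInt (Spor.leechU' : GolayPt → ℤ) w = 0 then 3
          else if dotInt (Spor.leechU' : GolayPt → ℤ) w = 8 then 4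
          else if dotInt (Spor.leechU' : GolayPt → ℤ) w = 16 then 5 else 6)
      else 0 := by
  have hU := dotU'_eq (short32 hn)
  have a1 : dU (pk w) = 14 ↔ dotInt (Spor.leechU' : GolayPt → ℤ) w = -8 := by omega
  have a2 : dU (pk w) = 16 ↔ dotInt (Spor.leechU' : GolayPt → ℤ) w = 0 := by omega
  have a3 : dU (pk w) = 18 ↔ dotInt (Spor.leechU' : GolayPt → ℤ) w = 8 := by omega
  have a4 : dU (pk w) = 20 ↔ dotInt (Spor.leechU' : GolayPt → ℤ) w = 16 := by omega
  rw [clsH_eq]
  simp only [dV_iff24 w hw hn, dV_iff16 w hw hn, a1, a2, a3, a4]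

theorem clsH_congr (w w' : leechLattice) (hn : sqNorm (w : GolayPt → ℤ) = 32)
    (hn' : sqNorm (w' : GolayPt → ℤ) = 32)
    (h1 : dotInt (Spor.leechV : GolayPt → ℤ) (w : GolayPt → ℤ) =
      dotInt (Spor.leechV : GolayPt → ℤ) (w' : GolayPt → ℤ))
    (h2 : dotInt (Spor.leechU' : GolayPt → ℤ) (w : GolayPt → ℤ) =
      dotInt (Spor.leechU' : GolayPt → ℤ) (w' : GolayPt → ℤ)) :
    clsH (pk (w : GolayPt → ℤ)) = clsH (pk (w' : GolayPt → ℤ)) := by
  rw [clsH_spec _ w.2 hn, clsH_spec _ w'.2 hn', h1, h2]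

/-- the joint stabiliser of `V` and `U'` is transitive on the minimal vectors of a class. -/
theorem hs_trans (c : ℕ) (w w' : leechLattice) (hw : sqNorm (w : GolayPt → ℤ) = 32)
    (hw' : sqNorm (w' : GolayPt → ℤ) = 32) (hc : clsH (pk (w : GolayPt → ℤ)) = c + 1)
    (hc' : clsH (pk (w' : GolayPt → ℤ)) = c + 1) :
    ∃ g : Co0, g • Spor.leechV = Spor.leechV ∧ g • Spor.leechU' = Spor.leechU' ∧ g • w = w' := by
  obtain ⟨g, hg, h⟩ := stab_transM tabH
    (MulAction.stabilizer Co0 Spor.leechV ⊓ MulAction.stabilizer Co0 Spor.leechU')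
    (htab2 tabH Spor.leechV Spor.leechU' (by rw [sqNorm_leechV48]; norm_num)
      (by rw [sqNorm_leechU'32]; norm_num) pvHV pvHU pk_HV pk_HU tabH_ok_pvHV tabH_ok_pvHU)
    clsH tgtsH ⟨cHA, dHA⟩ (hB_of_seg _ cHB dHB cHB_cover) (hC_of_seg _ cHC dHC cHC_length) c
    (fun w => sqNorm (w : GolayPt → ℤ) = 32 ∧ clsH (pk (w : GolayPt → ℤ)) = c + 1)
    (fun g hg w h => by
      have hg' := Subgroup.mem_inf.1 hg
      have a := MulAction.mem_stabilizer_iff.1 hg'.1
      have b := MulAction.mem_stabilizer_iff.1 hg'.2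
      have hn : sqNorm ((g • w : leechLattice) : GolayPt → ℤ) = 32 := by
        rw [co0_norm]; exact h.1
      exact ⟨hn, by
        rw [clsH_congr (g • w) w hn h.1 (dot_fix g _ a w) (dot_fix g _ b w)]; exact h.2⟩)
    (fun _ h => h.1) (fun _ h => h.2) w w' ⟨hw, hc⟩ ⟨hw', hc'⟩
  have hg' := Subgroup.mem_inf.1 hg
  exact ⟨g, MulAction.mem_stabilizer_iff.1 hg'.1, MulAction.mem_stabilizer_iff.1 hg'.2, h⟩

theorem clsH_U' : clsH (pk (Spor.leechU' : GolayPt → ℤ)) = 6 := by decide +kernel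

/-- the class `6` consists of `U'` only. -/
theorem hs_catch (y : leechLattice) (hn : sqNorm (y : GolayPt → ℤ) = 32)
    (hc : clsH (pk (y : GolayPt → ℤ)) = 6) : y = Spor.leechU' := by
  obtain ⟨g, _, b, c⟩ := hs_trans 5 y Spor.leechU' hn sqNorm_leechU'32 hc clsH_U'
  exact MulAction.injective g (show g • y = g • Spor.leechU' by rw [c, b])

/-! ### The pass for `V`, `U'`, `U` -/

theorem pk_MV : pk (Spor.leechV : GolayPt → ℤ) = pvMV := by decide +kernel

theorem pk_MU : pk (Spor.leechU' : GolayPt → ℤ) = pvMU := by decide +kernel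

theorem pk_MW : pk (Spor.leechU : GolayPt → ℤ) = pvMW := by decide +kernel

theorem clsM_eq (n : ℕ) : clsM n =
    if dV n = 5 then
      (if dU n = 16 then (if sU n = 12 then 1 else if sU n = 14 then 2 else 3) else 0)
    else if dV n = 0 then
      (if sU n = 16 then
        (if dU n = 16 then 4 else if dU n = 20 then 5 else if dU n = 18 then 6 else 7) else 0)
    else 0 := by
  unfold clsM
  simp only [cond_beq]

theorem clsM_spec (w : GolayPt → ℤ) (hw : w ∈ leechLattice) (hn : sqNorm w = 32) :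
    clsM (pk w) =
      if dotInt (Spor.leechV : GolayPt → ℤ) w = 24 then
        (if dotInt (Spor.leechU' : GolayPt → ℤ) w = 0 then
          (if dotInt (Spor.leechU : GolayPt → ℤ) w = -16 then 1
            else if dotInt (Spor.leechU : GolayPt → ℤ) w = -8 then 2 else 3) else 0)
      else if dotInt (Spor.leechV : GolayPt → ℤ) w = -16 then
        (if dotInt (Spor.leechU : GolayPt → ℤ) w = 0 then
          (if dotInt (Spor.leechU' : GolayPt → ℤ) w = 0 then 4
            else if dotInt (Spor.leechU' : GolayPt → ℤ) w = 16 then 5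
            else if dotInt (Spor.leechU' : GolayPt → ℤ) w = 8 then 6 else 7) else 0)
      else 0 := by
  have hU := dotU'_eq (short32 hn)
  have hW := dotU_eq (short32 hn)
  have a2 : dU (pk w) = 16 ↔ dotInt (Spor.leechU' : GolayPt → ℤ) w = 0 := by omega
  have a3 : dU (pk w) = 18 ↔ dotInt (Spor.leechU' : GolayPt → ℤ) w = 8 := by omega
  have a4 : dU (pk w) = 20 ↔ dotInt (Spor.leechU' : GolayPt → ℤ) w = 16 := by omega
  have b1 : sU (pk w) = 12 ↔ dotInt (Spor.leechU : GolayPt → ℤ) w = -16 := by omega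
  have b2 : sU (pk w) = 14 ↔ dotInt (Spor.leechU : GolayPt → ℤ) w = -8 := by omega
  have b3 : sU (pk w) = 16 ↔ dotInt (Spor.leechU : GolayPt → ℤ) w = 0 := by omega
  rw [clsM_eq]
  simp only [dV_iff24 w hw hn, dV_iff16 w hw hn, a2, a3, a4, b1, b2, b3]

theorem clsM_congr (w w' : leechLattice) (hn : sqNorm (w : GolayPt → ℤ) = 32)
    (hn' : sqNorm (w' : GolayPt → ℤ) = 32)
    (h1 : dotInt (Spor.leechV : GolayPt → ℤ) (w : GolayPt → ℤ) =
      dotInt (Spor.leechV : GolayPt → ℤ) (w' : GolayPt → ℤ))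
    (h2 : dotInt (Spor.leechU' : GolayPt → ℤ) (w : GolayPt → ℤ) =
      dotInt (Spor.leechU' : GolayPt → ℤ) (w' : GolayPt → ℤ))
    (h3 : dotInt (Spor.leechU : GolayPt → ℤ) (w : GolayPt → ℤ) =
      dotInt (Spor.leechU : GolayPt → ℤ) (w' : GolayPt → ℤ)) :
    clsM (pk (w : GolayPt → ℤ)) = clsM (pk (w' : GolayPt → ℤ)) := by
  rw [clsM_spec _ w.2 hn, clsM_spec _ w'.2 hn', h1, h2, h3]

/-- the joint stabiliser of `V`, `U'` and `U` is transitive on the minimal vectors of a
class. -/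
theorem m22_trans (c : ℕ) (w w' : leechLattice) (hw : sqNorm (w : GolayPt → ℤ) = 32)
    (hw' : sqNorm (w' : GolayPt → ℤ) = 32) (hc : clsM (pk (w : GolayPt → ℤ)) = c + 1)
    (hc' : clsM (pk (w' : GolayPt → ℤ)) = c + 1) :
    ∃ g : Co0, g • Spor.leechV = Spor.leechV ∧ g • Spor.leechU' = Spor.leechU' ∧
      g • Spor.leechU = Spor.leechU ∧ g • w = w' := by
  obtain ⟨g, hg, h⟩ := stab_transM tabM
    (MulAction.stabilizer Co0 Spor.leechV ⊓ MulAction.stabilizer Co0 Spor.leechU' ⊓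
      MulAction.stabilizer Co0 Spor.leechU)
    (htab3 tabM Spor.leechV Spor.leechU' Spor.leechU (by rw [sqNorm_leechV48]; norm_num)
      (by rw [sqNorm_leechU'32]; norm_num) (by rw [sqNorm_leechU32]; norm_num) pvMV pvMU pvMW
      pk_MV pk_MU pk_MW tabM_ok_pvMV tabM_ok_pvMU tabM_ok_pvMW)
    clsM tgtsM ⟨cMA, dMA⟩ (hB_of_seg _ cMB dMB cMB_cover) (hC_of_seg _ cMC dMC cMC_length) c
    (fun w => sqNorm (w : GolayPt → ℤ) = 32 ∧ clsM (pk (w : GolayPt → ℤ)) = c + 1)
    (fun g hg w h => by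
      have hg' := Subgroup.mem_inf.1 hg
      have hg'' := Subgroup.mem_inf.1 hg'.1
      have a := MulAction.mem_stabilizer_iff.1 hg''.1
      have b := MulAction.mem_stabilizer_iff.1 hg''.2
      have c' := MulAction.mem_stabilizer_iff.1 hg'.2
      have hn : sqNorm ((g • w : leechLattice) : GolayPt → ℤ) = 32 := by
        rw [co0_norm]; exact h.1
      exact ⟨hn, by
        rw [clsM_congr (g • w) w hn h.1 (dot_fix g _ a w) (dot_fix g _ b w)
          (dot_fix g _ c' w)]; exact h.2⟩)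
    (fun _ h => h.1) (fun _ h => h.2) w w' ⟨hw, hc⟩ ⟨hw', hc'⟩
  have hg' := Subgroup.mem_inf.1 hg
  have hg'' := Subgroup.mem_inf.1 hg'.1
  exact ⟨g, MulAction.mem_stabilizer_iff.1 hg''.1, MulAction.mem_stabilizer_iff.1 hg''.2,
    MulAction.mem_stabilizer_iff.1 hg'.2, h⟩

theorem sqNorm_negU : sqNorm ((-Spor.leechU : leechLattice) : GolayPt → ℤ) = 32 := by
  decide +kernel

theorem clsM_negU : clsM (pk ((-Spor.leechU : leechLattice) : GolayPt → ℤ)) = 3 := by
  decide +kernel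

theorem clsH_negU : clsH (pk ((-Spor.leechU : leechLattice) : GolayPt → ℤ)) = 1 := by
  decide +kernel

theorem clsM_U' : clsM (pk (Spor.leechU' : GolayPt → ℤ)) = 7 := by decide +kernel

/-- the class `3` consists of `-U` only. -/
theorem m22_catch3 (y : leechLattice) (hn : sqNorm (y : GolayPt → ℤ) = 32)
    (hc : clsM (pk (y : GolayPt → ℤ)) = 3) : y = -Spor.leechU := by
  obtain ⟨g, _, _, c, d⟩ := m22_trans 2 y (-Spor.leechU) hn sqNorm_negU hc clsM_negU
  exact MulAction.injective g (show g • y = g • (-Spor.leechU) by rw [d, co0_neg, c])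

/-- the class `7` consists of `U'` only. -/
theorem m22_catch7 (y : leechLattice) (hn : sqNorm (y : GolayPt → ℤ) = 32)
    (hc : clsM (pk (y : GolayPt → ℤ)) = 7) : y = Spor.leechU' := by
  obtain ⟨g, _, b, _, d⟩ := m22_trans 6 y Spor.leechU' hn sqNorm_leechU'32 hc clsM_U'
  exact MulAction.injective g (show g • y = g • Spor.leechU' by rw [d, b])

/-! ### The standard pair `(V, -U' - V)` -/

theorem dot_W0 (y : GolayPt → ℤ) :
    dotInt ((-Spor.leechU' - Spor.leechV : leechLattice) : GolayPt → ℤ) y =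
      -dotInt (Spor.leechU' : GolayPt → ℤ) y - dotInt (Spor.leechV : GolayPt → ℤ) y := by
  show dotInt (-(Spor.leechU' : GolayPt → ℤ) - (Spor.leechV : GolayPt → ℤ)) y = _
  rw [Cfsg.Agent.Helper92.dotInt_comm, dot_sub_r, dot_neg_r, Cfsg.Agent.Helper92.dotInt_comm y,
    Cfsg.Agent.Helper92.dotInt_comm y]

theorem fix_W0 (h : Co0) (hV : h • Spor.leechV = Spor.leechV)
    (hU : h • Spor.leechU' = Spor.leechU') :
    h • (-Spor.leechU' - Spor.leechV) = -Spor.leechU' - Spor.leechV := by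
  rw [sub_eq_add_neg, co0_add, co0_neg, co0_neg, hV, hU]

theorem dot_negU (y : GolayPt → ℤ) :
    dotInt ((-Spor.leechU : leechLattice) : GolayPt → ℤ) y =
      -dotInt (Spor.leechU : GolayPt → ℤ) y := by
  show dotInt (-(Spor.leechU : GolayPt → ℤ)) y = _
  rw [Cfsg.Agent.Helper92.dotInt_comm, dot_neg_r, Cfsg.Agent.Helper92.dotInt_comm y]

/-- the 100 points of the standard pair, in terms of the class function. -/
theorem hs100_iff (y : leechLattice) :
    (sqNorm (y : GolayPt → ℤ) = 32 ∧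
      dotInt (Spor.leechV : GolayPt → ℤ) (y : GolayPt → ℤ) = 24 ∧
      dotInt ((-Spor.leechU' - Spor.leechV : leechLattice) : GolayPt → ℤ) (y : GolayPt → ℤ) = -24)
    ↔ (sqNorm (y : GolayPt → ℤ) = 32 ∧ clsH (pk (y : GolayPt → ℤ)) = 1) := by
  constructor
  · rintro ⟨h1, h2, h3⟩
    rw [dot_W0] at h3
    refine ⟨h1, ?_⟩
    rw [clsH_spec _ y.2 h1, if_pos h2, if_pos (by omega)]
  · rintro ⟨h1, h2⟩
    rw [clsH_spec _ y.2 h1] at h2
    rw [dot_W0]
    refine ⟨h1, ?_⟩
    split_ifs at h2 <;> omega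

/-- **The Higman–Sims configuration**: 100 minimal vectors, permuted transitively by the joint
stabiliser. -/
theorem hs_config (v w : leechLattice) (hv : sqNorm (v : GolayPt → ℤ) = 48)
    (hw : sqNorm (w : GolayPt → ℤ) = 48)
    (hvw : dotInt (v : GolayPt → ℤ) (w : GolayPt → ℤ) = -32) :
    {x : leechLattice | sqNorm (x : GolayPt → ℤ) = 32 ∧
      dotInt (v : GolayPt → ℤ) (x : GolayPt → ℤ) = 24 ∧
      dotInt (w : GolayPt → ℤ) (x : GolayPt → ℤ) = -24}.ncard = 100 ∧
    ∀ x ∈ {x : leechLattice | sqNorm (x : GolayPt → ℤ) = 32 ∧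
      dotInt (v : GolayPt → ℤ) (x : GolayPt → ℤ) = 24 ∧
      dotInt (w : GolayPt → ℤ) (x : GolayPt → ℤ) = -24},
    ∀ x' ∈ {x : leechLattice | sqNorm (x : GolayPt → ℤ) = 32 ∧
      dotInt (v : GolayPt → ℤ) (x : GolayPt → ℤ) = 24 ∧
      dotInt (w : GolayPt → ℤ) (x : GolayPt → ℤ) = -24},
    ∃ g : Co0, g • v = v ∧ g • w = w ∧ g • x = x' := by
  obtain ⟨g, h1, h2⟩ := pair48 v w hv hw hvw
  have key : ∀ x : leechLattice, (sqNorm (x : GolayPt → ℤ) = 32 ∧
      dotInt (v : GolayPt → ℤ) (x : GolayPt → ℤ) = 24 ∧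
      dotInt (w : GolayPt → ℤ) (x : GolayPt → ℤ) = -24) ↔
      (sqNorm ((g • x : leechLattice) : GolayPt → ℤ) = 32 ∧
        clsH (pk ((g • x : leechLattice) : GolayPt → ℤ)) = 1) := by
    intro x
    rw [← hs100_iff, co0_norm, dot_map g v _ h1, dot_map g w _ h2]
  constructor
  · rw [← ncard_cls clsH 1 100 cnt_H1]
    exact ncard_smul g _ _ key
  · intro x hx x' hx'
    obtain ⟨h, a, b, c⟩ := hs_trans 0 (g • x) (g • x') ((key x).1 hx).1 ((key x').1 hx').1
      ((key x).1 hx).2 ((key x').1 hx').2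
    exact ⟨g⁻¹ * h * g, conj_fix g h v (by rw [h1]; exact a),
      conj_fix g h w (by rw [h2]; exact fix_W0 h a b), conj_map g h x x' c⟩

end Cfsg.Agent.Helper26
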