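import Cfsg.Agent.Helper26.Co0XiPack

/-!
# Self-duality of the code and a finite test for membership in the lattice
-/

set_option autoImplicit false

namespace Cfsg.Agent.Helper26

open Cfsg Cfsg.Agent.Helper92

/-- the mask `e` meets every basis word in an even number of points. -/
def orthB (e : ℕ) : Bool := basisL.all (fun b => Nat.beq (Nat.land (pc24 (Nat.land e b)) 1) 0)

theorem dual_check :
    allBelow (fun h => Nat.beq h 0 || !(orthB (Nat.mul h 4096))) 4096 = true := by
  decide +kernel

theorem basisL_lt : ∀ b ∈ basisL, b < 2 ^ 24 := by decide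

theorem basisL_isCode : ∀ b ∈ basisL, isCode b = true := by decide +kernel

theorem basisL_card : ∀ b ∈ basisL, 4 ∣ pc24 b := by decide +kernel

theorem dec_basis_mem {b : ℕ} (hb : b ∈ basisL) :
    dec b ∈ supports (golayCode : Set (GolayPt → ZMod 2)) := by
  rw [mem_supports_iff, enc_dec b (basisL_lt b hb)]
  exact basisL_isCode b hb

/-- **Self-duality**: a set meeting every basis word evenly is the support of a code word. -/
theorem selfdual (A : Finset GolayPt) (h : ∀ b ∈ basisL, 2 ∣ (A ∩ dec b).card) :
    A ∈ supports (golayCode : Set (GolayPt → ZMod 2)) := by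
  have hclt : codeOf (enc A) < 2 ^ 24 := codeOf_lt _
  have hC : dec (codeOf (enc A)) ∈ supports (golayCode : Set (GolayPt → ZMod 2)) := by
    rw [mem_supports_iff, enc_dec _ hclt]
    exact isCode_codeOf _
  have he : enc (symmDiff A (dec (codeOf (enc A)))) = enc A ^^^ codeOf (enc A) := by
    rw [enc_symmDiff, enc_dec _ hclt]
  have hmod : (enc A ^^^ codeOf (enc A)) % 4096 = 0 := by
    have h1 : codeOf (enc A) % 4096 = enc A % 4096 := by
      rw [← codeOf_mod (enc A)]
      exact codeOf_mod_self _ (Nat.mod_lt _ (by norm_num))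
    have h2 := Nat.xor_mod_two_pow (a := enc A) (b := codeOf (enc A)) (n := 12)
    norm_num at h2
    rw [h2, h1, Nat.xor_self]
  have hlt : enc A ^^^ codeOf (enc A) < 2 ^ 24 := Nat.xor_lt_two_pow (enc_lt A) hclt
  have horth : orthB (enc A ^^^ codeOf (enc A)) = true := by
    unfold orthB
    rw [List.all_eq_true]
    intro b hb
    have h3 : 2 ∣ (symmDiff A (dec (codeOf (enc A))) ∩ dec b).card := by
      have h4 := h b hb
      have h5 := even_card_inter hC (dec_basis_mem hb)
      have h6 : symmDiff A (dec (codeOf (enc A))) ∩ dec b =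
          symmDiff (A ∩ dec b) (dec (codeOf (enc A)) ∩ dec b) := inf_symmDiff_distrib_right _ _ _
      rw [h6]
      have h7 := card_symmDiff_add (A ∩ dec b) (dec (codeOf (enc A)) ∩ dec b)
      omega
    rw [card_eq_pc24, enc_inter, he, enc_dec b (basisL_lt b hb)] at h3
    have h8 : Nat.land (pc24 (Nat.land (enc A ^^^ codeOf (enc A)) b)) 1 =
        pc24 ((enc A ^^^ codeOf (enc A)) &&& b) % 2 := by
      show pc24 ((enc A ^^^ codeOf (enc A)) &&& b) &&& 1 = _
      exact Nat.and_one_is_mod _
    have h9 : Nat.land (pc24 (Nat.land (enc A ^^^ codeOf (enc A)) b)) 1 = 0 := by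
      rw [h8]; omega
    show Nat.beq (Nat.land (pc24 (Nat.land (enc A ^^^ codeOf (enc A)) b)) 1) 0 = true
    rw [h9]; rfl
  have hz : enc A ^^^ codeOf (enc A) = 0 := by
    have h9 := allBelow_spec _ _ dual_check ((enc A ^^^ codeOf (enc A)) / 4096)
      (by omega)
    have h10 : Nat.mul ((enc A ^^^ codeOf (enc A)) / 4096) 4096 = enc A ^^^ codeOf (enc A) := by
      show (enc A ^^^ codeOf (enc A)) / 4096 * 4096 = _
      omega
    simp only [h10, horth, Bool.not_true, Bool.or_false] at h9
    have h11 := Nat.eq_of_beq_eq_true h9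
    omega
  have hA : symmDiff A (dec (codeOf (enc A))) = ∅ := by
    apply enc_injective
    rw [he, hz, enc_empty]
  have : A = dec (codeOf (enc A)) := symmDiff_eq_bot.1 hA
  rw [this]; exact hC

/-! ### Test vectors -/

/-- `4 e_∞ + 4 e_b`. -/
def tA (b : GolayPt) : GolayPt → ℤ := fun p => (if p = none then 4 else 0) + (if p = b then 4 else 0)

/-- `(−3, 1, …, 1)` with the `−3` at `∞`. -/
def tC : GolayPt → ℤ := fun p => 1 - (if p = none then 4 else 0)

/-- twice the word of mask `b`. -/
def tB (b : ℕ) : GolayPt → ℤ := fun p => if b.testBit (idx p) then 2 else 0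

theorem dot_tA (x : GolayPt → ℤ) (b : GolayPt) : dotInt x (tA b) = 4 * x none + 4 * x b := by
  unfold dotInt tA
  simp only [mul_add, mul_ite, mul_zero, Finset.sum_add_distrib, Finset.sum_ite_eq',
    Finset.mem_univ, if_true]
  ring

theorem dot_tC (x : GolayPt → ℤ) : dotInt x tC = (∑ p, x p) - 4 * x none := by
  unfold dotInt tC
  simp only [mul_sub, mul_one, mul_ite, mul_zero, Finset.sum_sub_distrib, Finset.sum_ite_eq',
    Finset.mem_univ, if_true]
  ring

theorem dot_tB (x : GolayPt → ℤ) (b : ℕ) : dotInt x (tB b) = 2 * ∑ p ∈ dec b, x p := by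
  unfold dotInt tB dec
  simp only [mul_ite, mul_zero]
  rw [Finset.sum_filter, Finset.mul_sum]
  apply Finset.sum_congr rfl
  intro p _
  split_ifs <;> ring

/-- **Detection**: an integer vector whose inner products with the test vectors are all
divisible by 8 lies in the lattice. -/
theorem detect (x : GolayPt → ℤ) (hA : ∀ b, b ≠ none → (8 : ℤ) ∣ dotInt x (tA b))
    (hC : (8 : ℤ) ∣ dotInt x tC) (hB : ∀ b ∈ basisL, (8 : ℤ) ∣ dotInt x (tB b)) :
    x ∈ leechLattice := by
  rw [mem_leechLattice_iff, mem_leechSet_iff]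
  have hpar : ∀ i, x i ≡ x none [ZMOD 2] := by
    intro i
    by_cases hi : i = none
    · rw [hi]
    · have := hA i hi
      rw [dot_tA] at this
      unfold Int.ModEq
      omega
  refine ⟨x none, hpar, ?_, ?_⟩
  · have := hC
    rw [dot_tC] at this
    unfold Int.ModEq
    omega
  · apply selfdual
    intro b hb
    have h4 : (4 : ℤ) ∣ ∑ p ∈ dec b, x p := by
      have := hB b hb
      rw [dot_tB] at this
      omega
    have hcard : 4 ∣ (dec b).card := by
      rw [card_eq_pc24, enc_dec b (basisL_lt b hb)]
      exact basisL_card b hb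
    obtain ⟨c, hc⟩ := hcard
    have e1 : (∑ p ∈ dec b, x p) % 4 =
        (∑ p ∈ dec b, (x none + 2 * (if p ∈ lvl x (x none) then (1 : ℤ) else 0))) % 4 := by
      rw [Finset.sum_int_mod,
        Finset.sum_int_mod (f := fun p => x none + 2 * (if p ∈ lvl x (x none) then (1 : ℤ) else 0))]
      congr 1
      apply Finset.sum_congr rfl
      intro p _
      have h1 := hpar p
      unfold Int.ModEq at h1
      by_cases hp : p ∈ lvl x (x none)
      · rw [if_pos hp]
        rw [mem_lvl] at hp
        unfold Int.ModEq at hp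
        omega
      · rw [if_neg hp]
        rw [mem_lvl] at hp
        unfold Int.ModEq at hp
        omega
    have e2 : ∑ p ∈ dec b, (x none + 2 * (if p ∈ lvl x (x none) then (1 : ℤ) else 0)) =
        4 * ((c : ℤ) * x none) + 2 * ((lvl x (x none) ∩ dec b).card : ℤ) := by
      rw [Finset.sum_add_distrib, Finset.sum_const, ← Finset.mul_sum, Finset.sum_boole, hc,
        Finset.filter_mem_eq_inter, Finset.inter_comm]
      simp only [nsmul_eq_mul, Nat.cast_mul, Nat.cast_ofNat]
      ring
    rw [e2] at e1
    generalize (c : ℤ) * x none = t at e1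
    omega

end Cfsg.Agent.Helper26
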