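import Cfsg.Agent.Helper92.Leech

/-!
# Integer vectors on the 24 points packed into one natural number

A vector `x : GolayPt → ℤ` with all coordinates in `[-7, 7]` is packed as
`pk x = ∑ p, (x p + 8) * 16 ^ idx p` (one hexadecimal digit per coordinate, offset 8).
-/

set_option autoImplicit false

namespace Cfsg.Agent.Helper26

open Cfsg

/-- nibble `i` of `n` (raw operations, for fast kernel evaluation). -/
def nib (n i : ℕ) : ℕ := Nat.land (Nat.shiftRight n (4 * i)) 15

theorem nib_eq (n i : ℕ) : nib n i = n / 16 ^ i % 16 := by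
  show (n >>> (4 * i)) &&& 15 = _
  rw [Nat.shiftRight_eq_div_pow, pow_mul]
  have h : (15 : ℕ) = 2 ^ 4 - 1 := by norm_num
  rw [h, Nat.and_two_pow_sub_one_eq_mod]
  norm_num

theorem nib_lt (n i : ℕ) : nib n i < 16 := by
  rw [nib_eq]; exact Nat.mod_lt _ (by norm_num)

/-- sums over the 24 points as sums over `range 24`. -/
theorem sum_pt {M : Type*} [AddCommMonoid M] (g : GolayPt → M) :
    ∑ p, g p = ∑ i ∈ Finset.range 24, g (pt i) := by
  refine Finset.sum_nbij' (fun p => idx p) (fun i => pt i) ?_ ?_ ?_ ?_ ?_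
  · intro p _; exact Finset.mem_range.2 (idx_lt p)
  · intro i _; exact Finset.mem_univ _
  · intro p _; exact pt_idx p
  · intro i hi; exact idx_pt i (Finset.mem_range.1 hi)
  · intro p _; rw [pt_idx]

theorem range_sum_lt (F : ℕ → ℕ) (hF : ∀ i, F i < 16) (n : ℕ) :
    ∑ i ∈ Finset.range n, F i * 16 ^ i < 16 ^ n := by
  induction n with
  | zero => simp
  | succ n ih =>
    rw [Finset.sum_range_succ, pow_succ]
    have h1 : F n * 16 ^ n ≤ 15 * 16 ^ n := Nat.mul_le_mul_right _ (by have := hF n; omega)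
    omega

theorem range_digit (F : ℕ → ℕ) (hF : ∀ i, F i < 16) (n j : ℕ) (hj : j < n) :
    (∑ i ∈ Finset.range n, F i * 16 ^ i) / 16 ^ j % 16 = F j := by
  induction n with
  | zero => omega
  | succ n ih =>
    rw [Finset.sum_range_succ]
    have hA := range_sum_lt F hF n
    rcases Nat.lt_succ_iff_lt_or_eq.1 hj with h | h
    · have e : 16 ^ n = 16 ^ j * 16 ^ (n - j) := by rw [← pow_add]; congr 1; omega
      have e2 : F n * 16 ^ n = 16 ^ j * (F n * 16 ^ (n - j)) := by rw [e]; ring
      rw [e2, Nat.add_mul_div_left _ _ (by positivity)]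
      have e3 : 16 ^ (n - j) = 16 * 16 ^ (n - j - 1) := by
        rw [← pow_succ']; congr 1; omega
      rw [e3]
      have e4 : F n * (16 * 16 ^ (n - j - 1)) = 16 * (F n * 16 ^ (n - j - 1)) := by ring
      rw [e4, Nat.add_mul_mod_self_left]
      exact ih h
    · subst h
      rw [Nat.add_mul_div_right _ _ (by positivity), Nat.div_eq_of_lt hA, zero_add]
      exact Nat.mod_eq_of_lt (hF j)

/-- the number whose nibble at `idx p` is `f p`. -/
def pkN (f : GolayPt → ℕ) : ℕ := ∑ p, f p * 16 ^ idx p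

theorem pkN_eq_range (f : GolayPt → ℕ) :
    pkN f = ∑ i ∈ Finset.range 24, f (pt i) * 16 ^ i := by
  unfold pkN
  rw [sum_pt]
  apply Finset.sum_congr rfl
  intro i hi
  rw [idx_pt i (Finset.mem_range.1 hi)]

theorem pkN_lt (f : GolayPt → ℕ) (hf : ∀ p, f p < 16) : pkN f < 16 ^ 24 := by
  rw [pkN_eq_range]
  exact range_sum_lt (fun i => f (pt i)) (fun i => hf _) 24

theorem nib_pkN (f : GolayPt → ℕ) (hf : ∀ p, f p < 16) (q : GolayPt) :
    nib (pkN f) (idx q) = f q := by
  rw [nib_eq, pkN_eq_range, range_digit (fun i => f (pt i)) (fun i => hf _) 24 (idx q) (idx_lt q),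
    pt_idx]

theorem nib_pkN' (f : GolayPt → ℕ) (hf : ∀ p, f p < 16) (i : ℕ) (hi : i < 24) :
    nib (pkN f) i = f (pt i) := by
  have := nib_pkN f hf (pt i)
  rwa [idx_pt i hi] at this

theorem pkN_injective {f g : GolayPt → ℕ} (hf : ∀ p, f p < 16) (hg : ∀ p, g p < 16)
    (h : pkN f = pkN g) : f = g := by
  funext q
  rw [← nib_pkN f hf q, ← nib_pkN g hg q, h]

theorem pkN_add (f g : GolayPt → ℕ) : pkN (fun p => f p + g p) = pkN f + pkN g := by
  simp only [pkN, add_mul, Finset.sum_add_distrib]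

theorem pkN_mul (c : ℕ) (f : GolayPt → ℕ) : pkN (fun p => c * f p) = c * pkN f := by
  simp only [pkN, Finset.mul_sum, mul_assoc]

/-- a vector all of whose coordinates lie in `[-7, 7]`. -/
def Short (x : GolayPt → ℤ) : Prop := ∀ p, -7 ≤ x p ∧ x p ≤ 7

/-- the nibble function of a vector. -/
def nibOf (x : GolayPt → ℤ) : GolayPt → ℕ := fun p => (x p + 8).toNat

theorem nibOf_lt {x : GolayPt → ℤ} (hx : Short x) (p : GolayPt) : nibOf x p < 16 := by
  have := hx p
  unfold nibOf
  omega

theorem nibOf_pos {x : GolayPt → ℤ} (hx : Short x) (p : GolayPt) : 1 ≤ nibOf x p := by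
  have := hx p
  unfold nibOf
  omega

theorem nibOf_cast {x : GolayPt → ℤ} (hx : Short x) (p : GolayPt) :
    (nibOf x p : ℤ) = x p + 8 := by
  have := hx p
  unfold nibOf
  omega

/-- the packed form of a vector. -/
def pk (x : GolayPt → ℤ) : ℕ := pkN (nibOf x)

theorem nib_pk {x : GolayPt → ℤ} (hx : Short x) (p : GolayPt) :
    nib (pk x) (idx p) = nibOf x p := nib_pkN _ (nibOf_lt hx) p

theorem nib_pk' {x : GolayPt → ℤ} (hx : Short x) (i : ℕ) (hi : i < 24) :
    nib (pk x) i = nibOf x (pt i) := nib_pkN' _ (nibOf_lt hx) i hi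

theorem pk_lt {x : GolayPt → ℤ} (hx : Short x) : pk x < 16 ^ 24 := pkN_lt _ (nibOf_lt hx)

theorem pk_injective {x y : GolayPt → ℤ} (hx : Short x) (hy : Short y) (h : pk x = pk y) :
    x = y := by
  have h1 := pkN_injective (nibOf_lt hx) (nibOf_lt hy) h
  funext p
  have h2 := congrFun h1 p
  have h3 := nibOf_cast hx p
  have h4 := nibOf_cast hy p
  rw [h2] at h3
  omega

theorem sq_le_sqNorm (x : GolayPt → ℤ) (p : GolayPt) : x p ^ 2 ≤ sqNorm x := by
  unfold sqNorm
  exact Finset.single_le_sum (f := fun i => x i ^ 2) (fun i _ => sq_nonneg _) (Finset.mem_univ p)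

theorem short_of_sqNorm {x : GolayPt → ℤ} (h : sqNorm x < 64) : Short x := by
  intro p
  have h1 := sq_le_sqNorm x p
  constructor <;> nlinarith

/-- the packed form only depends on nibbles: `pk x = pkN f` as soon as `f` is the nibble function. -/
theorem pk_eq_pkN {x : GolayPt → ℤ} (hx : Short x) (f : GolayPt → ℕ)
    (h : ∀ p, (f p : ℤ) = x p + 8) : pk x = pkN f := by
  unfold pk
  congr 1
  funext p
  have := nibOf_cast hx p
  have := h p
  omega

end Cfsg.Agent.Helper26
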