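import Cfsg.Agent.Helper26.McLTrans

/-!
# The rank 4 action of the McLaughlin group on 2025 points

For minimal vectors `v`, `w` of inner product `-8`, the joint stabiliser is transitive on the
`2025` minimal vectors `x` with `v · x = 0`, `w · x = 16`, and the stabiliser of such an `x` has
further orbits of sizes `330`, `462`, `1232` (`mcl_2025`).  The standard configuration is
`(U, -V - U, U')`.
-/

set_option autoImplicit false

namespace Cfsg.Agent.Helper26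

open Cfsg

theorem sqNorm_w0 : sqNorm ((-Spor.leechV - Spor.leechU : leechLattice) : GolayPt → ℤ) = 32 := by
  decide +kernel

theorem dot_U_w0 : dotInt (Spor.leechU : GolayPt → ℤ)
    ((-Spor.leechV - Spor.leechU : leechLattice) : GolayPt → ℤ) = -8 := by decide +kernel

theorem dot_w0 (y : GolayPt → ℤ) :
    dotInt ((-Spor.leechV - Spor.leechU : leechLattice) : GolayPt → ℤ) y =
      -dotInt (Spor.leechV : GolayPt → ℤ) y - dotInt (Spor.leechU : GolayPt → ℤ) y := by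
  show dotInt (-(Spor.leechV : GolayPt → ℤ) - (Spor.leechU : GolayPt → ℤ)) y = _
  rw [Cfsg.Agent.Helper92.dotInt_comm, dot_sub_r, dot_neg_r, Cfsg.Agent.Helper92.dotInt_comm y,
    Cfsg.Agent.Helper92.dotInt_comm y]

theorem fix_w0 (h : Co0) (hV : h • Spor.leechV = Spor.leechV)
    (hU : h • Spor.leechU = Spor.leechU) :
    h • (-Spor.leechV - Spor.leechU) = -Spor.leechV - Spor.leechU := by
  rw [sub_eq_add_neg, co0_add, co0_neg, co0_neg, hV, hU]

theorem clsL_U' : clsL (pk (Spor.leechU' : GolayPt → ℤ)) = 2 := by decide +kernel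

/-- a pair of minimal vectors with inner product `-8` is conjugate to `(U, -V - U)`. -/
theorem pair32 (v w : leechLattice) (hv : sqNorm (v : GolayPt → ℤ) = 32)
    (hw : sqNorm (w : GolayPt → ℤ) = 32)
    (hvw : dotInt (v : GolayPt → ℤ) (w : GolayPt → ℤ) = -8) :
    ∃ g : Co0, g • v = Spor.leechU ∧ g • w = -Spor.leechV - Spor.leechU := by
  obtain ⟨g, hg⟩ := Cfsg.Agent.Helper92.exists_smul_eq_of_norm32 v Spor.leechU hv sqNorm_leechU32
  obtain ⟨h, a, b⟩ := co2_trans8 (g • w) (-Spor.leechV - Spor.leechU) (by rw [co0_norm]; exact hw)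
    sqNorm_w0 (by rw [dot_map g v _ hg]; exact hvw) dot_U_w0
  exact ⟨h * g, by rw [mul_smul, hg, a], by rw [mul_smul, b]⟩

theorem m22_of_cls456 (z : leechLattice) (hn : sqNorm (z : GolayPt → ℤ) = 32) (c : ℕ)
    (hc : clsM (pk (z : GolayPt → ℤ)) = c) (h4 : 4 ≤ c) :
    dotInt (Spor.leechV : GolayPt → ℤ) (z : GolayPt → ℤ) = -16 ∧
    dotInt (Spor.leechU : GolayPt → ℤ) (z : GolayPt → ℤ) = 0 := by
  rw [clsM_spec _ z.2 hn] at hc
  split_ifs at hc <;> omega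

/-- **The rank 4 action of the McLaughlin group on 2025 points.** -/
theorem mcl_2025 (v w : ↥Cfsg.leechLattice) (hv : Cfsg.sqNorm (v : Cfsg.GolayPt → ℤ) = 32) (hw : Cfsg.sqNorm (w : Cfsg.GolayPt → ℤ) = 32) (hvw : Cfsg.dotInt (v : Cfsg.GolayPt → ℤ) (w : Cfsg.GolayPt → ℤ) = -8) : {x : ↥Cfsg.leechLattice | Cfsg.sqNorm (x : Cfsg.GolayPt → ℤ) = 32 ∧ Cfsg.dotInt (v : Cfsg.GolayPt → ℤ) (x : Cfsg.GolayPt → ℤ) = 0 ∧ Cfsg.dotInt (w : Cfsg.GolayPt → ℤ) (x : Cfsg.GolayPt → ℤ) = 16}.ncard = 2025 ∧ (∀ x ∈ {x : ↥Cfsg.leechLattice | Cfsg.sqNorm (x : Cfsg.GolayPt → ℤ) = 32 ∧ Cfsg.dotInt (v : Cfsg.GolayPt → ℤ) (x : Cfsg.GolayPt → ℤ) = 0 ∧ Cfsg.dotInt (w : Cfsg.GolayPt → ℤ) (x : Cfsg.GolayPt → ℤ) = 16}, ∀ x' ∈ {x : ↥Cfsg.leechLattice | Cfsg.sqNorm (x : Cfsg.GolayPt → ℤ) = 32 ∧ Cfsg.dotInt (v : Cfsg.GolayPt → ℤ) (x : Cfsg.GolayPt → ℤ) = 0 ∧ Cfsg.dotInt (w : Cfsg.GolayPt → ℤ) (x : Cfsg.GolayPt → ℤ) = 16}, ∃ g : ↥Cfsg.Co0,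 g • v = v ∧ g • w = w ∧ g • x = x') ∧ ∀ x ∈ {x : ↥Cfsg.leechLattice | Cfsg.sqNorm (x : Cfsg.GolayPt → ℤ) = 32 ∧ Cfsg.dotInt (v : Cfsg.GolayPt → ℤ) (x : Cfsg.GolayPt → ℤ) = 0 ∧ Cfsg.dotInt (w : Cfsg.GolayPt → ℤ) (x : Cfsg.GolayPt → ℤ) = 16}, ∃ y₁ ∈ {x : ↥Cfsg.leechLattice | Cfsg.sqNorm (x : Cfsg.GolayPt → ℤ) = 32 ∧ Cfsg.dotInt (v : Cfsg.GolayPt → ℤ) (x : Cfsg.GolayPt → ℤ) = 0 ∧ Cfsg.dotInt (w : Cfsg.GolayPt → ℤ) (x : Cfsg.GolayPt → ℤ) = 16}, ∃ y₂ ∈ {x : ↥Cfsg.leechLattice | Cfsg.sqNorm (x : Cfsg.GolayPt → ℤ) = 32 ∧ Cfsg.dotInt (v : Cfsg.GolayPt → ℤ) (x : Cfsg.GolayPt → ℤ) = 0 ∧ Cfsg.dotInt (w : Cfsg.GolayPt → ℤ) (x : Cfsg.GolayPt → ℤ) = 16}, ∃ y₃ ∈ {x : ↥Cfsg.leechLattice | Cfsg.sqNorm (x : Cfsg.GolayPt → ℤ) = 32 ∧ Cfsg.dotInt (v : Cfsg.GolayPt → ℤ) (x : Cfsg.GolayPt → ℤ) = 0 ∧ Cfsg.dotInt (w : Cfsg.GolayPt → ℤ) (x : Cfsg.GolayPt → ℤ) = 16}, (MulAction.orbit ↥(MulAction.stabilizer ↥Cfsg.Co0 v ⊓ MulAction.stabilizer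 ↥Cfsg.Co0 w ⊓ MulAction.stabilizer ↥Cfsg.Co0 x) y₁).ncard = 330 ∧ (MulAction.orbit ↥(MulAction.stabilizer ↥Cfsg.Co0 v ⊓ MulAction.stabilizer ↥Cfsg.Co0 w ⊓ MulAction.stabilizer ↥Cfsg.Co0 x) y₂).ncard = 462 ∧ (MulAction.orbit ↥(MulAction.stabilizer ↥Cfsg.Co0 v ⊓ MulAction.stabilizer ↥Cfsg.Co0 w ⊓ MulAction.stabilizer ↥Cfsg.Co0 x) y₃).ncard = 1232 := by
  obtain ⟨g, h1, h2⟩ := pair32 v w hv hw hvw
  have memS : ∀ (g : Co0), g • v = Spor.leechU → g • w = -Spor.leechV - Spor.leechU →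
      ∀ x : leechLattice, (sqNorm (x : GolayPt → ℤ) = 32 ∧
      dotInt (v : GolayPt → ℤ) (x : GolayPt → ℤ) = 0 ∧
      dotInt (w : GolayPt → ℤ) (x : GolayPt → ℤ) = 16) ↔
      (sqNorm ((g • x : leechLattice) : GolayPt → ℤ) = 32 ∧
        dotInt (Spor.leechV : GolayPt → ℤ) ((g • x : leechLattice) : GolayPt → ℤ) = -16 ∧
        dotInt (Spor.leechU : GolayPt → ℤ) ((g • x : leechLattice) : GolayPt → ℤ) = 0) := by
    intro g h1 h2 x
    have e1 := dot_map g v _ h1 x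
    have e2 := dot_map g w _ h2 x
    rw [dot_w0] at e2
    rw [co0_norm]
    constructor
    · rintro ⟨a, b, c⟩
      exact ⟨a, by omega, by omega⟩
    · rintro ⟨a, b, c⟩
      exact ⟨a, by omega, by omega⟩
  have key : ∀ x : leechLattice, (sqNorm (x : GolayPt → ℤ) = 32 ∧
      dotInt (v : GolayPt → ℤ) (x : GolayPt → ℤ) = 0 ∧
      dotInt (w : GolayPt → ℤ) (x : GolayPt → ℤ) = 16) ↔
      (sqNorm ((g • x : leechLattice) : GolayPt → ℤ) = 32 ∧
        clsL (pk ((g • x : leechLattice) : GolayPt → ℤ)) = 2) := by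
    intro x
    rw [memS g h1 h2 x]
    constructor
    · rintro ⟨a, b, c⟩
      refine ⟨a, ?_⟩
      rw [clsL_spec _ (g • x).2 a, if_neg (by omega), if_pos b, if_pos c]
    · rintro ⟨a, b⟩
      rw [clsL_spec _ (g • x).2 a] at b
      refine ⟨a, ?_, ?_⟩
      · split_ifs at b <;> omega
      · split_ifs at b <;> omega
  refine ⟨?_, ?_, ?_⟩
  · exact (ncard_smul g _ _ key).trans (ncard_cls clsL 2 2025 cnt_L2)
  · intro x hx x' hx'
    obtain ⟨h, a, b, c⟩ := mcl_trans 1 (g • x) (g • x') ((key x).1 hx).1 ((key x').1 hx').1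
      ((key x).1 hx).2 ((key x').1 hx').2
    exact ⟨g⁻¹ * h * g, conj_fix g h v (by rw [h1]; exact b),
      conj_fix g h w (by rw [h2]; exact fix_w0 h a b), conj_map g h x x' c⟩
  · intro x hx
    -- move `x` to `U'`
    obtain ⟨h0, a0, b0, c0⟩ := mcl_trans 1 (g • x) Spor.leechU' ((key x).1 hx).1
      sqNorm_leechU'32 ((key x).1 hx).2 clsL_U'
    obtain ⟨k, k1, k2, k3⟩ : ∃ k : Co0, k • v = Spor.leechU ∧
        k • w = -Spor.leechV - Spor.leechU ∧ k • x = Spor.leechU' :=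
      ⟨h0 * g, by rw [mul_smul, h1, b0], by rw [mul_smul, h2, fix_w0 h0 a0 b0],
        by rw [mul_smul, c0]⟩
    have dV' : ∀ y : leechLattice,
        dotInt (Spor.leechV : GolayPt → ℤ) ((k • y : leechLattice) : GolayPt → ℤ) =
          -dotInt (w : GolayPt → ℤ) (y : GolayPt → ℤ) -
            dotInt (v : GolayPt → ℤ) (y : GolayPt → ℤ) := by
      intro y
      have e1 := dot_map k v _ k1 y
      have e2 := dot_map k w _ k2 y
      rw [dot_w0] at e2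
      omega
    have main : ∀ c N : ℕ, 4 ≤ c → cntAll (fun n => Nat.beq (clsM n) c) = N → N ≠ 0 →
        ∃ y : leechLattice, (sqNorm (y : GolayPt → ℤ) = 32 ∧
          dotInt (v : GolayPt → ℤ) (y : GolayPt → ℤ) = 0 ∧
          dotInt (w : GolayPt → ℤ) (y : GolayPt → ℤ) = 16) ∧
          (MulAction.orbit (↥(MulAction.stabilizer Co0 v ⊓ MulAction.stabilizer Co0 w ⊓
            MulAction.stabilizer Co0 x)) y).ncard = N := by
      intro c N hc4 hcnt hN0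
      have hN : {z : leechLattice | sqNorm (z : GolayPt → ℤ) = 32 ∧
          clsM (pk ((k • z : leechLattice) : GolayPt → ℤ)) = c}.ncard = N :=
        (ncard_smul k (fun z => sqNorm (z : GolayPt → ℤ) = 32 ∧
            clsM (pk ((k • z : leechLattice) : GolayPt → ℤ)) = c)
          (fun z => sqNorm (z : GolayPt → ℤ) = 32 ∧ clsM (pk (z : GolayPt → ℤ)) = c)
          (fun z => by rw [co0_norm])).trans (ncard_cls clsM c N hcnt)
      obtain ⟨y, hy⟩ := Set.nonempty_of_ncard_ne_zero (by rw [hN]; exact hN0)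
      have hyS : sqNorm (y : GolayPt → ℤ) = 32 ∧
          dotInt (v : GolayPt → ℤ) (y : GolayPt → ℤ) = 0 ∧
          dotInt (w : GolayPt → ℤ) (y : GolayPt → ℤ) = 16 := by
        rw [memS k k1 k2 y]
        have := m22_of_cls456 (k • y) (by rw [co0_norm]; exact hy.1) c hy.2 hc4
        exact ⟨by rw [co0_norm]; exact hy.1, this.1, this.2⟩
      have horb := orbit_eq_of_trans (MulAction.stabilizer Co0 v ⊓ MulAction.stabilizer Co0 w ⊓
          MulAction.stabilizer Co0 x)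
        {z : leechLattice | sqNorm (z : GolayPt → ℤ) = 32 ∧
          clsM (pk ((k • z : leechLattice) : GolayPt → ℤ)) = c} y hy
        (by
          intro q hq z hz
          have hq' := Subgroup.mem_inf.1 hq
          have hq'' := Subgroup.mem_inf.1 hq'.1
          have qv := MulAction.mem_stabilizer_iff.1 hq''.1
          have qw := MulAction.mem_stabilizer_iff.1 hq''.2
          have qx := MulAction.mem_stabilizer_iff.1 hq'.2
          have n1 : sqNorm ((q • z : leechLattice) : GolayPt → ℤ) = 32 := by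
            rw [co0_norm]; exact hz.1
          refine ⟨n1, ?_⟩
          rw [clsM_congr (k • q • z) (k • z) (by rw [co0_norm]; exact n1)
            (by rw [co0_norm]; exact hz.1)
            (by rw [dV', dV', dot_fix q w qw, dot_fix q v qv])
            (by rw [dot_map k x _ k3, dot_map k x _ k3, dot_fix q x qx])
            (by rw [dot_map k v _ k1, dot_map k v _ k1, dot_fix q v qv])]
          exact hz.2)
        (by
          intro z hz
          obtain ⟨c', rfl⟩ : ∃ c', c = c' + 1 := ⟨c - 1, by omega⟩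
          obtain ⟨h, a, b, d, e⟩ := m22_trans c' (k • y) (k • z) (by rw [co0_norm]; exact hy.1)
            (by rw [co0_norm]; exact hz.1) hy.2 hz.2
          exact ⟨k⁻¹ * h * k, Subgroup.mem_inf.2 ⟨Subgroup.mem_inf.2
            ⟨MulAction.mem_stabilizer_iff.2 (conj_fix k h v (by rw [k1]; exact d)),
              MulAction.mem_stabilizer_iff.2 (conj_fix k h w (by rw [k2]; exact fix_w0 h a d))⟩,
            MulAction.mem_stabilizer_iff.2 (conj_fix k h x (by rw [k3]; exact b))⟩,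
            conj_map k h y z e⟩)
      exact ⟨y, hyS, by rw [horb]; exact hN⟩
    obtain ⟨y1, s1, n1⟩ := main 4 330 (by norm_num) cnt_M4 (by norm_num)
    obtain ⟨y2, s2, n2⟩ := main 5 462 (by norm_num) cnt_M5 (by norm_num)
    obtain ⟨y3, s3, n3⟩ := main 6 1232 (by norm_num) cnt_M6 (by norm_num)
    exact ⟨y1, s1, y2, s2, y3, s3, n1, n2, n3⟩

end Cfsg.Agent.Helper26
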