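import Cfsg.Agent.Helper26.Co0Count
import Cfsg.Agent.Helper26.McL2Cert

/-!
# Class sizes for the second McLaughlin pass

Kernel evaluation of `cntAll` (`Co0Count`) for the class function `clsL2`.
-/

set_option autoImplicit false

namespace Cfsg.Agent.Helper26

set_option maxRecDepth 100000 in
theorem cnt_L2a : cntAll (fun n => Nat.beq (clsL2 n) 1) = 7128 := by decide +kernel

set_option maxRecDepth 100000 in
theorem cnt_L2b : cntAll (fun n => Nat.beq (clsL2 n) 2) = 15400 := by decide +kernel

set_option maxRecDepth 100000 in
theorem cnt_L2c : cntAll (fun n => Nat.beq (clsL2 n) 3) = 22275 := by decide +kernel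

set_option maxRecDepth 100000 in
theorem cnt_L2d : cntAll (fun n => Nat.beq (clsL2 n) 4) = 275 := by decide +kernel

set_option maxRecDepth 100000 in
theorem cnt_L2e : cntAll (fun n => Nat.beq (clsL2 n) 5) = 2025 := by decide +kernel

end Cfsg.Agent.Helper26
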