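import Cfsg.Agent.Helper26.McL2025
import Cfsg.Agent.Helper26.McL2Count

/-!
# The joint stabiliser of `V` and `U` on the minimal vectors `w` with `U · w = -8`

`V = Spor.leechV = (-5, -1^23)`, `U = Spor.leechU = (4, 4, 0^22)`.  The `47104` minimal vectors
`w` with `U · w = -8` split into the classes `V · w = 16, 0, 8, 24, -8, -24` of sizes
`7128, 15400, 22275, 275, 2025, 1`; the joint stabiliser of `V` and `U` is transitive on each
(`mcl2_trans`), the last class being `{-V - U}` (`mcl2_catch`).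
-/

set_option autoImplicit false

namespace Cfsg.Agent.Helper26

open Cfsg

theorem pk_L2V : pk (Spor.leechV : GolayPt → ℤ) = pvL2V := by decide +kernel

theorem pk_L2U : pk (Spor.leechU : GolayPt → ℤ) = pvL2U := by decide +kernel

theorem clsL2_eq (n : ℕ) : clsL2 n =
    if sU n = 14 then
      (if dV n = 13 then 1 else if dV n = 14 then 2 else if dV n = 6 then 3
        else if dV n = 5 then 4 else if dV n = 7 then 5 else 6)
    else 0 := by
  unfold clsL2
  simp only [cond_beq]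

/-- the class function in terms of inner products. -/
theorem clsL2_spec (w : GolayPt → ℤ) (hw : w ∈ leechLattice) (hn : sqNorm w = 32) :
    clsL2 (pk w) =
      if dotInt (Spor.leechU : GolayPt → ℤ) w = -8 then
        (if dotInt (Spor.leechV : GolayPt → ℤ) w = 16 then 1
          else if dotInt (Spor.leechV : GolayPt → ℤ) w = 0 then 2
          else if dotInt (Spor.leechV : GolayPt → ℤ) w = 8 then 3
          else if dotInt (Spor.leechV : GolayPt → ℤ) w = 24 then 4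
          else if dotInt (Spor.leechV : GolayPt → ℤ) w = -8 then 5 else 6)
      else 0 := by
  have hW := dotU_eq (short32 hn)
  have b1 : sU (pk w) = 14 ↔ dotInt (Spor.leechU : GolayPt → ℤ) w = -8 := by omega
  have v1 : dV (pk w) = 13 ↔ dotInt (Spor.leechV : GolayPt → ℤ) w = 16 := by
    rw [← dV_iff w hw hn 2 13 (by norm_num) (by norm_num)]; norm_num
  have v2 : dV (pk w) = 14 ↔ dotInt (Spor.leechV : GolayPt → ℤ) w = 0 := by
    rw [← dV_iff w hw hn 0 14 (by norm_num) (by norm_num)]; norm_num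
  have v3 : dV (pk w) = 6 ↔ dotInt (Spor.leechV : GolayPt → ℤ) w = 8 := by
    rw [← dV_iff w hw hn 1 6 (by norm_num) (by norm_num)]; norm_num
  have v5 : dV (pk w) = 7 ↔ dotInt (Spor.leechV : GolayPt → ℤ) w = -8 := by
    rw [← dV_iff w hw hn (-1) 7 (by norm_num) (by norm_num)]; norm_num
  rw [clsL2_eq]
  simp only [b1, v1, v2, v3, dV_iff24 w hw hn, v5]

theorem clsL2_congr (w w' : leechLattice) (hn : sqNorm (w : GolayPt → ℤ) = 32)
    (hn' : sqNorm (w' : GolayPt → ℤ) = 32)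
    (h1 : dotInt (Spor.leechV : GolayPt → ℤ) (w : GolayPt → ℤ) =
      dotInt (Spor.leechV : GolayPt → ℤ) (w' : GolayPt → ℤ))
    (h3 : dotInt (Spor.leechU : GolayPt → ℤ) (w : GolayPt → ℤ) =
      dotInt (Spor.leechU : GolayPt → ℤ) (w' : GolayPt → ℤ)) :
    clsL2 (pk (w : GolayPt → ℤ)) = clsL2 (pk (w' : GolayPt → ℤ)) := by
  rw [clsL2_spec _ w.2 hn, clsL2_spec _ w'.2 hn', h1, h3]

/-- the joint stabiliser of `V` and `U` is transitive on the minimal vectors of a class of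
`clsL2`. -/
theorem mcl2_trans (c : ℕ) (w w' : leechLattice) (hw : sqNorm (w : GolayPt → ℤ) = 32)
    (hw' : sqNorm (w' : GolayPt → ℤ) = 32) (hc : clsL2 (pk (w : GolayPt → ℤ)) = c + 1)
    (hc' : clsL2 (pk (w' : GolayPt → ℤ)) = c + 1) :
    ∃ g : Co0, g • Spor.leechV = Spor.leechV ∧ g • Spor.leechU = Spor.leechU ∧ g • w = w' := by
  obtain ⟨g, hg, h⟩ := stab_transM tabL2
    (MulAction.stabilizer Co0 Spor.leechV ⊓ MulAction.stabilizer Co0 Spor.leechU)
    (htab2 tabL2 Spor.leechV Spor.leechU (by rw [sqNorm_leechV48]; norm_num)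
      (by rw [sqNorm_leechU32]; norm_num) pvL2V pvL2U pk_L2V pk_L2U tabL2_ok_pvL2V
      tabL2_ok_pvL2U)
    clsL2 tgtsL2 ⟨cL2A, dL2A⟩ (hB_of_seg _ cL2B dL2B cL2B_cover)
    (hC_of_seg _ cL2C dL2C cL2C_length) c
    (fun w => sqNorm (w : GolayPt → ℤ) = 32 ∧ clsL2 (pk (w : GolayPt → ℤ)) = c + 1)
    (fun g hg w h => by
      have hg' := Subgroup.mem_inf.1 hg
      have a := MulAction.mem_stabilizer_iff.1 hg'.1
      have b := MulAction.mem_stabilizer_iff.1 hg'.2
      have hn : sqNorm ((g • w : leechLattice) : GolayPt → ℤ) = 32 := by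
        rw [co0_norm]; exact h.1
      exact ⟨hn, by
        rw [clsL2_congr (g • w) w hn h.1 (dot_fix g _ a w) (dot_fix g _ b w)]; exact h.2⟩)
    (fun _ h => h.1) (fun _ h => h.2) w w' ⟨hw, hc⟩ ⟨hw', hc'⟩
  have hg' := Subgroup.mem_inf.1 hg
  exact ⟨g, MulAction.mem_stabilizer_iff.1 hg'.1, MulAction.mem_stabilizer_iff.1 hg'.2, h⟩

theorem clsL2_w0 :
    clsL2 (pk ((-Spor.leechV - Spor.leechU : leechLattice) : GolayPt → ℤ)) = 6 := by
  decide +kernel

/-- the class `6` consists of `-V - U` only. -/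
theorem mcl2_catch (y : leechLattice) (hn : sqNorm (y : GolayPt → ℤ) = 32)
    (hc : clsL2 (pk (y : GolayPt → ℤ)) = 6) : y = -Spor.leechV - Spor.leechU := by
  obtain ⟨g, a, b, d⟩ := mcl2_trans 5 y (-Spor.leechV - Spor.leechU) hn sqNorm_w0 hc clsL2_w0
  exact MulAction.injective g
    (show g • y = g • (-Spor.leechV - Spor.leechU) by rw [d, fix_w0 g a b])

/-- the sizes of the classes of `clsL2`: `{x | |x|² = 32 ∧ clsL2 (pk x) = c}` has `N` elements
for `(c, N) = (1, 7128), (2, 15400), (3, 22275), (4, 275), (5, 2025)`. -/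
theorem mcl2_counts :
    {x : leechLattice | sqNorm (x : GolayPt → ℤ) = 32 ∧
      clsL2 (pk (x : GolayPt → ℤ)) = 1}.ncard = 7128 ∧
    {x : leechLattice | sqNorm (x : GolayPt → ℤ) = 32 ∧
      clsL2 (pk (x : GolayPt → ℤ)) = 2}.ncard = 15400 ∧
    {x : leechLattice | sqNorm (x : GolayPt → ℤ) = 32 ∧
      clsL2 (pk (x : GolayPt → ℤ)) = 3}.ncard = 22275 ∧
    {x : leechLattice | sqNorm (x : GolayPt → ℤ) = 32 ∧
      clsL2 (pk (x : GolayPt → ℤ)) = 4}.ncard = 275 ∧
    {x : leechLattice | sqNorm (x : GolayPt → ℤ) = 32 ∧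
      clsL2 (pk (x : GolayPt → ℤ)) = 5}.ncard = 2025 :=
  ⟨ncard_cls clsL2 1 7128 cnt_L2a, ncard_cls clsL2 2 15400 cnt_L2b,
    ncard_cls clsL2 3 22275 cnt_L2c, ncard_cls clsL2 4 275 cnt_L2d,
    ncard_cls clsL2 5 2025 cnt_L2e⟩

/-- the classes in terms of inner products: a minimal vector `w` with `U · w = -8` and
`V · w = d`, `d ∈ {16, 0, 8, 24, -8}`, has class `1, 2, 3, 4, 5`. -/
theorem clsL2_of_dots (w : leechLattice) (hn : sqNorm (w : GolayPt → ℤ) = 32)
    (hU : dotInt (Spor.leechU : GolayPt → ℤ) (w : GolayPt → ℤ) = -8) :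
    (dotInt (Spor.leechV : GolayPt → ℤ) (w : GolayPt → ℤ) = 16 ↔
      clsL2 (pk (w : GolayPt → ℤ)) = 1) ∧
    (dotInt (Spor.leechV : GolayPt → ℤ) (w : GolayPt → ℤ) = 0 ↔
      clsL2 (pk (w : GolayPt → ℤ)) = 2) ∧
    (dotInt (Spor.leechV : GolayPt → ℤ) (w : GolayPt → ℤ) = 8 ↔
      clsL2 (pk (w : GolayPt → ℤ)) = 3) ∧
    (dotInt (Spor.leechV : GolayPt → ℤ) (w : GolayPt → ℤ) = 24 ↔
      clsL2 (pk (w : GolayPt → ℤ)) = 4) ∧
    (dotInt (Spor.leechV : GolayPt → ℤ) (w : GolayPt → ℤ) = -8 ↔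
      clsL2 (pk (w : GolayPt → ℤ)) = 5) := by
  rw [clsL2_spec _ w.2 hn, if_pos hU]
  refine ⟨?_, ?_, ?_, ?_, ?_⟩ <;> constructor <;> intro h <;> split_ifs at * <;> omega

/-- a minimal vector of positive class has `U · w = -8`. -/
theorem clsL2_dotU (w : leechLattice) (hn : sqNorm (w : GolayPt → ℤ) = 32) (c : ℕ)
    (hc : clsL2 (pk (w : GolayPt → ℤ)) = c + 1) :
    dotInt (Spor.leechU : GolayPt → ℤ) (w : GolayPt → ℤ) = -8 := by
  by_contra hne
  rw [clsL2_spec _ w.2 hn, if_neg hne] at hc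
  omega

end Cfsg.Agent.Helper26
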