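import Cfsg.Agent.Helper26.Co0Count
import Cfsg.Agent.Helper26.McLCert
import Cfsg.Agent.Helper26.U43Cert

/-!
# Class sizes for the McLaughlin passes

Kernel evaluation of `cntAll` (`Co0Count`) for the class functions of the descent passes.
-/

set_option autoImplicit false

namespace Cfsg.Agent.Helper26

set_option maxRecDepth 100000 in
theorem cnt_L1 : cntAll (fun n => Nat.beq (clsL n) 1) = 275 := by decide +kernel

set_option maxRecDepth 100000 in
theorem cnt_L2 : cntAll (fun n => Nat.beq (clsL n) 2) = 2025 := by decide +kernel

set_option maxRecDepth 100000 in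
theorem cnt_X1 : cntAll (fun n => Nat.beq (clsX n) 1) = 112 := by decide +kernel

set_option maxRecDepth 100000 in
theorem cnt_X2 : cntAll (fun n => Nat.beq (clsX n) 2) = 162 := by decide +kernel

end Cfsg.Agent.Helper26
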