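import Cfsg.Agent.Helper26.HSTrans
import Cfsg.Agent.Helper26.McLCount

/-!
# The McLaughlin configuration in the Leech lattice

`V = Spor.leechV = (-5, -1^23)`, `U = Spor.leechU = (4, 4, 0^22)`, `X = leechX`.

* `mcl_trans`: the joint stabiliser of `V`, `U` is transitive on each class of `clsL`.
* `u43_trans`: the joint stabiliser of `V`, `U`, `X` is transitive on each class of `clsX`.
* `mcl_config` (the 275 points).
-/

set_option autoImplicit false

namespace Cfsg.Agent.Helper26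

open Cfsg

/-! ### The pass for `V`, `U` -/

theorem pk_LV : pk (Spor.leechV : GolayPt → ℤ) = pvLV := by decide +kernel

theorem pk_LU : pk (Spor.leechU : GolayPt → ℤ) = pvLU := by decide +kernel

theorem clsL_eq (n : ℕ) : clsL n =
    if dV n = 5 then (if sU n = 12 then 1 else 0)
    else if dV n = 0 then (if sU n = 16 then 2 else 0) else 0 := by
  unfold clsL
  simp only [cond_beq]

theorem clsL_spec (w : GolayPt → ℤ) (hw : w ∈ leechLattice) (hn : sqNorm w = 32) :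
    clsL (pk w) =
      if dotInt (Spor.leechV : GolayPt → ℤ) w = 24 then
        (if dotInt (Spor.leechU : GolayPt → ℤ) w = -16 then 1 else 0)
      else if dotInt (Spor.leechV : GolayPt → ℤ) w = -16 then
        (if dotInt (Spor.leechU : GolayPt → ℤ) w = 0 then 2 else 0)
      else 0 := by
  have hW := dotU_eq (short32 hn)
  have b1 : sU (pk w) = 12 ↔ dotInt (Spor.leechU : GolayPt → ℤ) w = -16 := by omega
  have b3 : sU (pk w) = 16 ↔ dotInt (Spor.leechU : GolayPt → ℤ) w = 0 := by omega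
  rw [clsL_eq]
  simp only [dV_iff24 w hw hn, dV_iff16 w hw hn, b1, b3]

theorem clsL_congr (w w' : leechLattice) (hn : sqNorm (w : GolayPt → ℤ) = 32)
    (hn' : sqNorm (w' : GolayPt → ℤ) = 32)
    (h1 : dotInt (Spor.leechV : GolayPt → ℤ) (w : GolayPt → ℤ) =
      dotInt (Spor.leechV : GolayPt → ℤ) (w' : GolayPt → ℤ))
    (h3 : dotInt (Spor.leechU : GolayPt → ℤ) (w : GolayPt → ℤ) =
      dotInt (Spor.leechU : GolayPt → ℤ) (w' : GolayPt → ℤ)) :
    clsL (pk (w : GolayPt → ℤ)) = clsL (pk (w' : GolayPt → ℤ)) := by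
  rw [clsL_spec _ w.2 hn, clsL_spec _ w'.2 hn', h1, h3]

/-- the joint stabiliser of `V` and `U` is transitive on the minimal vectors of a class. -/
theorem mcl_trans (c : ℕ) (w w' : leechLattice) (hw : sqNorm (w : GolayPt → ℤ) = 32)
    (hw' : sqNorm (w' : GolayPt → ℤ) = 32) (hc : clsL (pk (w : GolayPt → ℤ)) = c + 1)
    (hc' : clsL (pk (w' : GolayPt → ℤ)) = c + 1) :
    ∃ g : Co0, g • Spor.leechV = Spor.leechV ∧ g • Spor.leechU = Spor.leechU ∧ g • w = w' := by
  obtain ⟨g, hg, h⟩ := stab_transM tabL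
    (MulAction.stabilizer Co0 Spor.leechV ⊓ MulAction.stabilizer Co0 Spor.leechU)
    (htab2 tabL Spor.leechV Spor.leechU (by rw [sqNorm_leechV48]; norm_num)
      (by rw [sqNorm_leechU32]; norm_num) pvLV pvLU pk_LV pk_LU tabL_ok_pvLV tabL_ok_pvLU)
    clsL tgtsL ⟨cLA, dLA⟩ (hB_of_seg _ cLB dLB cLB_cover) (hC_of_seg _ cLC dLC cLC_length) c
    (fun w => sqNorm (w : GolayPt → ℤ) = 32 ∧ clsL (pk (w : GolayPt → ℤ)) = c + 1)
    (fun g hg w h => by
      have hg' := Subgroup.mem_inf.1 hg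
      have a := MulAction.mem_stabilizer_iff.1 hg'.1
      have b := MulAction.mem_stabilizer_iff.1 hg'.2
      have hn : sqNorm ((g • w : leechLattice) : GolayPt → ℤ) = 32 := by
        rw [co0_norm]; exact h.1
      exact ⟨hn, by
        rw [clsL_congr (g • w) w hn h.1 (dot_fix g _ a w) (dot_fix g _ b w)]; exact h.2⟩)
    (fun _ h => h.1) (fun _ h => h.2) w w' ⟨hw, hc⟩ ⟨hw', hc'⟩
  have hg' := Subgroup.mem_inf.1 hg
  exact ⟨g, MulAction.mem_stabilizer_iff.1 hg'.1, MulAction.mem_stabilizer_iff.1 hg'.2, h⟩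

/-! ### The pass for `V`, `U`, `X` -/

theorem pk_XV : pk (Spor.leechV : GolayPt → ℤ) = pvXV := by decide +kernel

theorem pk_XU : pk (Spor.leechU : GolayPt → ℤ) = pvXU := by decide +kernel

theorem pk_XX : pk (leechX : GolayPt → ℤ) = pvXX := by decide +kernel

theorem sqNorm_leechX : sqNorm (leechX : GolayPt → ℤ) = 32 := by decide +kernel

theorem clsX_eq (n : ℕ) : clsX n =
    if dV n = 5 then
      (if sU n = 12 then (if sX n = 14 then 1 else if sX n = 12 then 2 else 3) else 0)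
    else 0 := by
  unfold clsX
  simp only [cond_beq]

theorem clsX_spec (w : GolayPt → ℤ) (hw : w ∈ leechLattice) (hn : sqNorm w = 32) :
    clsX (pk w) =
      if dotInt (Spor.leechV : GolayPt → ℤ) w = 24 then
        (if dotInt (Spor.leechU : GolayPt → ℤ) w = -16 then
          (if dotInt (leechX : GolayPt → ℤ) w = 8 then 1
            else if dotInt (leechX : GolayPt → ℤ) w = 16 then 2 else 3) else 0)
      else 0 := by
  have hW := dotU_eq (short32 hn)
  have hX := dotX_eq (short32 hn)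
  have b1 : sU (pk w) = 12 ↔ dotInt (Spor.leechU : GolayPt → ℤ) w = -16 := by omega
  have c1 : sX (pk w) = 14 ↔ dotInt (leechX : GolayPt → ℤ) w = 8 := by omega
  have c2 : sX (pk w) = 12 ↔ dotInt (leechX : GolayPt → ℤ) w = 16 := by omega
  rw [clsX_eq]
  simp only [dV_iff24 w hw hn, b1, c1, c2]

theorem clsX_congr (w w' : leechLattice) (hn : sqNorm (w : GolayPt → ℤ) = 32)
    (hn' : sqNorm (w' : GolayPt → ℤ) = 32)
    (h1 : dotInt (Spor.leechV : GolayPt → ℤ) (w : GolayPt → ℤ) =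
      dotInt (Spor.leechV : GolayPt → ℤ) (w' : GolayPt → ℤ))
    (h2 : dotInt (Spor.leechU : GolayPt → ℤ) (w : GolayPt → ℤ) =
      dotInt (Spor.leechU : GolayPt → ℤ) (w' : GolayPt → ℤ))
    (h3 : dotInt (leechX : GolayPt → ℤ) (w : GolayPt → ℤ) =
      dotInt (leechX : GolayPt → ℤ) (w' : GolayPt → ℤ)) :
    clsX (pk (w : GolayPt → ℤ)) = clsX (pk (w' : GolayPt → ℤ)) := by
  rw [clsX_spec _ w.2 hn, clsX_spec _ w'.2 hn', h1, h2, h3]

/-- the joint stabiliser of `V`, `U` and `X` is transitive on the minimal vectors of a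
class. -/
theorem u43_trans (c : ℕ) (w w' : leechLattice) (hw : sqNorm (w : GolayPt → ℤ) = 32)
    (hw' : sqNorm (w' : GolayPt → ℤ) = 32) (hc : clsX (pk (w : GolayPt → ℤ)) = c + 1)
    (hc' : clsX (pk (w' : GolayPt → ℤ)) = c + 1) :
    ∃ g : Co0, g • Spor.leechV = Spor.leechV ∧ g • Spor.leechU = Spor.leechU ∧
      g • leechX = leechX ∧ g • w = w' := by
  obtain ⟨g, hg, h⟩ := stab_transM tabX
    (MulAction.stabilizer Co0 Spor.leechV ⊓ MulAction.stabilizer Co0 Spor.leechU ⊓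
      MulAction.stabilizer Co0 leechX)
    (htab3 tabX Spor.leechV Spor.leechU leechX (by rw [sqNorm_leechV48]; norm_num)
      (by rw [sqNorm_leechU32]; norm_num) (by rw [sqNorm_leechX]; norm_num) pvXV pvXU pvXX
      pk_XV pk_XU pk_XX tabX_ok_pvXV tabX_ok_pvXU tabX_ok_pvXX)
    clsX tgtsX ⟨cXA, dXA⟩ (hB_of_seg _ cXB dXB cXB_cover) (hC_of_seg _ cXC dXC cXC_length) c
    (fun w => sqNorm (w : GolayPt → ℤ) = 32 ∧ clsX (pk (w : GolayPt → ℤ)) = c + 1)
    (fun g hg w h => by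
      have hg' := Subgroup.mem_inf.1 hg
      have hg'' := Subgroup.mem_inf.1 hg'.1
      have a := MulAction.mem_stabilizer_iff.1 hg''.1
      have b := MulAction.mem_stabilizer_iff.1 hg''.2
      have c' := MulAction.mem_stabilizer_iff.1 hg'.2
      have hn : sqNorm ((g • w : leechLattice) : GolayPt → ℤ) = 32 := by
        rw [co0_norm]; exact h.1
      exact ⟨hn, by
        rw [clsX_congr (g • w) w hn h.1 (dot_fix g _ a w) (dot_fix g _ b w)
          (dot_fix g _ c' w)]; exact h.2⟩)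
    (fun _ h => h.1) (fun _ h => h.2) w w' ⟨hw, hc⟩ ⟨hw', hc'⟩
  have hg' := Subgroup.mem_inf.1 hg
  have hg'' := Subgroup.mem_inf.1 hg'.1
  exact ⟨g, MulAction.mem_stabilizer_iff.1 hg''.1, MulAction.mem_stabilizer_iff.1 hg''.2,
    MulAction.mem_stabilizer_iff.1 hg'.2, h⟩

theorem clsX_X : clsX (pk (leechX : GolayPt → ℤ)) = 3 := by decide +kernel

theorem clsL_X : clsL (pk (leechX : GolayPt → ℤ)) = 1 := by decide +kernel

/-- the class `3` consists of `X` only. -/
theorem u43_catch (y : leechLattice) (hn : sqNorm (y : GolayPt → ℤ) = 32)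
    (hc : clsX (pk (y : GolayPt → ℤ)) = 3) : y = leechX := by
  obtain ⟨g, _, _, c, d⟩ := u43_trans 2 y leechX hn sqNorm_leechX hc clsX_X
  exact MulAction.injective g (show g • y = g • leechX by rw [d, c])

/-! ### The standard pair `(V, -U)` -/

theorem dot_V_negU : dotInt (Spor.leechV : GolayPt → ℤ)
    ((-Spor.leechU : leechLattice) : GolayPt → ℤ) = 24 := by decide +kernel

/-- a pair `(u, v)` with `u` of squared length 48 and `v`, `u - v` minimal is conjugate to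
`(V, -U)`. -/
theorem pairMcL (u v : leechLattice) (hu : sqNorm (u : GolayPt → ℤ) = 48)
    (hv : sqNorm (v : GolayPt → ℤ) = 32)
    (hd : dotInt (u : GolayPt → ℤ) (v : GolayPt → ℤ) = 24) :
    ∃ g : Co0, g • u = Spor.leechV ∧ g • v = -Spor.leechU := by
  obtain ⟨g, hg⟩ := Cfsg.Agent.Helper92.exists_smul_eq_of_norm48 u Spor.leechV hu sqNorm_leechV48
  obtain ⟨h, a, b⟩ := co3_trans24 (g • v) (-Spor.leechU) (by rw [co0_norm]; exact hv)
    sqNorm_negU (by rw [dot_map g u _ hg]; exact hd) dot_V_negU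
  exact ⟨h * g, by rw [mul_smul, hg, a], by rw [mul_smul, b]⟩

theorem dot_of_sub {u x : GolayPt → ℤ} (hu : sqNorm u = 48) (hx : sqNorm x = 32) :
    sqNorm (u - x) = 32 ↔ dotInt u x = 24 := by
  rw [Cfsg.Agent.Helper92.sqNorm_sub, hu, hx]
  constructor <;> intro h <;> omega

/-- **The McLaughlin configuration**: 275 minimal vectors, permuted transitively by the joint
stabiliser. -/
theorem mcl_config (u v : ↥Cfsg.leechLattice) (hu : Cfsg.sqNorm (u : Cfsg.GolayPt → ℤ) = 48) (hv : Cfsg.sqNorm (v : Cfsg.GolayPt → ℤ) = 32 ∧ Cfsg.sqNorm ((u - v) : Cfsg.GolayPt → ℤ) = 32) : {x : ↥Cfsg.leechLattice | Cfsg.sqNorm (x : Cfsg.GolayPt → ℤ) = 32 ∧ Cfsg.sqNorm ((u - x) : Cfsg.GolayPt → ℤ) = 32 ∧ Cfsg.dotInt (v : Cfsg.GolayPt → ℤ) (x : Cfsg.GolayPt → ℤ) = 16}.ncard = 275 ∧ ∀ x ∈ {x : ↥Cfsg.leechLattice | Cfsg.sqNorm (x : Cfsg.GolayPt → ℤ) = 32 ∧ Cfsg.sqNorm ((u - x) : Cfsg.GolayPt → ℤ) = 32 ∧ Cfsg.dotInt (v : Cfsg.GolayPt → ℤ) (x : Cfsg.GolayPt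 → ℤ) = 16}, ∀ x' ∈ {x : ↥Cfsg.leechLattice | Cfsg.sqNorm (x : Cfsg.GolayPt → ℤ) = 32 ∧ Cfsg.sqNorm ((u - x) : Cfsg.GolayPt → ℤ) = 32 ∧ Cfsg.dotInt (v : Cfsg.GolayPt → ℤ) (x : Cfsg.GolayPt → ℤ) = 16}, ∃ g : ↥Cfsg.Co0, g • u = u ∧ g • v = v ∧ g • x = x' := by
  obtain ⟨g, h1, h2⟩ := pairMcL u v hu hv.1 ((dot_of_sub hu hv.1).1 hv.2)
  have key : ∀ x : leechLattice, (sqNorm (x : GolayPt → ℤ) = 32 ∧
      sqNorm ((u - x) : GolayPt → ℤ) = 32 ∧
      dotInt (v : GolayPt → ℤ) (x : GolayPt → ℤ) = 16) ↔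
      (sqNorm ((g • x : leechLattice) : GolayPt → ℤ) = 32 ∧
        clsL (pk ((g • x : leechLattice) : GolayPt → ℤ)) = 1) := by
    intro x
    constructor
    · rintro ⟨a, b, c⟩
      have hn : sqNorm ((g • x : leechLattice) : GolayPt → ℤ) = 32 := by rw [co0_norm]; exact a
      refine ⟨hn, ?_⟩
      have e1 : dotInt (Spor.leechV : GolayPt → ℤ) ((g • x : leechLattice) : GolayPt → ℤ) = 24 := by
        rw [dot_map g u _ h1]; exact (dot_of_sub hu a).1 b
      have e2 : dotInt (Spor.leechU : GolayPt → ℤ) ((g • x : leechLattice) : GolayPt → ℤ) = -16 := by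
        have := dot_map g v _ h2 x
        rw [dot_negU] at this
        omega
      rw [clsL_spec _ (g • x).2 hn, if_pos e1, if_pos e2]
    · rintro ⟨a, b⟩
      have hn : sqNorm (x : GolayPt → ℤ) = 32 := by rw [← co0_norm g x]; exact a
      rw [clsL_spec _ (g • x).2 a] at b
      have e := dot_map g v _ h2 x
      rw [dot_negU] at e
      have e1 := dot_map g u _ h1 x
      refine ⟨hn, (dot_of_sub hu hn).2 ?_, ?_⟩
      · split_ifs at b <;> omega
      · split_ifs at b <;> omega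
  constructor
  · exact (ncard_smul g _ _ key).trans (ncard_cls clsL 1 275 cnt_L1)
  · intro x hx x' hx'
    obtain ⟨h, a, b, c⟩ := mcl_trans 0 (g • x) (g • x') ((key x).1 hx).1 ((key x').1 hx').1
      ((key x).1 hx).2 ((key x').1 hx').2
    exact ⟨g⁻¹ * h * g, conj_fix g h u (by rw [h1]; exact a),
      conj_fix g h v (by rw [h2, co0_neg, b]), conj_map g h x x' c⟩

end Cfsg.Agent.Helper26
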