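import Cfsg.Prelude.Def_Transfer
import Cfsg.Prelude.Def_Solvable
import Cfsg.Agent.Helper63.N15Defs

set_option autoImplicit false

namespace Cfsg.Agent.Helper26.N15

open Cfsg.Agent.Helper63.N15

section slevel

variable {S : Type*} [Group S] [Finite S] {E : Type*} [AddCommGroup E] [Module (ZMod 3) E]
  [Finite E]

omit [Finite E] in
theorem p2c_three (x : E) : x + x + x = 0 := by
  have h : (3 : ZMod 3) • x = 0 := by rw [show (3 : ZMod 3) = 0 from by decide, zero_smul]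
  have h2 : (3 : ZMod 3) • x = x + x + x := by
    rw [show (3 : ZMod 3) = 1 + 1 + 1 from by norm_num, add_smul, add_smul, one_smul]
  rw [← h2]; exact h

omit [Finite E] in
theorem p2c_four (x : E) (h : x + x + x + x = 0) : x = 0 := by
  have h3 := p2c_three x
  have e : x = (x + x + x + x) - (x + x + x) := by abel
  rw [e, h, h3, sub_zero]

omit [Finite E] in
/-- separation of the four weight spaces of two commuting involutions -/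
theorem p2c_sep (Q1 Q2 : E →ₗ[ZMod 3] E) (c x₁ x₂ x₃ : E) (hc1 : Q1 c = c) (hc2 : Q2 c = c)
    (h11 : Q1 x₁ = x₁) (h12 : Q2 x₁ = -x₁) (h21 : Q1 x₂ = -x₂) (h22 : Q2 x₂ = x₂)
    (h31 : Q1 x₃ = -x₃) (h32 : Q2 x₃ = -x₃) (h : c + x₁ + x₂ + x₃ = 0) :
    c = 0 ∧ x₁ = 0 ∧ x₂ = 0 ∧ x₃ = 0 := by
  have e1 : c + x₁ - x₂ - x₃ = 0 := by
    have := congrArg Q1 h
    rw [map_add, map_add, map_add, hc1, h11, h21, h31, map_zero] at this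
    rw [← this]; abel
  have e2 : c - x₁ + x₂ - x₃ = 0 := by
    have := congrArg Q2 h
    rw [map_add, map_add, map_add, hc2, h12, h22, h32, map_zero] at this
    rw [← this]; abel
  have e3 : c - x₁ - x₂ + x₃ = 0 := by
    have := congrArg Q1 e2
    rw [map_sub, map_add, map_sub, hc1, h11, h21, h31, map_zero] at this
    rw [← this]; abel
  refine ⟨p2c_four c ?_, p2c_four x₁ ?_, p2c_four x₂ ?_, p2c_four x₃ ?_⟩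
  · have e : c + c + c + c = (c + x₁ + x₂ + x₃) + (c + x₁ - x₂ - x₃) + (c - x₁ + x₂ - x₃) +
        (c - x₁ - x₂ + x₃) := by abel
    rw [e, h, e1, e2, e3]; simp
  · have e : x₁ + x₁ + x₁ + x₁ = (c + x₁ + x₂ + x₃) + (c + x₁ - x₂ - x₃) - (c - x₁ + x₂ - x₃) -
        (c - x₁ - x₂ + x₃) := by abel
    rw [e, h, e1, e2, e3]; simp
  · have e : x₂ + x₂ + x₂ + x₂ = (c + x₁ + x₂ + x₃) - (c + x₁ - x₂ - x₃) + (c - x₁ + x₂ - x₃) -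
        (c - x₁ - x₂ + x₃) := by abel
    rw [e, h, e1, e2, e3]; simp
  · have e : x₃ + x₃ + x₃ + x₃ = (c + x₁ + x₂ + x₃) - (c + x₁ - x₂ - x₃) - (c - x₁ + x₂ - x₃) +
        (c - x₁ - x₂ + x₃) := by abel
    rw [e, h, e1, e2, e3]; simp


omit [Finite E] in
theorem p2c_lin (v₁ v₂ v₃ a₁ a₂ w : E) (p₁ p₂ r₁ r₂ s₁ s₂ : ZMod 3)
    (h1 : v₂ - v₁ = p₁ • a₁ + p₂ • a₂) (h2 : v₃ - v₂ = r₁ • a₁ + r₂ • a₂)
    (h3 : w = s₁ • a₁ + s₂ • a₂) :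
    (p₁ * r₂ - p₂ * r₁) • w + (s₁ * r₂ - s₂ * r₁) • v₁ +
      ((p₁ * s₂ - p₂ * s₁) - (s₁ * r₂ - s₂ * r₁)) • v₂ + (-(p₁ * s₂ - p₂ * s₁)) • v₃ = 0 := by
  have e2 : v₂ = v₁ + (p₁ • a₁ + p₂ • a₂) := by rw [← h1]; abel
  have e3 : v₃ = v₂ + (r₁ • a₁ + r₂ • a₂) := by rw [← h2]; abel
  rw [e3, e2, h3]
  module

omit [Finite E] in
theorem p2c_lin2 (v₁ v₂ v₃ a₁ a₂ : E) (p₁ p₂ r₁ r₂ : ZMod 3)
    (h1 : v₂ - v₁ = p₁ • a₁ + p₂ • a₂) (h2 : v₃ - v₂ = r₁ • a₁ + r₂ • a₂)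
    (hdet : p₁ * r₂ - p₂ * r₁ = 0) :
    (0 : E) + (-r₂) • v₁ + (r₂ + p₂) • v₂ + (-p₂) • v₃ = 0 ∧
      (0 : E) + (-r₁) • v₁ + (r₁ + p₁) • v₂ + (-p₁) • v₃ = 0 := by
  have e2 : v₂ = v₁ + (p₁ • a₁ + p₂ • a₂) := by rw [← h1]; abel
  have e3 : v₃ = v₂ + (r₁ • a₁ + r₂ • a₂) := by rw [← h2]; abel
  constructor
  · have : (0 : E) + (-r₂) • v₁ + (r₂ + p₂) • v₂ + (-p₂) • v₃ = (p₁ * r₂ - p₂ * r₁) • a₁ := by
      rw [e3, e2]; module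
    rw [this, hdet, zero_smul]
  · have : (0 : E) + (-r₁) • v₁ + (r₁ + p₁) • v₂ + (-p₁) • v₃ = (-(p₁ * r₂ - p₂ * r₁)) • a₂ := by
      rw [e3, e2]; module
    rw [this, hdet, neg_zero, zero_smul]

theorem p2c (ρ : Representation (ZMod 3) S E) (hfaith : Function.Injective ρ)
    (b q₁ q₂ q₃ : S) (hb3 : b ^ 3 = 1) (hq1 : q₁ ≠ 1) (h11 : q₁ * q₁ = 1) (h22 : q₂ * q₂ = 1)
    (h33 : q₃ * q₃ = 1) (h12 : q₁ * q₂ = q₃) (h21 : q₂ * q₁ = q₃) (hb1 : b * q₁ * b⁻¹ = q₂)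
    (hb2 : b * q₂ * b⁻¹ = q₃) (hb3' : b * q₃ * b⁻¹ = q₁)
    (hN : ∃ w₀ : E, ∀ v : E, ∃ k : ZMod 3, v + ρ b v + ρ b (ρ b v) = k • w₀)
    (hrk : ∃ a₁ a₂ : E, ∀ v : E, ∃ k₁ k₂ : ZMod 3, ρ b v - v = k₁ • a₁ + k₂ • a₂)
    (hdec : ∀ v : E, ∃ u a₁ a₂ a₃ : E, v = u + a₁ + a₂ + a₃ ∧ (ρ q₁ u = u ∧ ρ q₂ u = u) ∧
      (ρ q₁ a₁ = a₁ ∧ ρ q₂ a₁ = -a₁) ∧ (ρ q₁ a₂ = -a₂ ∧ ρ q₂ a₂ = a₂) ∧
      (ρ q₁ a₃ = -a₃ ∧ ρ q₂ a₃ = -a₃)) :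
    ∃ v₁ v₂ v₃ : E, v₁ ≠ 0 ∧ ρ b v₁ = v₂ ∧ ρ b v₂ = v₃ ∧ ρ b v₃ = v₁ ∧
      ρ q₁ v₁ = v₁ ∧ ρ q₁ v₂ = -v₂ ∧ ρ q₁ v₃ = -v₃ ∧
      ρ q₂ v₁ = -v₁ ∧ ρ q₂ v₂ = v₂ ∧ ρ q₂ v₃ = -v₃ ∧
      ρ q₃ v₁ = -v₁ ∧ ρ q₃ v₂ = -v₂ ∧ ρ q₃ v₃ = v₃ ∧
      ∀ v : E, ∃ u : E, ∃ c₁ c₂ c₃ : ZMod 3, v = u + c₁ • v₁ + c₂ • v₂ + c₃ • v₃ ∧
        ρ q₁ u = u ∧ ρ q₂ u = u ∧ ρ q₃ u = u ∧ ρ b u = u := by
  have hB3 : ∀ x : E, ρ b (ρ b (ρ b x)) = x := by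
    intro x
    have hbbb : b * b * b = 1 := by
      rw [← hb3, pow_succ, pow_succ, pow_one]
    have h : ρ (b * b * b) = 1 := by
      rw [hbbb, map_one]
    rw [map_mul, map_mul] at h
    have := congrArg (fun f : Module.End (ZMod 3) E => f x) h
    simpa using this
  have hBQ1 : ∀ x : E, ρ q₂ (ρ b x) = ρ b (ρ q₁ x) := by
    intro x
    have h : ρ (q₂ * b) = ρ (b * q₁) := by
      rw [← hb1]; congr 1; group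
    rw [map_mul, map_mul] at h
    have := congrArg (fun f : Module.End (ZMod 3) E => f x) h
    simpa using this
  have hBQ3 : ∀ x : E, ρ q₁ (ρ b x) = ρ b (ρ q₃ x) := by
    intro x
    have h : ρ (q₁ * b) = ρ (b * q₃) := by
      rw [← hb3']; congr 1; group
    rw [map_mul, map_mul] at h
    have := congrArg (fun f : Module.End (ZMod 3) E => f x) h
    simpa using this
  have hQ3 : ∀ x : E, ρ q₃ x = ρ q₁ (ρ q₂ x) := by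
    intro x
    rw [← h12, map_mul]; rfl
  have t12 : ∀ x, ρ q₁ x = x → ρ q₂ x = -x →
      ρ q₁ (ρ b x) = -(ρ b x) ∧ ρ q₂ (ρ b x) = ρ b x := by
    intro x h1 h2
    refine ⟨?_, ?_⟩
    · rw [hBQ3, hQ3, h2, map_neg, h1, map_neg]
    · rw [hBQ1, h1]
  have t23 : ∀ x, ρ q₁ x = -x → ρ q₂ x = x →
      ρ q₁ (ρ b x) = -(ρ b x) ∧ ρ q₂ (ρ b x) = -(ρ b x) := by
    intro x h1 h2
    refine ⟨?_, ?_⟩
    · rw [hBQ3, hQ3, h2, h1, map_neg]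
    · rw [hBQ1, h1, map_neg]
  have t31 : ∀ x, ρ q₁ x = -x → ρ q₂ x = -x →
      ρ q₁ (ρ b x) = ρ b x ∧ ρ q₂ (ρ b x) = -(ρ b x) := by
    intro x h1 h2
    refine ⟨?_, ?_⟩
    · rw [hBQ3, hQ3, h2, map_neg, h1, neg_neg]
    · rw [hBQ1, h1, map_neg]
  have t00 : ∀ x, ρ q₁ x = x → ρ q₂ x = x →
      ρ q₁ (ρ b x) = ρ b x ∧ ρ q₂ (ρ b x) = ρ b x := by
    intro x h1 h2
    refine ⟨?_, ?_⟩
    · rw [hBQ3, hQ3, h2, h1]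
    · rw [hBQ1, h1]
  -- Step 1: a nonzero vector of type 1
  have hex : ∃ v₁ : E, v₁ ≠ 0 ∧ ρ q₁ v₁ = v₁ ∧ ρ q₂ v₁ = -v₁ := by
    by_contra hcon
    have z1 : ∀ x, ρ q₁ x = x → ρ q₂ x = -x → x = 0 := by
      intro x h1 h2
      by_contra hx
      exact hcon ⟨x, hx, h1, h2⟩
    have z3 : ∀ x, ρ q₁ x = -x → ρ q₂ x = -x → x = 0 := by
      intro x h1 h2
      have h := t31 x h1 h2
      have hz := z1 _ h.1 h.2
      have := hB3 x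
      rw [hz, map_zero, map_zero] at this
      exact this.symm
    have z2 : ∀ x, ρ q₁ x = -x → ρ q₂ x = x → x = 0 := by
      intro x h1 h2
      have h := t23 x h1 h2
      have hz := z3 _ h.1 h.2
      have := hB3 x
      rw [hz, map_zero, map_zero] at this
      exact this.symm
    apply hq1
    apply hfaith
    rw [map_one]
    ext v
    obtain ⟨u, a₁, a₂, a₃, hv, ⟨hu1, hu2⟩, ⟨ha11, ha12⟩, ⟨ha21, ha22⟩, ⟨ha31, ha32⟩⟩ := hdec v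
    rw [z1 a₁ ha11 ha12, z2 a₂ ha21 ha22, z3 a₃ ha31 ha32, add_zero, add_zero, add_zero] at hv
    rw [hv, hu1, Module.End.one_apply]
  obtain ⟨v₁, hv1, hv11, hv12⟩ := hex
  have hv2 := t12 v₁ hv11 hv12
  have hv3 := t23 (ρ b v₁) hv2.1 hv2.2
  -- Step 3: the weight spaces are lines
  obtain ⟨w₀, hw⟩ := hN
  obtain ⟨k₁, hk₁⟩ := hw v₁
  have hk₁0 : k₁ ≠ 0 := by
    intro h0
    rw [h0, zero_smul] at hk₁
    have := p2c_sep (ρ q₁) (ρ q₂) 0 v₁ (ρ b v₁) (ρ b (ρ b v₁)) (map_zero _) (map_zero _)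
      hv11 hv12 hv2.1 hv2.2 hv3.1 hv3.2 (by rw [zero_add]; exact hk₁)
    exact hv1 this.2.1
  have m1 : ∀ a, ρ q₁ a = a → ρ q₂ a = -a → ∃ k : ZMod 3, a = k • v₁ := by
    intro a ha1 ha2
    obtain ⟨k, hk⟩ := hw a
    obtain ⟨x, hx⟩ : ∃ x, x = k₁ • a - k • v₁ := ⟨_, rfl⟩
    have hx1 : ρ q₁ x = x := by rw [hx, map_sub, map_smul, map_smul, ha1, hv11]
    have hx2 : ρ q₂ x = -x := by
      rw [hx, map_sub, map_smul, map_smul, ha2, hv12]; module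
    have hx2' := t12 x hx1 hx2
    have hx3' := t23 (ρ b x) hx2'.1 hx2'.2
    have hsum : 0 + x + ρ b x + ρ b (ρ b x) = 0 := by
      have e : 0 + x + ρ b x + ρ b (ρ b x) = k₁ • (a + ρ b a + ρ b (ρ b a)) -
          k • (v₁ + ρ b v₁ + ρ b (ρ b v₁)) := by
        rw [hx]; simp only [map_sub, map_smul]; module
      rw [e, hk, hk₁]; module
    have hx0 := (p2c_sep (ρ q₁) (ρ q₂) 0 x (ρ b x) (ρ b (ρ b x)) (map_zero _) (map_zero _)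
      hx1 hx2 hx2'.1 hx2'.2 hx3'.1 hx3'.2 hsum).2.1
    refine ⟨k₁⁻¹ * k, ?_⟩
    have e : k₁ • a = k • v₁ := by rw [hx] at hx0; exact sub_eq_zero.mp hx0
    rw [mul_smul, ← e, inv_smul_smul₀ hk₁0]
  have m2 : ∀ a, ρ q₁ a = -a → ρ q₂ a = a → ∃ k : ZMod 3, a = k • ρ b v₁ := by
    intro a ha1 ha2
    have h3 := t23 a ha1 ha2
    have h1 := t31 (ρ b a) h3.1 h3.2
    obtain ⟨k, hk⟩ := m1 _ h1.1 h1.2
    refine ⟨k, ?_⟩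
    have := hB3 a
    rw [hk, map_smul] at this
    exact this.symm
  have m3 : ∀ a, ρ q₁ a = -a → ρ q₂ a = -a → ∃ k : ZMod 3, a = k • ρ b (ρ b v₁) := by
    intro a ha1 ha2
    have h1 := t31 a ha1 ha2
    obtain ⟨k, hk⟩ := m1 _ h1.1 h1.2
    refine ⟨k, ?_⟩
    have := hB3 a
    rw [hk, map_smul, map_smul] at this
    exact this.symm
  -- Step 5: b fixes the common fixed points of q₁, q₂
  obtain ⟨a₁', a₂', hr⟩ := hrk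
  obtain ⟨p₁, p₂, hp⟩ := hr v₁
  obtain ⟨r₁, r₂, hr'⟩ := hr (ρ b v₁)
  have hv3ne : ρ b (ρ b v₁) ≠ 0 := by
    intro h0
    have := hB3 v₁
    rw [h0, map_zero] at this
    exact hv1 this.symm
  have hdet : p₁ * r₂ - p₂ * r₁ ≠ 0 := by
    intro h0
    obtain ⟨e1, e2⟩ := p2c_lin2 v₁ (ρ b v₁) (ρ b (ρ b v₁)) a₁' a₂' p₁ p₂ r₁ r₂ hp hr' h0
    have s1 := p2c_sep (ρ q₁) (ρ q₂) 0 ((-r₂) • v₁) ((r₂ + p₂) • ρ b v₁)
      ((-p₂) • ρ b (ρ b v₁)) (map_zero _) (map_zero _) (by rw [map_smul, hv11])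
      (by rw [map_smul, hv12, smul_neg]) (by rw [map_smul, hv2.1, smul_neg])
      (by rw [map_smul, hv2.2]) (by rw [map_smul, hv3.1, smul_neg])
      (by rw [map_smul, hv3.2, smul_neg]) e1
    have s2 := p2c_sep (ρ q₁) (ρ q₂) 0 ((-r₁) • v₁) ((r₁ + p₁) • ρ b v₁)
      ((-p₁) • ρ b (ρ b v₁)) (map_zero _) (map_zero _) (by rw [map_smul, hv11])
      (by rw [map_smul, hv12, smul_neg]) (by rw [map_smul, hv2.1, smul_neg])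
      (by rw [map_smul, hv2.2]) (by rw [map_smul, hv3.1, smul_neg])
      (by rw [map_smul, hv3.2, smul_neg]) e2
    have hp2 : p₂ = 0 := by
      rcases smul_eq_zero.mp s1.2.2.2 with h | h
      · exact neg_eq_zero.mp h
      · exact absurd h hv3ne
    have hp1 : p₁ = 0 := by
      rcases smul_eq_zero.mp s2.2.2.2 with h | h
      · exact neg_eq_zero.mp h
      · exact absurd h hv3ne
    rw [hp1, hp2, zero_smul, zero_smul, add_zero] at hp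
    have hEq : ρ b v₁ = v₁ := sub_eq_zero.mp hp
    have h4 := hv2.1
    rw [hEq, hv11] at h4
    have h5 : v₁ + v₁ = 0 := eq_neg_iff_add_eq_zero.mp h4
    have h6 : v₁ + v₁ + v₁ + v₁ = 0 := by
      have e : v₁ + v₁ + v₁ + v₁ = (v₁ + v₁) + (v₁ + v₁) := by abel
      rw [e, h5, add_zero]
    exact hv1 (p2c_four v₁ h6)
  have fixB : ∀ u, ρ q₁ u = u → ρ q₂ u = u → ρ b u = u := by
    intro u hu1 hu2
    obtain ⟨s₁, s₂, hs⟩ := hr u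
    have hBu := t00 u hu1 hu2
    have hlin := p2c_lin v₁ (ρ b v₁) (ρ b (ρ b v₁)) a₁' a₂' (ρ b u - u) p₁ p₂ r₁ r₂ s₁ s₂
      hp hr' hs
    have s := p2c_sep (ρ q₁) (ρ q₂) ((p₁ * r₂ - p₂ * r₁) • (ρ b u - u))
      ((s₁ * r₂ - s₂ * r₁) • v₁) (((p₁ * s₂ - p₂ * s₁) - (s₁ * r₂ - s₂ * r₁)) • ρ b v₁)
      ((-(p₁ * s₂ - p₂ * s₁)) • ρ b (ρ b v₁))
      (by rw [map_smul, map_sub, hBu.1, hu1]) (by rw [map_smul, map_sub, hBu.2, hu2])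
      (by rw [map_smul, hv11]) (by rw [map_smul, hv12, smul_neg])
      (by rw [map_smul, hv2.1, smul_neg]) (by rw [map_smul, hv2.2])
      (by rw [map_smul, hv3.1, smul_neg]) (by rw [map_smul, hv3.2, smul_neg]) hlin
    rcases smul_eq_zero.mp s.1 with h | h
    · exact absurd h hdet
    · exact sub_eq_zero.mp h
  refine ⟨v₁, ρ b v₁, ρ b (ρ b v₁), hv1, rfl, rfl, hB3 v₁, hv11, hv2.1, hv3.1, hv12, hv2.2,
    hv3.2, ?_, ?_, ?_, ?_⟩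
  · rw [hQ3, hv12, map_neg, hv11]
  · rw [hQ3, hv2.2, hv2.1]
  · rw [hQ3, hv3.2, map_neg, hv3.1, neg_neg]
  · intro v
    obtain ⟨u, a₁, a₂, a₃, hv, ⟨hu1, hu2⟩, ⟨ha11, ha12⟩, ⟨ha21, ha22⟩, ⟨ha31, ha32⟩⟩ := hdec v
    obtain ⟨c₁, hc₁⟩ := m1 a₁ ha11 ha12
    obtain ⟨c₂, hc₂⟩ := m2 a₂ ha21 ha22
    obtain ⟨c₃, hc₃⟩ := m3 a₃ ha31 ha32
    refine ⟨u, c₁, c₂, c₃, ?_, hu1, hu2, ?_, fixB u hu1 hu2⟩
    · rw [← hc₁, ← hc₂, ← hc₃]; exact hv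
    · rw [hQ3, hu2, hu1]

end slevel

end Cfsg.Agent.Helper26.N15
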