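import Mathlib
import Cfsg.Agent.Helper21.PEDefs

set_option autoImplicit false

namespace Cfsg.Agent.Helper26.PEREALA

open Equiv Cfsg.Agent.Helper21.PE

/-- CRT choice of the rotation amount: `m ∣ e`, `l ∣ e + 1`. -/
theorem exists_e (m l : ℕ) (hm : 2 ≤ m) (hl : 3 ≤ l) (hc : Nat.Coprime m l) :
    ∃ e, 1 ≤ e ∧ e + 2 ≤ m * l ∧ m ∣ e ∧ l ∣ e + 1 ∧ Nat.gcd e (m * l) = m := by
  have h1 := (Nat.chineseRemainder hc 0 (l - 1)).2.1
  have h2 := (Nat.chineseRemainder hc 0 (l - 1)).2.2
  have h3 := Nat.chineseRemainder_lt_mul hc 0 (l - 1) (by omega) (by omega)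
  generalize (Nat.chineseRemainder hc 0 (l - 1) : ℕ) = e at h1 h2 h3
  have hme : m ∣ e := (Nat.modEq_zero_iff_dvd).mp h1
  have hle : l ∣ e + 1 := by
    have h4 : e + 1 ≡ (l - 1) + 1 [MOD l] := h2.add_right 1
    rw [Nat.sub_add_cancel (by omega : 1 ≤ l)] at h4
    exact (Nat.modEq_zero_iff_dvd).mp (h4.trans (by simp [Nat.ModEq]))
  have he1 : 1 ≤ e := by
    rcases Nat.eq_zero_or_pos e with h0 | h0
    · subst h0
      have := Nat.le_of_dvd (by norm_num) hle
      omega
    · exact h0
  have he2 : e + 2 ≤ m * l := by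
    obtain ⟨q, rfl⟩ := hme
    have hq : q < l := by
      by_contra hq
      have : m * l ≤ m * q := Nat.mul_le_mul_left m (by omega)
      omega
    have : m * (q + 1) ≤ m * l := Nat.mul_le_mul_left m (by omega)
    have h5 : m * (q + 1) = m * q + m := by ring
    omega
  have hcop : Nat.Coprime e l := by
    have h6 : Nat.Coprime e (e + 1) := by simp
    exact Nat.Coprime.coprime_dvd_right hle h6
  refine ⟨e, he1, he2, hme, hle, ?_⟩
  apply Nat.dvd_antisymm
  · have hd1 : Nat.gcd e (m * l) ∣ e := Nat.gcd_dvd_left _ _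
    have hd2 : Nat.gcd e (m * l) ∣ m * l := Nat.gcd_dvd_right _ _
    exact (Nat.Coprime.coprime_dvd_left hd1 hcop).dvd_of_dvd_mul_right hd2
  · exact Nat.dvd_gcd hme (Dvd.intro _ rfl)

theorem rot_val (n : ℕ) (i : Fin n) (h : i.val + 1 < n) : (finRotate n i).val = i.val + 1 := by
  obtain ⟨N, rfl⟩ : ∃ N, n = N + 1 := ⟨n - 1, by have := i.2; omega⟩
  apply coe_finRotate_of_ne_last
  intro hh
  rw [hh] at h
  simp at h

/-- the orbit of the point `1` under `ρ = σ τ` -/
theorem orbit_formula (n t e l m : ℕ) (τ : Perm (Fin n)) (hτ : RotOn n 0 t e τ) (ht : t < n)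
    (htl : t = m * l) (hm : 0 < m) (hl : 3 ≤ l) (hle : l ∣ e + 1) (h1 : 1 < n) (i : ℕ) :
    (((finRotate n * τ) ^ i) ⟨1, h1⟩).val = (i * (e + 1)) % t + 1 := by
  have htpos : 0 < t := by rw [htl]; positivity
  have hlt : l ∣ t := by rw [htl]; exact Dvd.intro_left _ rfl
  -- remainders are multiples of l
  have key : ∀ j : ℕ, (j * (e + 1)) % t + l ≤ t := by
    intro j
    have hd : l ∣ (j * (e + 1)) % t := by
      rw [Nat.dvd_mod_iff hlt]
      exact Dvd.dvd.mul_left hle j
    obtain ⟨q, hq⟩ := hd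
    have hlt2 : (j * (e + 1)) % t < t := Nat.mod_lt _ htpos
    rw [hq, htl] at hlt2 ⊢
    have hq2 : q < m := by
      by_contra hq2
      have : l * m ≤ l * q := Nat.mul_le_mul_left l (by omega)
      have h5 : m * l = l * m := Nat.mul_comm _ _
      omega
    have : l * (q + 1) ≤ l * m := Nat.mul_le_mul_left l (by omega)
    have h5 : l * (q + 1) = l * q + l := by ring
    have h6 : m * l = l * m := Nat.mul_comm _ _
    omega
  induction i with
  | zero => simp
  | succ i ih =>
    rw [pow_succ', Perm.mul_apply, Perm.mul_apply]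
    set y := ((finRotate n * τ) ^ i) ⟨1, h1⟩ with hy
    have hylt : y.val < 0 + t := by
      have := key i
      omega
    have hτy := hτ.1 y (Nat.zero_le _) hylt
    have hval : (τ y).val = ((i + 1) * (e + 1)) % t := by
      rw [hτy, ih]
      have : (i * (e + 1)) % t + 1 - 0 + e = (i * (e + 1)) % t + (e + 1) := by omega
      rw [Nat.zero_add, this, Nat.add_mod, Nat.mod_mod, ← Nat.add_mod]
      congr 1
      ring
    have := key (i + 1)
    rw [rot_val n (τ y) (by rw [hval]; omega), hval]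

theorem pe_reala : ShiftStmt → Comm3Stmt → CertStmt → RotStmt → GlueStmt → RealAStmt := by
  intro hShift hComm hCert hRot hGlue p n a c m hp hp3 hn hc hm hpm hlt
  have hl3 : 3 ≤ p ^ c := le_trans hp3 (Nat.le_self_pow (by omega) p)
  generalize hl : p ^ c = l at hl3 hlt ⊢
  have hcop : Nat.Coprime m l := by
    rw [← hl]
    exact Nat.Coprime.pow_right c ((Nat.Prime.coprime_iff_not_dvd hp).mpr hpm).symm
  obtain ⟨e, he1, he2, hme, hle, hgcd⟩ := exists_e m l hm hl3 hcop
  have ht : 0 < m * l := by positivity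
  have hml6 : 2 * 3 ≤ m * l := Nat.mul_le_mul hm hl3
  obtain ⟨R, hR1, hR2⟩ := hRot (m * l) e ht (by
    intro hd
    have := Nat.le_of_dvd (by omega) hd
    omega)
  rw [hgcd, Nat.mul_div_cancel_left l (by omega : 0 < m)] at hR2
  obtain ⟨k, rfl⟩ : ∃ k, n = m * l + (k + 1) := ⟨n - m * l - 1, by omega⟩
  obtain ⟨τ, hτ1, hτ2, hτ3⟩ := hGlue (m * l) (k + 1) R 1
  have hRot : RotOn (m * l + (k + 1)) 0 (m * l) e τ := by
    constructor
    · intro x _ hx
      have hx' : x.val < m * l := by omega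
      have e1 : x = Fin.castAdd (k + 1) ⟨x.val, hx'⟩ := Fin.ext rfl
      rw [e1, hτ2, hR1]
      simp
    · intro x hx
      have hx' : m * l ≤ x.val := by omega
      have e1 : x = Fin.natAdd (m * l) ⟨x.val - m * l, by have := x.2; omega⟩ := by
        apply Fin.ext; simp; omega
      apply Fin.ext
      rw [e1, hτ3]
      simp
  have hodd : Odd (m * l + (k + 1)) := by
    rw [hn]
    exact Odd.pow (hp.odd_of_ne_two (by omega))
  refine ⟨τ, ?_, ?_, ?_⟩
  · rw [hτ1, hR2, Equiv.Perm.cycleType_one, add_zero]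
  · -- not a p-element: the point 1 has period dividing m
    have h1 : 1 < m * l + (k + 1) := by omega
    have horb := orbit_formula (m * l + (k + 1)) (m * l) e l m τ hRot (by omega) rfl (by omega) hl3 hle h1
    apply hCert p (Fin (m * l + (k + 1))) (finRotate (m * l + (k + 1)) * τ) ⟨1, h1⟩ m hp
      ((Nat.Prime.coprime_iff_not_dvd hp).mpr hpm).symm
    · apply Fin.ext
      rw [horb m]
      have : (m * l) ∣ m * (e + 1) := Nat.mul_dvd_mul_left m hle
      rw [Nat.mod_eq_zero_of_dvd this]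
    · intro hfix
      have h2 := horb 1
      rw [pow_one, hfix] at h2
      have h3 : (1 * (e + 1)) % (m * l) = e + 1 := by
        rw [one_mul]; exact Nat.mod_eq_of_lt (show e + 1 < m * l by omega)
      rw [h3] at h2
      simp at h2
  · -- not solvable: a 3-cycle with support {0, e, t}
    obtain ⟨h3c, hsupp⟩ := hComm (m * l + (k + 1)) 0 (m * l) e τ (by omega) (by omega) (by omega) hRot
    apply hShift (m * l + (k + 1)) (Subgroup.closure {finRotate (m * l + (k + 1)), τ})
      (finRotate (m * l + (k + 1)) * τ * (finRotate (m * l + (k + 1)))⁻¹ * τ⁻¹)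
      ⟨0, by omega⟩ ⟨0 + e, by omega⟩ ⟨0 + m * l, by omega⟩ (by omega) hodd
    · exact Subgroup.subset_closure (by simp)
    · have hσ : finRotate (m * l + (k + 1)) ∈ Subgroup.closure {finRotate (m * l + (k + 1)), τ} :=
        Subgroup.subset_closure (by simp)
      have hτm : τ ∈ Subgroup.closure {finRotate (m * l + (k + 1)), τ} :=
        Subgroup.subset_closure (by simp)
      exact Subgroup.mul_mem _ (Subgroup.mul_mem _ (Subgroup.mul_mem _ hσ hτm) (Subgroup.inv_mem _ hσ))
        (Subgroup.inv_mem _ hτm)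
    · exact h3c
    · show (0 : ℕ) < 0 + e
      omega
    · show 0 + e < 0 + m * l
      omega
    · exact hsupp
    · rintro ⟨h4, -⟩
      simp only at h4
      -- 2 e = t, but l ∣ e + 1 and l ∣ t give l ∣ 2
      have h5 : 2 * e = m * l := by omega
      have h6 : l ∣ 2 * (e + 1) := Dvd.dvd.mul_left hle 2
      have h7 : l ∣ m * l := Dvd.intro_left _ rfl
      have h8 : 2 * (e + 1) = m * l + 2 := by omega
      rw [h8] at h6
      have h9 : l ∣ 2 := (Nat.dvd_add_right h7).mp h6
      have := Nat.le_of_dvd (by norm_num) h9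
      omega

end Cfsg.Agent.Helper26.PEREALA
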