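import Mathlib
import Cfsg.Agent.Helper13.TLDefs
import Cfsg.Agent.Helper26.TLUXFERSUB

set_option autoImplicit false

namespace Cfsg.Agent.Helper26.TI5954

open Module Polynomial
open Cfsg.Agent.Helper13.TIu Cfsg.Agent.Helper13.TIsp

section geom2

variable {F : Type*} [Field F] {σ : F →+* F} {V : Type*} [AddCommGroup V] [Module F V]
  [FiniteDimensional F V] (B : V →ₛₗ[σ] V →ₗ[F] F)

/-- UNORMCNT (case D; uses UXFERSUB, `Cfsg.Agent.Helper44.card_normOne`, `stdH x x = hfg σ x x`). -/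
theorem u_norm_count [Fintype F] (q : ℕ) (hq : Fintype.card F = q ^ 2) (hσ : ∀ a, σ a = a ^ q)
    (hσ2 : ∀ a, σ (σ a) = a) (hσne : σ ≠ RingHom.id F) (hS : B.IsSymm) (U : Submodule F V)
    (hU : UNd B U) :
    (Nat.card {v : V // v ∈ U ∧ B v v = 1} : ℤ) = Cfsg.Agent.Helper44.unitVal q (finrank F U) := by
  obtain ⟨Φ, hΦ⟩ := u_xfer_sub B hσ2 hσne hS U hU
  have hcard := Cfsg.Agent.Helper44.card_normOne hq σ hσ (finrank F U) (Fin (finrank F U))
    (Fintype.card_fin _)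
  rw [← hcard]
  congr 1
  apply Nat.card_congr
  refine
    { toFun := fun v => ⟨Φ ⟨v.1, v.2.1⟩, ?_⟩
      invFun := fun x => ⟨((Φ.symm x.1 : U) : V), (Φ.symm x.1).2, ?_⟩
      left_inv := ?_
      right_inv := ?_ }
  · have h := hΦ ⟨v.1, v.2.1⟩ ⟨v.1, v.2.1⟩
    rw [stdH_apply] at h
    show Cfsg.Agent.Helper44.hfg σ (Φ ⟨v.1, v.2.1⟩) (Φ ⟨v.1, v.2.1⟩) = 1
    rw [Cfsg.Agent.Helper44.hfg, h]
    exact v.2.2
  · have h := hΦ (Φ.symm x.1) (Φ.symm x.1)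
    rw [LinearEquiv.apply_symm_apply, stdH_apply] at h
    rw [← h]
    have hx := x.2
    rw [Cfsg.Agent.Helper44.hfg] at hx
    exact hx
  · intro v
    apply Subtype.ext
    show ((Φ.symm (Φ ⟨v.1, v.2.1⟩) : U) : V) = v.1
    rw [LinearEquiv.symm_apply_apply]
  · intro x
    apply Subtype.ext
    show Φ ⟨((Φ.symm x.1 : U) : V), (Φ.symm x.1).2⟩ = x.1
    exact Φ.apply_symm_apply x.1

end geom2

end Cfsg.Agent.Helper26.TI5954
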