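import Mathlib
import Cfsg.Agent.Helper13.TLDefs
import Cfsg.Agent.Helper26.TLUNORMCNT
import Cfsg.Agent.Helper20.TLUFREE

set_option autoImplicit false

namespace Cfsg.Agent.Helper26.TI5954

open Module Polynomial
open Cfsg.Agent.Helper13.TIu Cfsg.Agent.Helper13.TIsp
open Cfsg.Agent.Helper20.TI5954

section geom2

variable {F : Type*} [Field F] {σ : F →+* F} {V : Type*} [AddCommGroup V] [Module F V]
  [FiniteDimensional F V] (B : V →ₛₗ[σ] V →ₗ[F] F)

/-- UNOIRR (case D; uses UNORMCNT, UFREE): `T` acts freely on the norm-one vectors of `U`, whose number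
is `q ^ (d-1) * (q ^ d - (-1) ^ d)`. -/
theorem u_noirr [Fintype F] (q : ℕ) (hq : Fintype.card F = q ^ 2) (hσ : ∀ a, σ a = a ^ q)
    (hσ2 : ∀ a, σ (σ a) = a) (hσne : σ ≠ RingHom.id F) (hS : B.IsSymm) (T : Module.End F V)
    (hT : UPres B T) (r : ℕ) [Fact r.Prime] (hrq : ¬ r ∣ q) (hTr : T ^ r = 1)
    (U : Submodule F V) (hUT : U.map T ≤ U) (hU : UNd B U)
    (hUk : U ⊓ LinearMap.ker (T - 1) = ⊥) :
    (r : ℤ) ∣ (q : ℤ) ^ finrank F U - (-1) ^ finrank F U := by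
  have hcnt := u_norm_count B q hq hσ hσ2 hσne hS U hU
  have hST : ∀ v ∈ {v : V | v ∈ U ∧ B v v = 1}, T v ∈ {v : V | v ∈ U ∧ B v v = 1} := by
    rintro v ⟨hvU, hv1⟩
    exact ⟨hUT (Submodule.mem_map_of_mem hvU), (hT v v).trans hv1⟩
  have hfr : ∀ v ∈ {v : V | v ∈ U ∧ B v v = 1}, T v ≠ v := by
    rintro v ⟨hvU, hv1⟩ hTv
    have hk : v ∈ LinearMap.ker (T - 1) := by
      rw [LinearMap.mem_ker, LinearMap.sub_apply, Module.End.one_apply, hTv, sub_self]
    have h0 : v ∈ U ⊓ LinearMap.ker (T - 1) := ⟨hvU, hk⟩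
    rw [hUk, Submodule.mem_bot] at h0
    rw [h0, map_zero] at hv1
    exact zero_ne_one hv1
  have hfree : r ∣ Nat.card {v : V // v ∈ U ∧ B v v = 1} :=
    u_free_count T r hTr {v : V | v ∈ U ∧ B v v = 1} hST hfr
  have hpr : Prime (r : ℤ) := Nat.prime_iff_prime_int.mp (Fact.out : r.Prime)
  have hdvd : (r : ℤ) ∣ Cfsg.Agent.Helper44.unitVal q (finrank F U) := by
    rw [← hcnt]
    exact Int.natCast_dvd_natCast.mpr hfree
  obtain ⟨d, hd⟩ : ∃ d, d = finrank F U := ⟨_, rfl⟩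
  rw [← hd] at hdvd ⊢
  cases d with
  | zero => simp
  | succ k =>
    simp only [Cfsg.Agent.Helper44.unitVal] at hdvd
    rcases hpr.dvd_or_dvd hdvd with h | h
    · exfalso
      exact hrq (Int.natCast_dvd_natCast.mp (hpr.dvd_of_dvd_pow h))
    · exact h

end geom2

end Cfsg.Agent.Helper26.TI5954
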