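import Mathlib
import Cfsg.Agent.Helper13.TLDefs
import Cfsg.Agent.Helper86.TLUPAIR
import Cfsg.Agent.Helper50.TLUAEA
import Cfsg.Agent.Helper26.TLUNOIRR
import Cfsg.Agent.Helper53.TLUARC
import Cfsg.Agent.Helper53.TLUORD

set_option autoImplicit false

namespace Cfsg.Agent.Helper26.TI5954

open Module Polynomial
open Cfsg.Agent.Helper13.TIu Cfsg.Agent.Helper13.TIsp

section geom2

variable {F : Type*} [Field F] {σ : F →+* F} {V : Type*} [AddCommGroup V] [Module F V]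
  [FiniteDimensional F V] (B : V →ₛₗ[σ] V →ₗ[F] F)

/-- UATOMD (case D; uses UPAIR, UAEA, UNOIRR, UARC, UORD): with `b = ord_r (q²)`: `c = b` if
`i % 4 = 2`, else `c = 2 b`.  UPAIR gives a nondegenerate invariant `b`-space or `2b`-space; by
UNOIRR + UARC `c` divides its dimension; for `i % 4 = 2` apply UAEA inside the `2b`-space. -/
theorem u_atom_d [Fintype F] (q : ℕ) (hq : Fintype.card F = q ^ 2) (hσ : ∀ a, σ a = a ^ q)
    (hσ2 : ∀ a, σ (σ a) = a) (hσne : σ ≠ RingHom.id F) (hS : B.IsSymm) (T : Module.End F V)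
    (hT : UPres B T) (r : ℕ) [Fact r.Prime] (hr2 : 2 < r) (hrq : ¬ r ∣ q) (hrF : (r : F) ≠ 0)
    (hTr : T ^ r = 1) (i c : ℕ) (hi : i = orderOf (q : ZMod r))
    (hc : c = if i % 4 = 0 then i else if i % 4 = 2 then i / 2 else 2 * i)
    (N : Submodule F V) (hNT : N.map T ≤ N) (hN : UNd B N) (hN0 : N ≠ ⊥)
    (hNk : N ⊓ LinearMap.ker (T - 1) = ⊥) :
    ∃ E : Submodule F V, E ≤ N ∧ E.map T ≤ E ∧ UNd B E ∧ finrank F E = c := by
  obtain ⟨hi0, hc0, harc⟩ := Cfsg.Agent.Helper53.TI5954.u_arith_c q r hr2 hrq i c hi hc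
  have hb : orderOf ((Fintype.card F : ℕ) : ZMod r) = if Even i then i / 2 else i := by
    rw [hq, hi]; exact Cfsg.Agent.Helper53.TI5954.u_ord_sq q r
  obtain ⟨b, hbdef⟩ : ∃ b, b = orderOf ((Fintype.card F : ℕ) : ZMod r) := ⟨_, rfl⟩
  rw [← hbdef] at hb
  have hb0 : 0 < b := by
    rw [hb]; split_ifs with he
    · obtain ⟨k, hk⟩ := he; omega
    · exact hi0
  have hcb : (i % 4 = 2 ∧ c = b) ∨ (i % 4 ≠ 2 ∧ c = 2 * b) := by
    rw [hb, hc]
    by_cases h0 : i % 4 = 0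
    · right
      have he : Even i := by rw [Nat.even_iff]; omega
      rw [if_pos h0, if_pos he]; constructor <;> omega
    · by_cases h2 : i % 4 = 2
      · left
        have he : Even i := by rw [Nat.even_iff]; omega
        rw [if_neg h0, if_pos h2, if_pos he]; exact ⟨h2, rfl⟩
      · right
        have he : ¬ Even i := by rw [Nat.even_iff]; omega
        rw [if_neg h0, if_neg h2, if_neg he]; exact ⟨h2, rfl⟩
  rcases Cfsg.Agent.Helper86.TI5954.u_hyp_pair B hσ2 hS T hT r hrF hTr N hNT hN hN0 hNk with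
    ⟨U₁, hU₁N, hU₁T, hU₁nd, hU₁dim⟩ | ⟨E₂, hE₂N, hE₂T, hE₂nd, hE₂dim⟩
  · have hU₁k : U₁ ⊓ LinearMap.ker (T - 1) = ⊥ := by
      rw [eq_bot_iff, ← hNk]; exact inf_le_inf_right _ hU₁N
    have hdiv := Cfsg.Agent.Helper26.TI5954.u_noirr B q hq hσ hσ2 hσne hS T hT r hrq hTr U₁ hU₁T hU₁nd hU₁k
    rw [hU₁dim, ← hbdef] at hdiv
    have hcdvd : c ∣ b := (harc b).mp hdiv
    rcases hcb with ⟨_, hcb⟩ | ⟨_, hcb⟩
    · exact ⟨U₁, hU₁N, hU₁T, hU₁nd, by rw [hU₁dim, ← hbdef, hcb]⟩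
    · exfalso
      have := Nat.le_of_dvd hb0 hcdvd
      omega
  · rcases hcb with ⟨h4, hcb⟩ | ⟨_, hcb⟩
    · have hE₂k : E₂ ⊓ LinearMap.ker (T - 1) = ⊥ := by
        rw [eq_bot_iff, ← hNk]; exact inf_le_inf_right _ hE₂N
      obtain ⟨E, hEE₂, hET, hEnd, hEdim⟩ := Cfsg.Agent.Helper50.TI5954.u_atom_self B q hq hσ hσ2 hσne hS T hT r hr2 hrF hTr
        (by rw [← hi]; exact h4) E₂ hE₂T hE₂nd hE₂k hE₂dim
      exact ⟨E, hEE₂.trans hE₂N, hET, hEnd, by rw [hEdim, ← hbdef, hcb]⟩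
    · exact ⟨E₂, hE₂N, hE₂T, hE₂nd, by rw [hE₂dim, ← hbdef, hcb]⟩

end geom2

end Cfsg.Agent.Helper26.TI5954
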