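import Cfsg.Agent.Helper26.U35Pts
import Cfsg.Agent.Helper26.HSTrans
import Cfsg.Agent.Helper26.CrossMax
import Cfsg.Agent.Helper92.LeechHS

/-!
# The stabiliser of a vector of the 352-set in the Higman–Sims group is `PSU(3, 5)`

`u35t` is a minimal vector with inner products `-16`, `-8` with `V`, `U'` (class 2 of `clsH`).
Two explicit words `u35G1`, `u35G2` of `Co0` fix `V`, `U'`, `u35t` and permute a family `u35v` of
252 minimal vectors as the permutations `u35s1`, `u35s2` do.  Since the triple stabiliser has order
`126000`, it is isomorphic to the group generated by these permutations, hence to `PSU(3, 5)`.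
Generated by `scratch/psu/emit_leech.py`.
-/

set_option autoImplicit false

namespace Cfsg.Agent.Helper26

open Cfsg

/-- the first generator of the stabiliser. -/
noncomputable def u35G1 : List Ltr := [Ltr.mono 92 36 60 8 76 24 88 32 68 12 72 56 28 4 48 52 16 44 0 20 40 80 64 84 74567753201795877038520733455 4971183546786391802568048897 11437653, Ltr.xi, Ltr.mono 80 68 36 16 88 12 40 72 24 92 48 84 20 60 4 56 28 64 0 52 32 76 44 8 19267549249314982676401920 1284503283287665511760128 1675812, Ltr.xi, Ltr.mono 48 40 24 28 60 32 76 72 44 52 92 4 0 8 56 36 16 12 84 88 20 64 68 80 19342795819995000990658815 1289519721333000066043921 2063211, Ltr.xi, Ltr.mono 32 60 64 76 52 68 8 80 28 4 72 12 84 36 20 40 48 56 24 16 88 44 0 92 4932488456230594778706743280 328832563748706318580449552 6627142, Ltr.xi, Ltr.mono 48 20 92 32 12 72 44 8 4 16 60 76 40 84 28 88 68 80 0 52 24 56 36 64 79210024198670411572760739855 5280668279911360771517382657 15578129]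

/-- the second generator of the stabiliser. -/
noncomputable def u35G2 : List Ltr := [Ltr.mono 92 68 56 88 72 32 44 48 60 24 64 36 0 52 40 16 80 12 28 4 8 76 20 84 74567753201795877038520733455 4971183546786391802568048897 11437653, Ltr.xi, Ltr.mono 80 68 36 16 88 12 40 72 24 92 48 84 20 60 4 56 28 64 0 52 32 76 44 8 19267549249314982676401920 1284503283287665511760128 1675812, Ltr.xi, Ltr.mono 92 80 12 48 60 4 24 28 44 64 16 8 36 56 40 84 32 68 20 52 88 76 0 72 78919886412896744578995982080 5261325760859782971933065472 13584196, Ltr.xi, Ltr.mono 80 68 36 16 88 12 40 72 24 92 48 84 20 60 4 56 28 64 0 52 32 76 44 8 19267549249314982676401920 1284503283287665511760128 1675812, Ltr.xi, Ltr.mono 0 12 8 88 4 52 28 24 40 84 36 68 44 60 48 92 76 56 80 72 16 20 64 32 74567678215781200916267335920 4971178547718746727751155728 11108882]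

/-- a word moving `U'` to the first vector of the family. -/
noncomputable def u35WB : List Ltr := [Ltr.mono 0 4 8 12 16 20 24 28 32 36 40 44 48 52 56 60 64 68 72 76 80 84 88 92 78936882244600053695281893120 5262458816306670246352126208 13938692, Ltr.xi, Ltr.mono 92 72 12 76 52 36 20 24 0 84 28 32 80 44 16 8 88 68 60 40 48 64 4 56 74585887348565236396956119280 4972392489904349093130407952 12528138, Ltr.xi, Ltr.mono 24 56 32 44 80 92 72 60 20 88 84 40 68 4 76 28 16 12 52 64 36 48 0 8 74295744876241649293810794255 4953049658416109952920719617 10385421]

/-- a word moving `U'` to the vector `u35t`. -/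
noncomputable def u35WT : List Ltr := [Ltr.mono 0 4 8 12 16 20 24 28 32 36 40 44 48 52 56 60 64 68 72 76 80 84 88 92 18138609656198707638439695 1209240643746580509229313 1302533, Ltr.xi, Ltr.mono 4 0 28 12 72 48 56 36 88 84 64 44 92 80 8 52 76 16 68 20 60 24 32 40 4950555659621629481818583055 330037043974775298787905537 7491273]

/-- the packed form of `u35t`. -/
def u35TT : ℕ := 42255020007608211866070461098

/-- the packed table of the family. -/
def u35VT : ℕ := 0x597779777997977777779797668886888668688888886868579777799777777999779777686888866888888666886888577797777779979977997777688868888886686688668888668886888886886686886888597779777779779979779777666886688888886888888668599779977777779777777997579797799777779777797797686868866888886888868868579777977777977997977977686888688888688668688688688686888686688886868888577979777979977779797777577797797979779799777777688868868686886866888888668888866688886888886688597777799977779777779977668886888688888688668688597779777977777977997977668688886888668886886888597977779777997779779777597797777777797999977777668868888888868666688888688868868868688668888868577797797797977997777797577979797779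77799797777768868686888688866868888868668888868888688688686857997777797777977977979757779779979779777977797768886886686886888688868857997779779777979777797768668886886888686888868868888686868886888668688857777979797779777997977757799777977977797977779768866888688688868688886868668688888886868688868857997977777779797977797766866888888888688686868859799777777777977979797757977777799799779977777768688888866866886688888857779777799777777999779768886888866888888666886859979777777797979777977766686888888868686888688857979977777777797797979768686688888888868868686857777797977797997777979768888868688868668888686857797799797797779777977768868866868868886888688866886868688686688888888859779797977979977777777759977777777797797979779766688888888868868686886859779779797799777779777766886886868866888886888866668868888688886688888859997797777977779977777768668888886668868888688857997777779997797777977768888886866668888868868857777779799997777797797768888686666888886886888857777979999777779779777768668688688868886888886857997977977797779777779766886888688868888868866859779777977797777797799766886888686888868886688859779777979777797779977768868868886868888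68886685779779777979777797779976688888888686666888886885977777777979999777779776688868668888686888888685977797997777979777777975797977779777997779779776868688886888668886886886886668686888888888886685779997979777777777779975797779797777977799777976868886868888688866888685979797797997777777779776686868868668888888886885979797779777997977777776686868886888668688888886868888688688686886688885797777977977979779977776888888668886668686888885777777997779997979777776888686868886888668688885777979797779777997977775977799777977977797977776688866888688688868688886866688886888886688688885799977779777779977977776868668888686888888686885797997777979777777979776868888866688886888886685797777799977779777779976688888866866886688888885977777799799779977777776888668668866888888868885777997997799777777797776886888668688888886868685779777997977777779797976686888888686888686688885979777777979777979977775777799977779777779977976888866688886888886688686886888888668668866888885779777777997997799777775777977779779779797799776888688886886886868866885777777977979797797997776888888688686868868668886888666888868888866886885777999777797777799779775779777779779979779777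97688688888688668688688868597977979977777777797797668688686688888888868868577779979977997777777977688886686688668888888688688668688888886868688868577997977777779797977797686866668888868868888888579799997777797797777777599979797777777777799777666686868888888888866888577979777777979777979977688686888888686888686688579797779799777797977777686868886866888868688888688688866888688688868688577977799777977977797977597977997777797777977977668688668888868888688688688868688868668888686888577797977797997777979777666888868688888868688868599777797977777797977797688888888668886668686888577777777997779997979777577977977979779977777977688688688686886688888688686868688686688888888868579797977979977777777797597779797777977799777977668886868888688866888688577979777797779977797797688686888868886688868868686886888888886866668888579779777777779799997777686888668886886888686888579777997779779777979777597977797779979777777797668688868886686888888868577779997797777977779977688886668868888688886688579777779977977777999777686888886688688888666888577799779777779997777977688866886888886668888688577977979797797997777777688688686868868668888888688866688688886888866888577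79997797777977779977759979779777977797777797766686886888688868888868857799799779977777779777768866866886688888886888866688868868886868888688859977797797779797777977768668886668686888888888857997779997979777777777757777799799779977777779768888866866886688888886868888868686888688866868857777797979777977799797766888886688688888666888859777779977977777999777768666868688888888888668857999797977777777777997759779799777777777977979766886866888888888688686857777997779997979777777768888668886668686888888868688866868888888686868857977799797777777979797759999777779779777777779766666888886886888888886857977979779977777977779768688686886688888688886859779797799777779777797766886868866888886888868868668868888866688886888857997797777799977779777757977997977977797779777768688668688688868886888857799977977779777799777768866688688886888866888868888668868888866688886857777997797777799977779757977777977997977977797768688888688668688688868868886688888866688688886857779977777799977977779757797777997777779997797768868888668888886668868857797797777777797999977768868868888888868666688868866688886888886688688857799977779777779977977766888868886688868868886859777797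7799777977977797668888886868886866888868597777779797779799777797577777779977799979797777688888886688866686868888688866888666868688888888577799777999797977777777599777777999779777797777666888888666886888868888668888668888886668868888597777997777779997797777599777777797777779979977666888888868888886686688597779979777777797979777668886686888888868686888688888868888886686688668577777797777779979977997577779779979779777977797688886886686886888688868597997777979777777979777668668888686888888686888688668868888866688886888577997797777799977779777599779777779997777977777666886888886668888688888579779779797799777779777686886886868866888886888577777979999777779779777688888686666888886886888688888668886668686888888577777997779997979777777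

theorem u35_ok : wordOK u35G1 = true ∧ wordOK u35G2 = true ∧ wordOK u35WB = true ∧
    wordOK u35WT = true := by decide +kernel

theorem u35_wordOK_append (a b : List Ltr) (ha : wordOK a = true) (hb : wordOK b = true) :
    wordOK (a ++ b) = true := by
  unfold wordOK at *
  rw [List.all_append, ha, hb]
  rfl

theorem u35_wordOK_flatMap (l : List Bool) (f : Bool → List Ltr)
    (hf : ∀ b, wordOK (f b) = true) : wordOK (l.flatMap f) = true := by
  induction l with
  | nil => rfl
  | cons b l ih =>
    rw [List.flatMap_cons]
    exact u35_wordOK_append _ _ (hf b) ih

theorem u35_smul_eq (wd : List Ltr) (hwd : wordOK wd = true) (x y : leechLattice)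
    (hx : sqNorm (x : GolayPt → ℤ) < 64) (hy : sqNorm (y : GolayPt → ℤ) < 64)
    (h : actW wd (pk (x : GolayPt → ℤ)) = pk (y : GolayPt → ℤ)) : semW wd • x = y := by
  apply Subtype.ext
  apply pk_injective (short_of_sqNorm (by rw [co0_norm]; exact hx)) (short_of_sqNorm hy)
  rw [actW_sound wd hwd x hx]
  exact h

theorem u35_sq_U' : sqNorm (Spor.leechU' : GolayPt → ℤ) < 64 := by
  rw [sqNorm_leechU'32]; norm_num

theorem u35_sq_V : sqNorm (Spor.leechV : GolayPt → ℤ) < 64 := by
  rw [sqNorm_leechV48]; norm_num

/-- the vector `u35t`. -/
noncomputable def u35t : leechLattice := semW u35WT • Spor.leechU'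

theorem u35_pk_t : pk ((u35t : leechLattice) : GolayPt → ℤ) = u35TT := by
  unfold u35t
  rw [actW_sound u35WT u35_ok.2.2.2 _ u35_sq_U', pk_HU]
  decide +kernel

theorem u35_sq_t : sqNorm ((u35t : leechLattice) : GolayPt → ℤ) = 32 := by
  unfold u35t
  rw [co0_norm]
  exact sqNorm_leechU'32

theorem u35_cls_t : clsH (pk ((u35t : leechLattice) : GolayPt → ℤ)) = 2 := by
  rw [u35_pk_t]
  decide +kernel

/-- entry `s` of the packed table. -/
def u35vt (s : ℕ) : ℕ := Nat.land (Nat.shiftRight u35VT (96 * s)) 79228162514264337593543950335

/-- the word of the vector `s` of the family. -/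
noncomputable def u35wd (s : ℕ) : List Ltr :=
  u35WB ++ (u35W0.getD s []).flatMap (fun b => cond b u35G1 u35G2)

theorem u35_wd_ok (s : ℕ) : wordOK (u35wd s) = true :=
  u35_wordOK_append _ _ u35_ok.2.2.1 (u35_wordOK_flatMap _ _ (fun b => by
    cases b
    · exact u35_ok.2.1
    · exact u35_ok.1))

/-- the family of 252 minimal vectors. -/
noncomputable def u35v (s : Fin 252) : leechLattice := semW (u35wd s.val) • Spor.leechU'

set_option maxRecDepth 100000 in
theorem u35_vt_eq : ∀ s : Fin 252, actW (u35wd s.val) pvHU = u35vt s.val := by decide +kernel

theorem u35_sq_v (s : Fin 252) : sqNorm ((u35v s : leechLattice) : GolayPt → ℤ) = 32 := by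
  unfold u35v
  rw [co0_norm]
  exact sqNorm_leechU'32

theorem u35_pk_v (s : Fin 252) : pk ((u35v s : leechLattice) : GolayPt → ℤ) = u35vt s.val := by
  unfold u35v
  rw [actW_sound _ (u35_wd_ok s.val) _ u35_sq_U', pk_HU]
  exact u35_vt_eq s

set_option maxRecDepth 100000 in
theorem u35_vt_inj : ∀ s s' : Fin 252, u35vt s.val = u35vt s'.val → s = s' := by decide +kernel

theorem u35_v_inj : Function.Injective u35v := by
  intro s s' h
  apply u35_vt_inj
  rw [← u35_pk_v, ← u35_pk_v, h]

set_option maxRecDepth 100000 in
theorem u35_eq1 : ∀ s : Fin 252, actW u35G1 (u35vt s.val) = u35vt (u35f1 s).val := by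
  decide +kernel

set_option maxRecDepth 100000 in
theorem u35_eq2 : ∀ s : Fin 252, actW u35G2 (u35vt s.val) = u35vt (u35f2 s).val := by
  decide +kernel

theorem u35_fixes : actW u35G1 pvHV = pvHV ∧ actW u35G1 pvHU = pvHU ∧
    actW u35G1 u35TT = u35TT ∧ actW u35G2 pvHV = pvHV ∧ actW u35G2 pvHU = pvHU ∧
    actW u35G2 u35TT = u35TT := by decide +kernel

theorem u35_g1_v (s : Fin 252) : semW u35G1 • u35v s = u35v (u35s1 s) := by
  apply u35_smul_eq u35G1 u35_ok.1 _ _ (by rw [u35_sq_v]; norm_num) (by rw [u35_sq_v]; norm_num)
  rw [u35_pk_v, u35_pk_v]
  exact u35_eq1 s

theorem u35_g2_v (s : Fin 252) : semW u35G2 • u35v s = u35v (u35s2 s) := by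
  apply u35_smul_eq u35G2 u35_ok.2.1 _ _ (by rw [u35_sq_v]; norm_num) (by rw [u35_sq_v]; norm_num)
  rw [u35_pk_v, u35_pk_v]
  exact u35_eq2 s

/-- the triple stabiliser. -/
noncomputable def u35H : Subgroup Co0 :=
  Cfsg.Agent.Helper92.hsSub ⊓ MulAction.stabilizer Co0 u35t

theorem mem_u35H (g : Co0) : g ∈ u35H ↔
    g • Spor.leechV = Spor.leechV ∧ g • Spor.leechU' = Spor.leechU' ∧ g • u35t = u35t := by
  unfold u35H
  rw [Subgroup.mem_inf, Cfsg.Agent.Helper92.mem_hsSub, MulAction.mem_stabilizer_iff, and_assoc]

theorem u35_g1_mem : semW u35G1 ∈ u35H := by
  rw [mem_u35H]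
  refine ⟨u35_smul_eq _ u35_ok.1 _ _ u35_sq_V u35_sq_V (by rw [pk_HV]; exact u35_fixes.1),
    u35_smul_eq _ u35_ok.1 _ _ u35_sq_U' u35_sq_U' (by rw [pk_HU]; exact u35_fixes.2.1),
    u35_smul_eq _ u35_ok.1 _ _ (by rw [u35_sq_t]; norm_num) (by rw [u35_sq_t]; norm_num)
      (by rw [u35_pk_t]; exact u35_fixes.2.2.1)⟩

theorem u35_g2_mem : semW u35G2 ∈ u35H := by
  rw [mem_u35H]
  refine ⟨u35_smul_eq _ u35_ok.2.1 _ _ u35_sq_V u35_sq_V (by rw [pk_HV]; exact u35_fixes.2.2.2.1),
    u35_smul_eq _ u35_ok.2.1 _ _ u35_sq_U' u35_sq_U' (by rw [pk_HU]; exact u35_fixes.2.2.2.2.1),
    u35_smul_eq _ u35_ok.2.1 _ _ (by rw [u35_sq_t]; norm_num) (by rw [u35_sq_t]; norm_num)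
      (by rw [u35_pk_t]; exact u35_fixes.2.2.2.2.2)⟩

/-- the orbit of `u35t` under the stabiliser of `V`, `U'` is the class 2. -/
theorem u35_orbit : MulAction.orbit ↥Cfsg.Agent.Helper92.hsSub u35t =
    {x : leechLattice | sqNorm (x : GolayPt → ℤ) = 32 ∧ clsH (pk (x : GolayPt → ℤ)) = 2} := by
  ext x
  rw [mem_orbit_sub]
  constructor
  · rintro ⟨k, hk, rfl⟩
    have hk' := (Cfsg.Agent.Helper92.mem_hsSub k).1 hk
    have hn : sqNorm ((k • u35t : leechLattice) : GolayPt → ℤ) = 32 := by
      rw [co0_norm]; exact u35_sq_t
    refine ⟨hn, ?_⟩
    rw [clsH_congr (k • u35t) u35t hn u35_sq_t (dot_fix k _ hk'.1 u35t) (dot_fix k _ hk'.2 u35t)]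
    exact u35_cls_t
  · rintro ⟨h1, h2⟩
    obtain ⟨g, a, b, c⟩ := hs_trans 1 u35t x u35_sq_t h1 u35_cls_t h2
    exact ⟨g, (Cfsg.Agent.Helper92.mem_hsSub g).2 ⟨a, b⟩, c⟩

/-- the triple stabiliser has order `126000`. -/
theorem u35_card : Nat.card ↥u35H = 126000 := by
  have h1 : (MulAction.stabilizer Co0 u35t).relIndex Cfsg.Agent.Helper92.hsSub = 352 := by
    rw [relIndex_stab, u35_orbit]
    exact ncard_cls clsH 2 352 cnt_H2
  have h2 := Subgroup.relIndex_mul_relIndex (⊥ : Subgroup Co0)
    (Cfsg.Agent.Helper92.hsSub ⊓ MulAction.stabilizer Co0 u35t) Cfsg.Agent.Helper92.hsSub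
    bot_le inf_le_left
  rw [Subgroup.relIndex_bot_left, Subgroup.relIndex_bot_left, Subgroup.inf_relIndex_left, h1,
    Cfsg.Agent.Helper92.card_hsSub] at h2
  have h3 : u35H = Cfsg.Agent.Helper92.hsSub ⊓ MulAction.stabilizer Co0 u35t := rfl
  rw [h3]
  exact Nat.eq_of_mul_eq_mul_right (by norm_num : 0 < 352) (h2.trans (by norm_num))

/-- recognising a finite group by its action on an equivariant family, with a cardinality bound
instead of faithfulness. -/
theorem u35_iso_of_family {M A V S : Type*} [Group M] [Group A] [Finite M] [Finite A]
    (ρ : M → V → V) (hρ1 : ∀ w, ρ 1 w = w) (hρm : ∀ m m' w, ρ (m * m') w = ρ m (ρ m' w))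
    (τ : A → S → S) (hτ1 : ∀ s, τ 1 s = s) (hτm : ∀ a a' s, τ (a * a') s = τ a (τ a' s))
    (v : S → V)
    (hA : ∀ a : A, (∀ s, v (τ a s) = v s) → a = 1)
    (gens : Set A) (hgens : Subgroup.closure gens = ⊤)
    (hgen : ∀ a ∈ gens, ∃ m : M, ∀ s, ρ m (v s) = v (τ a s))
    (hcard : Nat.card M ≤ Nat.card A) : Nonempty (M ≃* A) := by
  classical
  let K : Subgroup (M × A) :=
    { carrier := {p | ∀ s, ρ p.1 (v s) = v (τ p.2 s)}
      one_mem' := by
        intro s
        show ρ 1 (v s) = v (τ 1 s)
        rw [hρ1, hτ1]
      mul_mem' := by
        intro p q hp hq s
        show ρ (p.1 * q.1) (v s) = v (τ (p.2 * q.2) s)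
        rw [hρm, hq s, hp, hτm]
      inv_mem' := by
        intro p hp s
        show ρ p.1⁻¹ (v s) = v (τ p.2⁻¹ s)
        have h1 : ρ p.1 (v (τ p.2⁻¹ s)) = v s := by
          rw [hp, ← hτm, mul_inv_cancel, hτ1]
        rw [← h1, ← hρm, inv_mul_cancel, hρ1] }
  have hK : ∀ p : M × A, p ∈ K ↔ ∀ s, ρ p.1 (v s) = v (τ p.2 s) := fun p => Iff.rfl
  let f1 : ↥K →* M := (MonoidHom.fst M A).comp K.subtype
  let f2 : ↥K →* A := (MonoidHom.snd M A).comp K.subtype
  have hf1 : Function.Injective f1 := by
    rw [← MonoidHom.ker_eq_bot_iff, eq_bot_iff]
    intro p hp
    have hp1 : p.1.1 = 1 := hp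
    have h2 : p.1.2 = 1 := by
      apply hA
      intro s
      have := (hK p.1).1 p.2 s
      rw [hp1, hρ1] at this
      exact this.symm
    rw [Subgroup.mem_bot]
    apply Subtype.ext
    exact Prod.ext hp1 h2
  have hf2 : Function.Surjective f2 := by
    rw [← MonoidHom.range_eq_top, eq_top_iff, ← hgens, Subgroup.closure_le]
    intro a ha
    obtain ⟨m, hm⟩ := hgen a ha
    exact ⟨⟨(m, a), (hK (m, a)).2 hm⟩, rfl⟩
  have c1 : Nat.card A ≤ Nat.card ↥K := Nat.card_le_card_of_surjective f2 hf2
  have c2 : Nat.card ↥K ≤ Nat.card M := Nat.card_le_card_of_injective f1 hf1
  have b1 : Function.Bijective f1 := hf1.bijective_of_nat_card_le (by omega)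
  have b2 : Function.Bijective f2 := hf2.bijective_of_nat_card_le (by omega)
  exact ⟨(MulEquiv.ofBijective f1 b1).symm.trans (MulEquiv.ofBijective f2 b2)⟩

/-- **The triple stabiliser is the group generated by the two permutations.** -/
theorem u35_iso : Nonempty (↥u35H ≃*
    ↥(Subgroup.closure ({u35s1, u35s2} : Set (Equiv.Perm (Fin 252))))) := by
  haveI := Cfsg.Agent.Helper92.finite_co0
  apply u35_iso_of_family (M := ↥u35H)
    (A := ↥(Subgroup.closure ({u35s1, u35s2} : Set (Equiv.Perm (Fin 252)))))
    (V := leechLattice) (S := Fin 252)
    (fun m w => m.1 • w) (fun w => one_smul _ w) (fun m m' w => mul_smul m.1 m'.1 w)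
    (fun a s => a.1 s) (fun s => rfl) (fun a a' s => rfl) u35v
    (by
      intro a h
      apply Subtype.ext
      apply Equiv.ext
      intro s
      exact u35_v_inj (h s))
    (Subtype.val ⁻¹' ({u35s1, u35s2} : Set (Equiv.Perm (Fin 252))))
    Subgroup.closure_closure_coe_preimage
    (by
      rintro a (ha | ha)
      · refine ⟨⟨semW u35G1, u35_g1_mem⟩, fun s => ?_⟩
        show semW u35G1 • u35v s = u35v (a.1 s)
        rw [ha]
        exact u35_g1_v s
      · refine ⟨⟨semW u35G2, u35_g2_mem⟩, fun s => ?_⟩
        show semW u35G2 • u35v s = u35v (a.1 s)
        rw [ha]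
        exact u35_g2_v s)
    (by rw [u35_card, u35_card_eq])

/-- **The triple stabiliser is `PSU(3, 5)`.** -/
theorem u35_stab_psu (F : Type) [Field F] [Fintype F] (hF : Fintype.card F = 25) :
    Nonempty (↥u35H ≃* Cfsg.PSU 3 F 5) := by
  obtain ⟨e⟩ := u35_iso
  obtain ⟨e'⟩ := u35_psu_iso' F hF
  exact ⟨e.trans e'⟩

end Cfsg.Agent.Helper26
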