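import Cfsg.Agent.Helper26.U35Chain

/-!
# Data for the subgroups of `PSU(3, 5)` of small index

`PSU(3, 5)` is the group generated by the permutations `u35s1`, `u35s2` of degree 252.  This file
holds an exact stabiliser chain of that group, the sifting procedure, and the machine-checked
facts used in `U35Max`.  Generated by `scratch/n7/m_emit.py`.
-/

set_option autoImplicit false

namespace Cfsg.Agent.Helper26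

/-- the map `(i, h) ↦ k i * h` of a stabiliser chain step is injective. -/
theorem u35m_chain_inj {α : Type*} (K : Subgroup (Equiv.Perm α)) (x : α)
    (n : ℕ) (k : Fin n → Equiv.Perm α) (hk : ∀ i, k i ∈ K)
    (hinj : Function.Injective fun i => k i x) :
    Function.Injective (fun p : Fin n × ↥(K ⊓ MulAction.stabilizer (Equiv.Perm α) x) =>
      (⟨k p.1 * p.2.1, K.mul_mem (hk p.1) (Subgroup.mem_inf.1 p.2.2).1⟩ : ↥K)) := by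
  rintro ⟨i, h⟩ ⟨j, h'⟩ e
  have e' : k i * h.1 = k j * h'.1 := congrArg Subtype.val e
  have hx : h.1 x = x := MulAction.mem_stabilizer_iff.1 (Subgroup.mem_inf.1 h.2).2
  have hx' : h'.1 x = x := MulAction.mem_stabilizer_iff.1 (Subgroup.mem_inf.1 h'.2).2
  have e2 : k i x = k j x := by
    have := congrArg (fun f : Equiv.Perm α => f x) e'
    simp only [Equiv.Perm.mul_apply, hx, hx'] at this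
    exact this
  have hij : i = j := hinj e2
  subst hij
  have e3 : h.1 = h'.1 := mul_left_cancel e'
  rw [Prod.mk.injEq]
  exact ⟨rfl, Subtype.ext e3⟩

/-- a tight step of a stabiliser chain: the listed images are the whole orbit. -/
theorem u35m_exact_step {α : Type*} (K : Subgroup (Equiv.Perm α)) [Finite K] (x : α)
    (n : ℕ) (k : Fin n → Equiv.Perm α) (hk : ∀ i, k i ∈ K)
    (hinj : Function.Injective fun i => k i x)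
    (hcard : Nat.card ↥K ≤ n * Nat.card ↥(K ⊓ MulAction.stabilizer (Equiv.Perm α) x)) :
    ∀ g ∈ K, ∃ i, k i x = g x := by
  have hb := (u35m_chain_inj K x n k hk hinj).bijective_of_nat_card_le
    (by rw [Nat.card_prod, Nat.card_fin]; exact hcard)
  intro g hg
  obtain ⟨⟨i, h⟩, e⟩ := hb.2 ⟨g, hg⟩
  refine ⟨i, ?_⟩
  have e' : k i * h.1 = g := congrArg Subtype.val e
  have hx : h.1 x = x := MulAction.mem_stabilizer_iff.1 (Subgroup.mem_inf.1 h.2).2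
  rw [← e', Equiv.Perm.mul_apply, hx]

/-- the inverse of a letter. -/
def u35minvL (c : ℕ) : ℕ := if c = 0 then 2 else if c = 1 then 3 else if c = 2 then 0 else 1

/-- the inverse of a word. -/
def u35minvW (l : List ℕ) : List ℕ := (l.map u35minvL).reverse

/-- a letter: `0`, `1` the generators, `2`, `3` their inverses. -/
def u35stp (c : ℕ) (x : Fin 252) : Fin 252 :=
  if c = 0 then u35f1 x else if c = 1 then u35f2 x else if c = 2 then u35f1i x else u35f2i x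

/-- the permutation of a letter. -/
def u35stpP (c : ℕ) : Equiv.Perm (Fin 252) :=
  if c = 0 then u35s1 else if c = 1 then u35s2 else if c = 2 then u35s1⁻¹ else u35s2⁻¹

theorem u35stpP_apply (c : ℕ) (x : Fin 252) : u35stpP c x = u35stp c x := by
  unfold u35stpP u35stp
  split_ifs <;> rfl

/-- the group generated by the two permutations. -/
abbrev u35mK : Subgroup (Equiv.Perm (Fin 252)) :=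
  Subgroup.closure ({u35s1, u35s2} : Set (Equiv.Perm (Fin 252)))

theorem u35stpP_mem (c : ℕ) : u35stpP c ∈ u35mK := by
  have h1 : u35s1 ∈ u35mK := Subgroup.subset_closure (by simp)
  have h2 : u35s2 ∈ u35mK := Subgroup.subset_closure (by simp)
  unfold u35stpP
  split_ifs
  · exact h1
  · exact h2
  · exact Subgroup.inv_mem _ h1
  · exact Subgroup.inv_mem _ h2

/-- evaluation of a word (the first letter acts first). -/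
def u35nev : List ℕ → Fin 252 → Fin 252
  | [], x => x
  | c :: l, x => u35nev l (u35stp c x)

/-- the permutation of a word. -/
def u35nevP : List ℕ → Equiv.Perm (Fin 252)
  | [] => 1
  | c :: l => u35nevP l * u35stpP c

theorem u35nevP_apply (l : List ℕ) (x : Fin 252) : u35nevP l x = u35nev l x := by
  induction l generalizing x with
  | nil => rfl
  | cons c l ih =>
    show u35nevP l (u35stpP c x) = u35nev l (u35stp c x)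
    rw [ih, u35stpP_apply]

theorem u35nevP_mem (l : List ℕ) : u35nevP l ∈ u35mK := by
  induction l with
  | nil => exact Subgroup.one_mem _
  | cons c l ih => exact Subgroup.mul_mem _ ih (u35stpP_mem c)

theorem u35stpP_inv (c : ℕ) : u35stpP (u35minvL c) = (u35stpP c)⁻¹ := by
  unfold u35minvL
  by_cases h0 : c = 0
  · subst h0; simp [u35stpP]
  by_cases h1 : c = 1
  · subst h1; simp [u35stpP]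
  by_cases h2 : c = 2
  · subst h2; simp [u35stpP]
  · simp [u35stpP, h0, h1, h2]

theorem u35nevP_append (a b : List ℕ) : u35nevP (a ++ b) = u35nevP b * u35nevP a := by
  induction a with
  | nil => exact (mul_one _).symm
  | cons c a ih =>
    show u35nevP (a ++ b) * u35stpP c = u35nevP b * (u35nevP a * u35stpP c)
    rw [ih, mul_assoc]

theorem u35nevP_inv (l : List ℕ) : u35nevP (u35minvW l) = (u35nevP l)⁻¹ := by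
  induction l with
  | nil => exact inv_one.symm
  | cons c l ih =>
    have e : u35minvW (c :: l) = u35minvW l ++ [u35minvL c] := by
      simp [u35minvW]
    rw [e, u35nevP_append]
    show (1 * u35stpP (u35minvL c)) * u35nevP (u35minvW l) = (u35nevP l * u35stpP c)⁻¹
    rw [ih, u35stpP_inv, one_mul, mul_inv_rev]

/-- the pointwise stabiliser of a list of points in a subgroup. -/
def u35mStab (K : Subgroup (Equiv.Perm (Fin 252))) (pre : List (Fin 252)) :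
    Subgroup (Equiv.Perm (Fin 252)) where
  carrier := {g | g ∈ K ∧ ∀ p ∈ pre, g p = p}
  mul_mem' := by
    rintro a b ⟨ha, ha'⟩ ⟨hb, hb'⟩
    exact ⟨Subgroup.mul_mem _ ha hb, fun p hp => by
      rw [Equiv.Perm.mul_apply, hb' p hp, ha' p hp]⟩
  one_mem' := ⟨Subgroup.one_mem _, fun _ _ => rfl⟩
  inv_mem' := by
    rintro a ⟨ha, ha'⟩
    exact ⟨Subgroup.inv_mem _ ha, fun p hp => by
      rw [Equiv.Perm.inv_eq_iff_eq]; exact (ha' p hp).symm⟩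

theorem u35mStab_mem {K : Subgroup (Equiv.Perm (Fin 252))} {pre : List (Fin 252)}
    {g : Equiv.Perm (Fin 252)} : g ∈ u35mStab K pre ↔ g ∈ K ∧ ∀ p ∈ pre, g p = p := Iff.rfl

theorem u35mStab_nil (K : Subgroup (Equiv.Perm (Fin 252))) : u35mStab K [] = K := by
  ext g
  rw [u35mStab_mem]
  exact ⟨fun h => h.1, fun h => ⟨h, fun p hp => absurd hp (List.not_mem_nil)⟩⟩

theorem u35mStab_cons (K : Subgroup (Equiv.Perm (Fin 252))) (b : Fin 252)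
    (pre : List (Fin 252)) :
    u35mStab K (b :: pre) = u35mStab K pre ⊓ MulAction.stabilizer (Equiv.Perm (Fin 252)) b := by
  ext g
  rw [Subgroup.mem_inf, MulAction.mem_stabilizer_iff, u35mStab_mem, u35mStab_mem]
  constructor
  · rintro ⟨h1, h2⟩
    exact ⟨⟨h1, fun p hp => h2 p (List.mem_cons_of_mem _ hp)⟩, h2 b List.mem_cons_self⟩
  · rintro ⟨⟨h1, h2⟩, h3⟩
    refine ⟨h1, fun p hp => ?_⟩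
    rcases List.mem_cons.1 hp with rfl | hp
    · exact h3
    · exact h2 p hp

/-- a boolean test that a list has no repetition. -/
def u35mnodup : List (Fin 252) → Bool
  | [] => true
  | a :: l => l.all (fun b => decide (b ≠ a)) && u35mnodup l

theorem u35mnodup_sound : ∀ l : List (Fin 252), u35mnodup l = true → l.Nodup
  | [], _ => List.nodup_nil
  | a :: l, h => by
    simp only [u35mnodup, Bool.and_eq_true, List.all_eq_true, decide_eq_true_eq] at h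
    exact List.nodup_cons.2 ⟨fun ha => h.1 a ha rfl, u35mnodup_sound l h.2⟩

/-- the computable test of a stabiliser chain (the words are translated by `tr`): the words
of a level fix the earlier base points, and move the base point of the level to distinct
points. -/
def u35mchk (tr : List ℕ → List ℕ) : List (Fin 252) → List (Fin 252 × List (List ℕ)) → Bool
  | _, [] => true
  | pre, (b, T) :: ch =>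
    T.all (fun w => pre.all (fun p => decide (u35nev (tr w) p = p))) &&
      u35mnodup (T.map (fun w => u35nev (tr w) b)) && u35mchk tr (b :: pre) ch

/-- the product of the sizes of the levels. -/
def u35mprod : List (Fin 252 × List (List ℕ)) → ℕ
  | [] => 1
  | (_, T) :: ch => T.length * u35mprod ch

theorem u35mchk_mem {K : Subgroup (Equiv.Perm (Fin 252))} {tr : List ℕ → List ℕ}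
    (hK : ∀ w, u35nevP (tr w) ∈ K) {pre : List (Fin 252)} {T : List (List ℕ)}
    (h1 : T.all (fun w => pre.all (fun p => decide (u35nev (tr w) p = p))) = true)
    (w : List ℕ) (hw : w ∈ T) : u35nevP (tr w) ∈ u35mStab K pre := by
  refine ⟨hK w, fun p hp => ?_⟩
  rw [u35nevP_apply]
  have := List.all_eq_true.1 (List.all_eq_true.1 h1 w hw) p hp
  exact of_decide_eq_true this

theorem u35mchk_inj {tr : List ℕ → List ℕ} {b : Fin 252} {T : List (List ℕ)}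
    (h2 : u35mnodup (T.map (fun w => u35nev (tr w) b)) = true) :
    Function.Injective fun i : Fin T.length => u35nevP (tr (T.get i)) b := by
  have hn := u35mnodup_sound _ h2
  intro i j e
  have e' : u35nev (tr (T.get i)) b = u35nev (tr (T.get j)) b := by
    have e0 : u35nevP (tr (T.get i)) b = u35nevP (tr (T.get j)) b := e
    rwa [u35nevP_apply, u35nevP_apply] at e0
  have e2 : T.get i = T.get j :=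
    List.inj_on_of_nodup_map hn (List.get_mem T i) (List.get_mem T j) e'
  exact (List.nodup_iff_injective_get.1 (List.Nodup.of_map _ hn)) e2

/-- the lower bound given by a chain. -/
theorem u35m_chain_ge (K : Subgroup (Equiv.Perm (Fin 252))) (tr : List ℕ → List ℕ)
    (hK : ∀ w, u35nevP (tr w) ∈ K) :
    ∀ (ch : List (Fin 252 × List (List ℕ))) (pre : List (Fin 252)),
    u35mchk tr pre ch = true → u35mprod ch ≤ Nat.card ↥(u35mStab K pre)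
  | [], pre, _ => Nat.card_pos
  | (b, T) :: ch, pre, h => by
    simp only [u35mchk, Bool.and_eq_true] at h
    obtain ⟨⟨h1, h2⟩, h3⟩ := h
    have ih := u35m_chain_ge K tr hK ch (b :: pre) h3
    rw [u35mStab_cons] at ih
    have hs := u35_chain_step (u35mStab K pre) b T.length (fun i => u35nevP (tr (T.get i)))
      (fun i => u35mchk_mem hK h1 _ (List.get_mem T i)) (u35mchk_inj h2)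
    calc u35mprod ((b, T) :: ch) = T.length * u35mprod ch := rfl
      _ ≤ T.length *
          Nat.card ↥(u35mStab K pre ⊓ MulAction.stabilizer (Equiv.Perm (Fin 252)) b) :=
        Nat.mul_le_mul_left _ ih
      _ ≤ Nat.card ↥(u35mStab K pre) := hs

/-- an exact stabiliser chain of the subgroup `K`. -/
def u35mExact : Subgroup (Equiv.Perm (Fin 252)) → List (Fin 252 × List (List ℕ)) → Prop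
  | K, [] => ∀ g ∈ K, g = 1
  | K, (b, T) :: ch => (∀ w ∈ T, u35nevP w ∈ K) ∧ (∀ g ∈ K, ∃ w ∈ T, u35nev w b = g b) ∧
      u35mExact (K ⊓ MulAction.stabilizer (Equiv.Perm (Fin 252)) b) ch

/-- a valid chain whose product is the order of the group is exact. -/
theorem u35m_chain_exact : ∀ (ch : List (Fin 252 × List (List ℕ))) (pre : List (Fin 252)),
    u35mchk id pre ch = true → Nat.card ↥(u35mStab u35mK pre) ≤ u35mprod ch →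
    u35mExact (u35mStab u35mK pre) ch
  | [], pre, _, hc => by
    intro g hg
    have hc' : Nat.card ↥(u35mStab u35mK pre) ≤ 1 := hc
    have hs : Subsingleton ↥(u35mStab u35mK pre) := Finite.card_le_one_iff_subsingleton.1 hc'
    exact congrArg Subtype.val (Subsingleton.elim (⟨g, hg⟩ : ↥(u35mStab u35mK pre)) 1)
  | (b, T) :: ch, pre, h, hc => by
    have hK : ∀ w, u35nevP (id w) ∈ u35mK := fun w => u35nevP_mem w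
    have ge := u35m_chain_ge u35mK id hK ch (b :: pre) (by
      simp only [u35mchk, Bool.and_eq_true] at h; exact h.2)
    simp only [u35mchk, Bool.and_eq_true] at h
    obtain ⟨⟨h1, h2⟩, h3⟩ := h
    rw [u35mStab_cons] at ge
    have hmem : ∀ i : Fin T.length, u35nevP (T.get i) ∈ u35mStab u35mK pre :=
      fun i => u35mchk_mem hK h1 _ (List.get_mem T i)
    have hinj : Function.Injective fun i : Fin T.length => u35nevP (T.get i) b :=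
      u35mchk_inj (tr := id) h2
    have hs := u35_chain_step (u35mStab u35mK pre) b T.length (fun i => u35nevP (T.get i))
      hmem hinj
    have hc' : Nat.card ↥(u35mStab u35mK pre) ≤ T.length * u35mprod ch := hc
    have hpos : 0 < T.length := by
      rcases Nat.eq_zero_or_pos T.length with h0 | h0
      · rw [h0, Nat.zero_mul] at hc'
        have := Nat.card_pos (α := ↥(u35mStab u35mK pre))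
        omega
      · exact h0
    have hle : Nat.card ↥(u35mStab u35mK pre ⊓
        MulAction.stabilizer (Equiv.Perm (Fin 252)) b) ≤ u35mprod ch :=
      Nat.le_of_mul_le_mul_left (hs.trans hc') hpos
    have heq : Nat.card ↥(u35mStab u35mK pre) ≤ T.length *
        Nat.card ↥(u35mStab u35mK pre ⊓ MulAction.stabilizer (Equiv.Perm (Fin 252)) b) :=
      hc'.trans (Nat.mul_le_mul_left _ ge)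
    refine ⟨fun w hw => u35mchk_mem hK h1 w hw, ?_, ?_⟩
    · intro g hg
      obtain ⟨i, hi⟩ := u35m_exact_step (u35mStab u35mK pre) b T.length
        (fun i => u35nevP (T.get i)) hmem hinj heq g hg
      exact ⟨T.get i, List.get_mem T i, by rw [← u35nevP_apply]; exact hi⟩
    · have := u35m_chain_exact ch (b :: pre) h3 (by rw [u35mStab_cons]; exact hle)
      rwa [u35mStab_cons] at this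

/-- in an exact chain, an element fixing the base is trivial. -/
theorem u35mExact_trivial : ∀ (ch : List (Fin 252 × List (List ℕ)))
    (K : Subgroup (Equiv.Perm (Fin 252))), u35mExact K ch →
    ∀ g ∈ K, (∀ p ∈ ch, g p.1 = p.1) → g = 1
  | [], _, hE, g, hg, _ => hE g hg
  | (b, T) :: ch, _, hE, g, hg, hfix =>
    u35mExact_trivial ch _ hE.2.2 g
      (Subgroup.mem_inf.2 ⟨hg, MulAction.mem_stabilizer_iff.2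
        (hfix (b, T) List.mem_cons_self)⟩)
      (fun p hp => hfix p (List.mem_cons_of_mem _ hp))

/-- induction along an exact chain: a multiplicative property of the words of the chain holds
for every element of the group. -/
theorem u35mExact_induction (P : Equiv.Perm (Fin 252) → Prop) (h1 : P 1)
    (hmul : ∀ a b, P a → P b → P (a * b)) :
    ∀ (ch : List (Fin 252 × List (List ℕ))) (K : Subgroup (Equiv.Perm (Fin 252))),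
    u35mExact K ch → (∀ p ∈ ch, ∀ w ∈ p.2, P (u35nevP w)) → ∀ g ∈ K, P g
  | [], _, hE, _, g, hg => by rw [hE g hg]; exact h1
  | (b, T) :: ch, K, hE, hw, g, hg => by
    obtain ⟨e1, e2, e3⟩ := hE
    obtain ⟨w, hwT, hwb⟩ := e2 g hg
    have hg' : (u35nevP w)⁻¹ * g ∈ K ⊓ MulAction.stabilizer (Equiv.Perm (Fin 252)) b := by
      refine Subgroup.mem_inf.2 ⟨Subgroup.mul_mem _ (Subgroup.inv_mem _ (e1 w hwT)) hg,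
        MulAction.mem_stabilizer_iff.2 ?_⟩
      show ((u35nevP w)⁻¹ * g) b = b
      rw [Equiv.Perm.mul_apply, Equiv.Perm.inv_eq_iff_eq, u35nevP_apply, hwb]
    have ih := u35mExact_induction P h1 hmul ch _ e3
      (fun p hp => hw p (List.mem_cons_of_mem _ hp)) _ hg'
    have : g = u35nevP w * ((u35nevP w)⁻¹ * g) := by rw [mul_inv_cancel_left]
    rw [this]
    exact hmul _ _ (hw (b, T) List.mem_cons_self w hwT) ih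

/-- sifting a list of prescribed images of the base points through a chain. -/
def u35msift : List (Fin 252 × List (List ℕ)) → List (Fin 252) → Bool
  | [], _ => true
  | _ :: _, [] => false
  | (b, T) :: ch, y :: ys =>
    match T.find? (fun w => decide (u35nev w b = y)) with
    | none => false
    | some w => u35msift ch (ys.map (u35nev (u35minvW w)))

/-- the images of the base under an element of the group sift through an exact chain. -/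
theorem u35msift_sound : ∀ (ch : List (Fin 252 × List (List ℕ)))
    (K : Subgroup (Equiv.Perm (Fin 252))), u35mExact K ch →
    ∀ g ∈ K, u35msift ch (ch.map (fun p => g p.1)) = true
  | [], _, _, _, _ => rfl
  | (b, T) :: ch, K, hE, g, hg => by
    obtain ⟨h1, h2, h3⟩ := hE
    obtain ⟨w, hw, hwb⟩ := h2 g hg
    show (match T.find? (fun w => decide (u35nev w b = g b)) with
      | none => false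
      | some w => u35msift ch ((ch.map (fun p => g p.1)).map (u35nev (u35minvW w)))) = true
    cases hf : T.find? (fun w => decide (u35nev w b = g b)) with
    | none =>
      exfalso
      have := List.find?_eq_none.1 hf w hw
      exact this (decide_eq_true hwb)
    | some w' =>
      have hw'T : w' ∈ T := List.mem_of_find?_eq_some hf
      have hw'b : u35nev w' b = g b := by
        have h0 := List.find?_some hf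
        exact of_decide_eq_true h0
      have hg' : (u35nevP w')⁻¹ * g ∈ K ⊓ MulAction.stabilizer (Equiv.Perm (Fin 252)) b := by
        refine Subgroup.mem_inf.2 ⟨Subgroup.mul_mem _ (Subgroup.inv_mem _ (h1 w' hw'T)) hg,
          MulAction.mem_stabilizer_iff.2 ?_⟩
        show ((u35nevP w')⁻¹ * g) b = b
        rw [Equiv.Perm.mul_apply, Equiv.Perm.inv_eq_iff_eq, u35nevP_apply, hw'b]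
      have e : (ch.map (fun p => g p.1)).map (u35nev (u35minvW w')) =
          ch.map (fun p => ((u35nevP w')⁻¹ * g) p.1) := by
        rw [List.map_map]
        refine List.map_congr_left fun p _ => ?_
        show u35nev (u35minvW w') (g p.1) = ((u35nevP w')⁻¹ * g) p.1
        rw [← u35nevP_apply, u35nevP_inv, Equiv.Perm.mul_apply]
      show u35msift ch ((ch.map (fun p => g p.1)).map (u35nev (u35minvW w'))) = true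
      rw [e]
      exact u35msift_sound ch _ h3 _ hg'

/-- a word in letters standing for words. -/
def u35mflat (f : ℕ → List ℕ) (w : List ℕ) : List ℕ := w.flatMap f

theorem u35mflat_mem (K : Subgroup (Equiv.Perm (Fin 252))) (f : ℕ → List ℕ)
    (hf : ∀ c, u35nevP (f c) ∈ K) (w : List ℕ) : u35nevP (u35mflat f w) ∈ K := by
  induction w with
  | nil => exact Subgroup.one_mem _
  | cons c w ih =>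
    have e : u35mflat f (c :: w) = f c ++ u35mflat f w := by simp [u35mflat]
    rw [e, u35nevP_append]
    exact Subgroup.mul_mem _ ih (hf c)


/-- words of level 0 of the chain (base point `0`, 252 images). -/
def u35mW0 : List (List ℕ) := [
  [],
  [1, 1, 0, 1, 1, 1, 0, 0],
  [0, 1, 1, 1, 0, 0],
  [1, 0, 0, 0, 1, 0, 0],
  [0, 1, 1, 1, 0, 0, 1, 1, 0],
  [1, 0, 1, 0, 0, 0, 0, 1],
  [0, 0, 1, 1, 1, 0, 1],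
  [1, 1, 0, 0, 0, 0, 1, 0, 1],
  [0, 1, 0, 0, 1, 1, 0],
  [0, 1, 0, 1],
  [1, 1, 0, 1, 0, 1, 0],
  [1, 1, 1, 0, 1],
  [1, 1, 1],
  [1, 0, 1, 0, 0, 1, 0],
  [0, 1, 0, 0, 0, 1, 1],
  [0, 0, 0, 0, 1, 0, 0, 1, 1, 1],
  [0, 1, 1, 1, 0, 1, 0, 0],
  [0, 0, 0, 0, 0, 1, 0],
  [1, 0, 0, 1, 1],
  [0, 1, 1, 0, 1],
  [1, 0, 0, 1, 1, 0, 1, 1, 0],
  [0, 0, 0, 0, 0, 0, 1, 1],
  [0, 1, 0, 0, 0],
  [0, 0, 0, 0, 1, 0, 0, 1],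
  [0, 0, 1, 1, 0, 1, 1],
  [0, 1, 0, 0, 0, 1, 0],
  [0],
  [1, 0, 0, 0, 1, 1, 1],
  [1, 1, 1, 1, 0, 1, 1, 1, 0],
  [0, 0, 0, 1, 0, 0, 1, 1],
  [1, 0, 0, 1, 1, 0, 0, 0],
  [0, 1, 0, 0, 1, 0, 0],
  [0, 1, 0, 0, 1, 1, 1, 1],
  [1, 1, 1, 1, 0, 0],
  [1, 0, 0, 0],
  [0, 1, 1],
  [0, 1, 0, 0, 1, 1, 1],
  [1, 0, 0, 1, 1, 0, 1, 1],
  [1, 0, 1, 1, 0, 0, 0, 1, 1, 0],
  [1, 0, 1, 1, 0, 0, 1],
  [1, 0, 1, 0, 0, 1],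
  [0, 0, 0, 1, 0, 0, 0],
  [0, 0, 0, 0, 0, 1],
  [0, 1, 1, 1, 0, 1, 0],
  [1, 0, 1, 1, 0, 1, 0, 1],
  [0, 0, 0, 0, 1, 1, 0],
  [1, 1, 1, 1, 0, 0, 1],
  [0, 1, 0, 0],
  [1, 0, 1, 0, 0, 0, 1, 0, 1],
  [0, 0, 0, 1, 0, 0, 1],
  [0, 0, 0, 0, 0, 1, 0, 0, 0, 0],
  [0, 0, 0, 0, 0, 0, 1, 0, 1, 1],
  [1, 1, 1, 1, 0],
  [1, 0, 1, 1, 0, 0, 0, 1],
  [1, 0, 1, 0, 0, 1, 1, 0],
  [0, 0, 0, 1, 0, 0, 0, 1, 0],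
  [0, 0, 0, 0, 0, 1, 1],
  [1, 1, 0],
  [1, 1, 1, 1, 0, 1, 1, 1, 1],
  [1, 0, 1, 1, 0, 0, 0],
  [1, 0, 1, 1, 0, 0, 1, 1, 0],
  [1, 1, 1, 1, 0, 1, 1, 0, 0],
  [1, 0, 1, 1, 0, 0, 0, 0],
  [1, 0, 1, 1, 0, 0, 1, 1, 0, 1],
  [1, 1, 0, 1, 1, 1],
  [0, 0, 0, 0, 0],
  [0, 1, 1, 1],
  [1, 0, 0, 0, 1],
  [0, 1, 1, 0, 0, 1, 0, 1],
  [1, 1, 1, 0, 1, 0],
  [0, 1, 0, 0, 1, 1, 0, 0, 0],
  [0, 1, 0, 1, 0, 0],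
  [0, 0, 1, 1, 1, 0],
  [1, 1, 0, 0, 0, 0, 1, 0],
  [1, 1, 0, 1, 1, 0, 0, 0],
  [1, 0, 1, 0, 0, 0, 0],
  [0, 1, 0],
  [0, 0, 0, 0, 0, 1, 1, 0, 1],
  [1, 0, 1, 1, 0, 1],
  [1, 1, 1, 1, 0, 0, 0],
  [1, 1, 1, 0],
  [0, 1, 0, 0, 1, 1, 0, 1],
  [1, 0, 1, 0, 0, 1, 0, 1],
  [1, 1, 1, 1],
  [0, 1, 1, 1, 0, 1, 1],
  [1, 1, 0, 1, 0, 1],
  [0, 1, 1, 1, 0, 0, 0],
  [1, 0, 0, 0, 1, 0, 0, 0],
  [1, 0, 1, 0, 0, 1, 1],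
  [0, 0, 0, 1, 0, 0, 0, 1],
  [0, 1, 0, 1, 0, 0, 1, 1],
  [0, 1, 0, 0, 0, 1, 0, 1, 0, 1],
  [1, 1, 0, 1, 1],
  [1, 0, 1, 0],
  [1, 0, 0, 0, 1, 1, 0, 1],
  [0, 0, 0, 0, 1, 1],
  [1, 1, 0, 0],
  [0, 0, 0, 0, 0, 1, 1, 0],
  [0, 0, 1, 1, 1, 1],
  [1, 1, 0, 0, 0, 0, 1, 1],
  [0, 1, 1, 0, 0, 1, 0],
  [0, 0, 0, 1, 0, 1],
  [0, 0, 0, 1, 0, 0, 1, 0],
  [1, 0, 1, 0, 0, 0, 1, 0, 1, 0],
  [1, 1, 1, 1, 0, 1, 1, 1],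
  [1, 0, 1, 0, 0, 0, 0, 1, 0],
  [0, 1, 1, 0, 1, 1, 1],
  [1, 1, 1, 0, 0, 1],
  [0, 1, 1, 0, 0, 1, 0, 0],
  [0, 0, 0, 1, 0, 1, 0],
  [0, 1, 1, 1, 0],
  [1, 0, 0, 0, 1, 0],
  [0, 0, 0, 0, 0, 0, 1, 0, 1],
  [1, 1, 0, 1, 1, 1, 0, 1, 0, 1],
  [0, 1, 1, 1, 0, 0, 0, 0],
  [0, 0, 0, 0, 0, 1, 0, 1, 1],
  [1, 1, 1, 1, 0, 1],
  [1, 0, 1, 1, 0, 0, 0, 1, 1],
  [0, 0, 0, 0, 1, 0, 0, 0],
  [1, 1, 0, 1, 0, 1, 1],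
  [1, 1, 0, 0, 0, 0, 0],
  [0, 0, 1, 1, 0],
  [1, 1, 1, 1, 0, 0, 0, 0],
  [1, 0, 1, 1, 0, 1, 0],
  [0, 0, 1, 1, 0, 0],
  [0, 0, 1],
  [0, 0, 0, 1],
  [0, 1, 1, 0, 1, 1, 0],
  [0, 1, 0, 1, 0, 0, 1],
  [0, 1, 0, 0, 0, 1, 0, 1, 0],
  [1, 0, 0, 1, 1, 0],
  [0, 1, 0, 0, 1],
  [1, 0, 1, 0, 0, 0, 1],
  [0, 0, 0, 1, 0],
  [1, 0, 1, 0, 0, 0],
  [1, 1, 0, 1, 1, 0, 0],
  [1, 0, 0, 1],
  [0, 1, 1, 0],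
  [0, 1, 0, 0, 0, 1, 1, 0],
  [0, 0, 0, 0, 0, 0, 1, 0, 1, 1, 1],
  [0, 1, 0, 1, 0, 0, 1, 1, 1],
  [0, 1, 0, 0, 1, 0, 0, 0],
  [0, 0, 0, 0],
  [0, 1, 1, 0, 1, 1, 0, 1],
  [0, 1, 0, 0, 1, 0, 0, 1],
  [0, 0, 0, 0, 1, 0],
  [0, 0, 0, 0, 0, 0, 1, 0],
  [1, 1, 0, 1, 1, 1, 0, 1, 0],
  [0, 1, 0, 0, 1, 0],
  [1, 0, 0, 1, 1, 0, 0],
  [1, 0, 0, 0, 1, 1],
  [0, 1, 1, 1, 1],
  [1, 0, 0, 0, 1, 1, 0, 1, 1],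
  [0, 0, 0],
  [1, 1, 0, 1, 1, 0],
  [1, 0, 1, 0, 0],
  [0, 0, 1, 1, 1, 0, 1, 0, 0],
  [1, 0, 1, 1, 0],
  [1, 1, 0, 0, 0, 0, 1],
  [0, 0, 1, 1, 1],
  [0, 0, 0, 0, 0, 1, 0, 1],
  [0, 1, 1, 1, 0, 1, 0, 0, 1],
  [1, 0, 0, 1, 1, 0, 1],
  [0, 1, 0, 0, 1, 1],
  [0, 0, 1, 1, 0, 1],
  [0, 1, 0, 0, 0, 0, 0],
  [1, 0, 1, 0, 0, 0, 0, 0],
  [0, 0, 0, 0, 1, 1, 0, 1],
  [0, 1, 0, 0, 0, 0, 0, 0],
  [0, 0, 1, 1, 0, 1, 0],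
  [1, 1],
  [0, 0, 1, 1, 0, 0, 0],
  [0, 1, 1, 1, 0, 1],
  [1, 1, 0, 1, 0],
  [0, 0, 0, 0, 0, 1, 0, 0, 1],
  [0, 1, 1, 1, 0, 1, 0, 0, 0, 1],
  [1, 0, 1, 1, 0, 0, 0, 1, 1, 1],
  [1, 1, 1, 1, 0, 1, 1],
  [0, 1, 0, 0, 0, 1, 0, 1],
  [0, 0, 1, 1, 0, 1, 1, 1],
  [0, 1, 1, 0, 0],
  [1, 0, 0, 1, 0],
  [0, 1, 0, 0, 0, 0, 1, 0],
  [0, 1, 0, 0, 0, 1, 0, 1, 1],
  [1, 0, 0, 1, 0, 0],
  [0, 1, 1, 0, 0, 0],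
  [0, 0, 0, 0, 1],
  [1, 0, 0, 0, 1, 1, 0],
  [1, 1, 1, 1, 0, 1, 1, 0],
  [1, 0, 1, 1, 0, 0, 1, 1],
  [0, 1, 1, 0, 1, 1, 1, 1],
  [1, 0, 0],
  [1, 0, 0, 1, 0, 1],
  [0, 1, 1, 0, 0, 1],
  [1, 0, 1],
  [1, 0, 0, 1, 0, 1, 1, 1],
  [0, 1, 0, 0, 0, 1, 1, 0, 1],
  [0, 1, 0, 1, 0, 0, 1, 0],
  [0, 1, 1, 1, 0, 1, 0, 0, 0],
  [0, 0, 0, 0, 0, 1, 0, 0],
  [0, 0, 1, 1, 0, 1, 0, 0],
  [0, 1],
  [1, 1, 0, 0, 0],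
  [0, 0, 0, 0, 0, 1, 1, 0, 0],
  [1, 0, 1, 1, 0, 1, 0, 0],
  [0, 1, 0, 0, 0, 0, 1],
  [0, 1, 1, 0, 1, 1],
  [1, 1, 1, 0, 0],
  [1, 0],
  [1, 0, 0, 1, 0, 1, 1],
  [1, 1, 0, 1, 1, 1, 0, 1],
  [0, 0, 0, 0, 0, 0, 1],
  [0, 0, 0, 1, 0, 0],
  [1, 0, 1, 0, 0, 0, 1, 0],
  [1, 0, 1, 1, 0, 0],
  [0, 0, 1, 1, 1, 0, 1, 0, 0, 0],
  [0, 1, 1, 0, 0, 0, 0],
  [1],
  [0, 1, 0, 0, 0, 0],
  [0, 0, 0, 0, 1, 0, 0, 1, 0],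
  [0, 0],
  [1, 0, 0, 0, 1, 1, 1, 0],
  [0, 0, 1, 1],
  [1, 1, 0, 0, 0, 0],
  [1, 1, 0, 1, 1, 1, 0],
  [0, 0, 0, 0, 0, 0],
  [0, 1, 1, 0, 1, 1, 1, 0],
  [0, 1, 1, 1, 0, 0, 1],
  [0, 1, 0, 0, 0, 1, 1, 0, 0, 1],
  [1, 0, 1, 1, 0, 0, 1, 1, 1, 1],
  [0, 0, 1, 1, 1, 0, 1, 0],
  [1, 0, 1, 1],
  [0, 0, 0, 0, 0, 1, 1, 1],
  [1, 1, 0, 1],
  [0, 0, 0, 0, 0, 1, 0, 0, 0],
  [0, 1, 0, 0, 1, 0, 0, 0, 1],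
  [0, 0, 0, 0, 1, 0, 0],
  [0, 0, 0, 1, 0, 1, 0, 1],
  [0, 0, 0, 0, 1, 0, 0, 1, 1],
  [0, 1, 0, 0, 0, 1],
  [1, 0, 1, 1, 0, 0, 1, 1, 1],
  [0, 1, 0, 0, 0, 1, 1, 0, 0],
  [0, 1, 0, 1, 0, 0, 1, 0, 0],
  [0, 1, 0, 0, 0, 1, 1, 0, 1, 0],
  [0, 1, 0, 0, 1, 0, 1],
  [1, 0, 0, 1, 1, 0, 0, 1],
  [0, 0, 1, 1, 1, 1, 0],
  [0, 1, 1, 0, 0, 1, 0, 1, 1],
  [0, 1, 0, 0, 1, 1, 0, 0],
  [0, 1, 0, 1, 0],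
  [0, 1, 1, 1, 0, 0, 1, 1],
  [0, 1, 1, 0, 1, 1, 1, 0, 1]]

/-- words of level 1 of the chain (base point `26`, 125 images). -/
def u35mW1 : List (List ℕ) := [
  [0, 3, 0, 3, 0, 0, 0, 2, 3, 0, 0, 1, 1, 1, 2, 3, 2, 2, 2, 3, 0, 0, 1, 1, 1, 2, 3, 2, 2],
  [0, 3, 0, 3, 0, 0, 0, 2, 3, 0, 0, 1, 1, 1, 2, 3, 2, 2, 2, 3, 0, 0, 1, 0, 3, 0, 3, 0, 0, 0],
  [0, 3, 0, 3, 0, 0, 0, 0, 3, 0, 3, 0, 0, 0, 0, 3, 0, 3, 0, 0, 0, 2, 3, 0, 0, 1],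
  [2, 3, 0, 0, 1, 2, 3, 0, 0, 1, 0, 3, 0, 3, 0, 0, 0, 1, 1, 2, 3, 2, 2],
  [2, 3, 0, 0, 1, 0, 3, 0, 3, 0, 0, 0, 2, 3, 0, 0, 1, 2, 3, 0, 0, 1],
  [2, 3, 0, 0, 1, 0, 3, 0, 3, 0, 0, 0, 0, 3, 0, 3, 0, 0, 0, 2, 3, 0, 0, 1, 1, 1, 2, 3, 2, 2],
  [0, 3, 0, 3, 0, 0, 0, 2, 3, 0, 0, 1, 2, 3, 0, 0, 1],
  [0, 3, 0, 3, 0, 0, 0, 0, 3, 0, 3, 0, 0, 0, 0, 3, 0, 3, 0, 0, 0, 2, 3, 0, 0, 1, 0, 3, 0, 3, 0, 0, 0],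
  [2, 3, 0, 0, 1, 0, 3, 0, 3, 0, 0, 0, 2, 3, 0, 0, 1, 2, 3, 0, 0, 1, 0, 3, 0, 3, 0, 0, 0, 0, 3, 0, 3, 0, 0, 0],
  [2, 3, 0, 0, 1, 1, 1, 2, 3, 2, 2, 0, 3, 0, 3, 0, 0, 0, 2, 3, 0, 0, 1, 2, 3, 0, 0, 1],
  [2, 3, 0, 0, 1, 1, 1, 2, 3, 2, 2, 0, 3, 0, 3, 0, 0, 0, 2, 3, 0, 0, 1, 0, 3, 0, 3, 0, 0, 0],
  [2, 3, 0, 0, 1, 1, 1, 2, 3, 2, 2],
  [],
  [0, 3, 0, 3, 0, 0, 0, 0, 3, 0, 3, 0, 0, 0, 0, 3, 0, 3, 0, 0, 0, 1, 1, 2, 3, 2, 2],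
  [1, 1, 2, 3, 2, 2, 0, 3, 0, 3, 0, 0, 0, 2, 3, 0, 0, 1, 2, 3, 0, 0, 1, 0, 3, 0, 3, 0, 0, 0],
  [2, 3, 0, 0, 1, 2, 3, 0, 0, 1, 0, 3, 0, 3, 0, 0, 0, 2, 3, 0, 0, 1, 2, 3, 0, 0, 1, 2, 3, 0, 0, 1],
  [2, 3, 0, 0, 1, 1, 1, 2, 3, 2, 2, 0, 3, 0, 3, 0, 0, 0, 2, 3, 0, 0, 1],
  [2, 3, 0, 0, 1, 2, 3, 0, 0, 1, 0, 3, 0, 3, 0, 0, 0, 1, 1, 2, 3, 2, 2, 0, 3, 0, 3, 0, 0, 0, 1, 1, 2, 3, 2, 2],
  [0, 3, 0, 3, 0, 0, 0, 2, 3, 0, 0, 1, 2, 3, 0, 0, 1, 2, 3, 0, 0, 1, 1, 1, 2, 3, 2, 2],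
  [0, 3, 0, 3, 0, 0, 0, 0, 3, 0, 3, 0, 0, 0, 2, 3, 0, 0, 1],
  [0, 3, 0, 3, 0, 0, 0, 2, 3, 0, 0, 1, 0, 3, 0, 3, 0, 0, 0, 0, 3, 0, 3, 0, 0, 0, 0, 3, 0, 3, 0, 0, 0],
  [2, 3, 0, 0, 1, 1, 1, 2, 3, 2, 2, 0, 3, 0, 3, 0, 0, 0, 2, 3, 0, 0, 1, 0, 3, 0, 3, 0, 0, 0, 2, 3, 0, 0, 1],
  [2, 3, 0, 0, 1],
  [0, 3, 0, 3, 0, 0, 0, 2, 3, 0, 0, 1, 2, 3, 0, 0, 1, 0, 3, 0, 3, 0, 0, 0, 0, 3, 0, 3, 0, 0, 0, 1, 1, 2, 3, 2, 2],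
  [2, 3, 0, 0, 1, 2, 3, 0, 0, 1, 0, 3, 0, 3, 0, 0, 0],
  [1, 1, 2, 3, 2, 2, 0, 3, 0, 3, 0, 0, 0, 0, 3, 0, 3, 0, 0, 0, 0, 3, 0, 3, 0, 0, 0],
  [2, 3, 0, 0, 1, 0, 3, 0, 3, 0, 0, 0, 2, 3, 0, 0, 1],
  [0, 3, 0, 3, 0, 0, 0, 1, 1, 2, 3, 2, 2, 2, 3, 0, 0, 1, 1, 1, 2, 3, 2, 2, 2, 3, 0, 0, 1],
  [0, 3, 0, 3, 0, 0, 0, 2, 3, 0, 0, 1, 0, 3, 0, 3, 0, 0, 0, 0, 3, 0, 3, 0, 0, 0, 0, 3, 0, 3, 0, 0, 0, 1, 1, 2, 3, 2, 2],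
  [1, 1, 2, 3, 2, 2, 0, 3, 0, 3, 0, 0, 0, 2, 3, 0, 0, 1, 0, 3, 0, 3, 0, 0, 0, 2, 3, 0, 0, 1],
  [0, 3, 0, 3, 0, 0, 0, 0, 3, 0, 3, 0, 0, 0, 0, 3, 0, 3, 0, 0, 0, 1, 1, 2, 3, 2, 2, 2, 3, 0, 0, 1],
  [0, 3, 0, 3, 0, 0, 0, 1, 1, 2, 3, 2, 2, 0, 3, 0, 3, 0, 0, 0, 2, 3, 0, 0, 1, 0, 3, 0, 3, 0, 0, 0, 0, 3, 0, 3, 0, 0, 0],
  [1, 1, 2, 3, 2, 2, 0, 3, 0, 3, 0, 0, 0],
  [2, 3, 0, 0, 1, 0, 3, 0, 3, 0, 0, 0, 0, 3, 0, 3, 0, 0, 0, 0, 3, 0, 3, 0, 0, 0],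
  [0, 3, 0, 3, 0, 0, 0, 0, 3, 0, 3, 0, 0, 0, 0, 3, 0, 3, 0, 0, 0],
  [1, 1, 2, 3, 2, 2, 0, 3, 0, 3, 0, 0, 0, 0, 3, 0, 3, 0, 0, 0, 2, 3, 0, 0, 1, 2, 3, 0, 0, 1],
  [0, 3, 0, 3, 0, 0, 0, 2, 3, 0, 0, 1, 0, 3, 0, 3, 0, 0, 0, 2, 3, 0, 0, 1, 0, 3, 0, 3, 0, 0, 0],
  [0, 3, 0, 3, 0, 0, 0, 2, 3, 0, 0, 1, 2, 3, 0, 0, 1, 2, 3, 0, 0, 1, 1, 1, 2, 3, 2, 2, 0, 3, 0, 3, 0, 0, 0],
  [2, 3, 0, 0, 1, 0, 3, 0, 3, 0, 0, 0, 0, 3, 0, 3, 0, 0, 0, 2, 3, 0, 0, 1],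
  [2, 3, 0, 0, 1, 2, 3, 0, 0, 1, 0, 3, 0, 3, 0, 0, 0, 2, 3, 0, 0, 1, 2, 3, 0, 0, 1, 0, 3, 0, 3, 0, 0, 0, 0, 3, 0, 3, 0, 0, 0],
  [1, 1, 2, 3, 2, 2, 0, 3, 0, 3, 0, 0, 0, 2, 3, 0, 0, 1, 1, 1, 2, 3, 2, 2, 2, 3, 0, 0, 1, 1, 1, 2, 3, 2, 2],
  [1, 1, 2, 3, 2, 2, 0, 3, 0, 3, 0, 0, 0, 2, 3, 0, 0, 1, 2, 3, 0, 0, 1],
  [1, 1, 2, 3, 2, 2, 0, 3, 0, 3, 0, 0, 0, 0, 3, 0, 3, 0, 0, 0, 0, 3, 0, 3, 0, 0, 0, 1, 1, 2, 3, 2, 2],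
  [0, 3, 0, 3, 0, 0, 0, 1, 1, 2, 3, 2, 2, 0, 3, 0, 3, 0, 0, 0],
  [2, 3, 0, 0, 1, 0, 3, 0, 3, 0, 0, 0, 2, 3, 0, 0, 1, 2, 3, 0, 0, 1, 0, 3, 0, 3, 0, 0, 0],
  [1, 1, 2, 3, 2, 2, 0, 3, 0, 3, 0, 0, 0, 2, 3, 0, 0, 1, 2, 3, 0, 0, 1, 2, 3, 0, 0, 1],
  [0, 3, 0, 3, 0, 0, 0, 1, 1, 2, 3, 2, 2, 2, 3, 0, 0, 1, 1, 1, 2, 3, 2, 2, 0, 3, 0, 3, 0, 0, 0],
  [2, 3, 0, 0, 1, 0, 3, 0, 3, 0, 0, 0, 2, 3, 0, 0, 1, 0, 3, 0, 3, 0, 0, 0, 2, 3, 0, 0, 1],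
  [2, 3, 0, 0, 1, 0, 3, 0, 3, 0, 0, 0, 2, 3, 0, 0, 1, 1, 1, 2, 3, 2, 2, 2, 3, 0, 0, 1, 1, 1, 2, 3, 2, 2],
  [0, 3, 0, 3, 0, 0, 0, 2, 3, 0, 0, 1, 0, 3, 0, 3, 0, 0, 0, 0, 3, 0, 3, 0, 0, 0],
  [1, 1, 2, 3, 2, 2, 0, 3, 0, 3, 0, 0, 0, 2, 3, 0, 0, 1, 2, 3, 0, 0, 1, 2, 3, 0, 0, 1, 1, 1, 2, 3, 2, 2],
  [1, 1, 2, 3, 2, 2, 0, 3, 0, 3, 0, 0, 0, 0, 3, 0, 3, 0, 0, 0, 2, 3, 0, 0, 1, 1, 1, 2, 3, 2, 2],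
  [1, 1, 2, 3, 2, 2, 0, 3, 0, 3, 0, 0, 0, 0, 3, 0, 3, 0, 0, 0, 0, 3, 0, 3, 0, 0, 0, 2, 3, 0, 0, 1],
  [1, 1, 2, 3, 2, 2, 0, 3, 0, 3, 0, 0, 0, 2, 3, 0, 0, 1, 1, 1, 2, 3, 2, 2, 2, 3, 0, 0, 1],
  [2, 3, 0, 0, 1, 1, 1, 2, 3, 2, 2, 0, 3, 0, 3, 0, 0, 0, 2, 3, 0, 0, 1, 2, 3, 0, 0, 1, 2, 3, 0, 0, 1],
  [0, 3, 0, 3, 0, 0, 0, 1, 1, 2, 3, 2, 2, 0, 3, 0, 3, 0, 0, 0, 1, 1, 2, 3, 2, 2],
  [1, 1, 2, 3, 2, 2, 0, 3, 0, 3, 0, 0, 0, 0, 3, 0, 3, 0, 0, 0, 2, 3, 0, 0, 1, 1, 1, 2, 3, 2, 2, 2, 3, 0, 0, 1],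
  [0, 3, 0, 3, 0, 0, 0, 1, 1, 2, 3, 2, 2, 2, 3, 0, 0, 1],
  [0, 3, 0, 3, 0, 0, 0, 2, 3, 0, 0, 1, 2, 3, 0, 0, 1, 2, 3, 0, 0, 1, 0, 3, 0, 3, 0, 0, 0],
  [2, 3, 0, 0, 1, 0, 3, 0, 3, 0, 0, 0, 2, 3, 0, 0, 1, 2, 3, 0, 0, 1, 0, 3, 0, 3, 0, 0, 0, 0, 3, 0, 3, 0, 0, 0, 2, 3, 0, 0, 1],
  [2, 3, 0, 0, 1, 0, 3, 0, 3, 0, 0, 0, 2, 3, 0, 0, 1, 1, 1, 2, 3, 2, 2, 2, 3, 0, 0, 1],
  [0, 3, 0, 3, 0, 0, 0, 1, 1, 2, 3, 2, 2],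
  [0, 3, 0, 3, 0, 0, 0, 2, 3, 0, 0, 1, 2, 3, 0, 0, 1, 0, 3, 0, 3, 0, 0, 0, 0, 3, 0, 3, 0, 0, 0],
  [0, 3, 0, 3, 0, 0, 0, 2, 3, 0, 0, 1, 1, 1, 2, 3, 2, 2, 2, 3, 0, 0, 1],
  [0, 3, 0, 3, 0, 0, 0, 2, 3, 0, 0, 1, 2, 3, 0, 0, 1, 1, 1, 2, 3, 2, 2],
  [0, 3, 0, 3, 0, 0, 0, 0, 3, 0, 3, 0, 0, 0, 2, 3, 0, 0, 1, 1, 1, 2, 3, 2, 2],
  [2, 3, 0, 0, 1, 1, 1, 2, 3, 2, 2, 0, 3, 0, 3, 0, 0, 0, 2, 3, 0, 0, 1, 1, 1, 2, 3, 2, 2],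
  [2, 3, 0, 0, 1, 0, 3, 0, 3, 0, 0, 0, 0, 3, 0, 3, 0, 0, 0, 0, 3, 0, 3, 0, 0, 0, 1, 1, 2, 3, 2, 2],
  [0, 3, 0, 3, 0, 0, 0, 1, 1, 2, 3, 2, 2, 2, 3, 0, 0, 1, 2, 3, 0, 0, 1],
  [2, 3, 0, 0, 1, 2, 3, 0, 0, 1, 0, 3, 0, 3, 0, 0, 0, 1, 1, 2, 3, 2, 2, 2, 3, 0, 0, 1, 1, 1, 2, 3, 2, 2],
  [2, 3, 0, 0, 1, 0, 3, 0, 3, 0, 0, 0, 0, 3, 0, 3, 0, 0, 0, 0, 3, 0, 3, 0, 0, 0, 2, 3, 0, 0, 1],
  [2, 3, 0, 0, 1, 2, 3, 0, 0, 1, 0, 3, 0, 3, 0, 0, 0, 1, 1, 2, 3, 2, 2, 2, 3, 0, 0, 1],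
  [2, 3, 0, 0, 1, 0, 3, 0, 3, 0, 0, 0, 2, 3, 0, 0, 1, 2, 3, 0, 0, 1, 2, 3, 0, 0, 1, 0, 3, 0, 3, 0, 0, 0],
  [2, 3, 0, 0, 1, 2, 3, 0, 0, 1, 0, 3, 0, 3, 0, 0, 0, 2, 3, 0, 0, 1, 2, 3, 0, 0, 1, 0, 3, 0, 3, 0, 0, 0],
  [0, 3, 0, 3, 0, 0, 0, 2, 3, 0, 0, 1, 0, 3, 0, 3, 0, 0, 0, 2, 3, 0, 0, 1],
  [1, 1, 2, 3, 2, 2, 0, 3, 0, 3, 0, 0, 0, 2, 3, 0, 0, 1, 2, 3, 0, 0, 1, 2, 3, 0, 0, 1, 0, 3, 0, 3, 0, 0, 0],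
  [0, 3, 0, 3, 0, 0, 0, 1, 1, 2, 3, 2, 2, 2, 3, 0, 0, 1, 1, 1, 2, 3, 2, 2],
  [0, 3, 0, 3, 0, 0, 0, 0, 3, 0, 3, 0, 0, 0],
  [2, 3, 0, 0, 1, 2, 3, 0, 0, 1],
  [2, 3, 0, 0, 1, 0, 3, 0, 3, 0, 0, 0, 2, 3, 0, 0, 1, 2, 3, 0, 0, 1, 2, 3, 0, 0, 1],
  [2, 3, 0, 0, 1, 0, 3, 0, 3, 0, 0, 0],
  [0, 3, 0, 3, 0, 0, 0, 0, 3, 0, 3, 0, 0, 0, 2, 3, 0, 0, 1, 2, 3, 0, 0, 1],
  [2, 3, 0, 0, 1, 2, 3, 0, 0, 1, 0, 3, 0, 3, 0, 0, 0, 2, 3, 0, 0, 1],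
  [1, 1, 2, 3, 2, 2, 0, 3, 0, 3, 0, 0, 0, 2, 3, 0, 0, 1, 2, 3, 0, 0, 1, 1, 1, 2, 3, 2, 2],
  [2, 3, 0, 0, 1, 2, 3, 0, 0, 1, 0, 3, 0, 3, 0, 0, 0, 1, 1, 2, 3, 2, 2, 0, 3, 0, 3, 0, 0, 0],
  [1, 1, 2, 3, 2, 2, 0, 3, 0, 3, 0, 0, 0, 0, 3, 0, 3, 0, 0, 0],
  [1, 1, 2, 3, 2, 2, 0, 3, 0, 3, 0, 0, 0, 2, 3, 0, 0, 1, 0, 3, 0, 3, 0, 0, 0],
  [0, 3, 0, 3, 0, 0, 0, 2, 3, 0, 0, 1, 0, 3, 0, 3, 0, 0, 0],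
  [0, 3, 0, 3, 0, 0, 0, 2, 3, 0, 0, 1, 2, 3, 0, 0, 1, 0, 3, 0, 3, 0, 0, 0, 1, 1, 2, 3, 2, 2],
  [1, 1, 2, 3, 2, 2, 0, 3, 0, 3, 0, 0, 0, 2, 3, 0, 0, 1, 2, 3, 0, 0, 1, 2, 3, 0, 0, 1, 1, 1, 2, 3, 2, 2, 0, 3, 0, 3, 0, 0, 0],
  [2, 3, 0, 0, 1, 0, 3, 0, 3, 0, 0, 0, 0, 3, 0, 3, 0, 0, 0, 2, 3, 0, 0, 1, 2, 3, 0, 0, 1],
  [2, 3, 0, 0, 1, 0, 3, 0, 3, 0, 0, 0, 2, 3, 0, 0, 1, 0, 3, 0, 3, 0, 0, 0, 2, 3, 0, 0, 1, 0, 3, 0, 3, 0, 0, 0],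
  [2, 3, 0, 0, 1, 2, 3, 0, 0, 1, 0, 3, 0, 3, 0, 0, 0, 1, 1, 2, 3, 2, 2, 0, 3, 0, 3, 0, 0, 0, 2, 3, 0, 0, 1],
  [1, 1, 2, 3, 2, 2, 0, 3, 0, 3, 0, 0, 0, 2, 3, 0, 0, 1, 1, 1, 2, 3, 2, 2],
  [2, 3, 0, 0, 1, 0, 3, 0, 3, 0, 0, 0, 0, 3, 0, 3, 0, 0, 0, 0, 3, 0, 3, 0, 0, 0, 2, 3, 0, 0, 1, 0, 3, 0, 3, 0, 0, 0],
  [2, 3, 0, 0, 1, 1, 1, 2, 3, 2, 2, 0, 3, 0, 3, 0, 0, 0],
  [2, 3, 0, 0, 1, 2, 3, 0, 0, 1, 0, 3, 0, 3, 0, 0, 0, 2, 3, 0, 0, 1, 0, 3, 0, 3, 0, 0, 0, 0, 3, 0, 3, 0, 0, 0],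
  [2, 3, 0, 0, 1, 0, 3, 0, 3, 0, 0, 0, 2, 3, 0, 0, 1, 0, 3, 0, 3, 0, 0, 0],
  [0, 3, 0, 3, 0, 0, 0, 2, 3, 0, 0, 1, 2, 3, 0, 0, 1, 2, 3, 0, 0, 1],
  [0, 3, 0, 3, 0, 0, 0, 2, 3, 0, 0, 1, 1, 1, 2, 3, 2, 2, 2, 3, 0, 0, 1, 0, 3, 0, 3, 0, 0, 0, 1, 1, 2, 3, 2, 2],
  [1, 1, 2, 3, 2, 2, 0, 3, 0, 3, 0, 0, 0, 2, 3, 0, 0, 1, 1, 1, 2, 3, 2, 2, 2, 3, 0, 0, 1, 0, 3, 0, 3, 0, 0, 0],
  [2, 3, 0, 0, 1, 0, 3, 0, 3, 0, 0, 0, 0, 3, 0, 3, 0, 0, 0],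
  [0, 3, 0, 3, 0, 0, 0, 2, 3, 0, 0, 1, 1, 1, 2, 3, 2, 2],
  [0, 3, 0, 3, 0, 0, 0, 1, 1, 2, 3, 2, 2, 2, 3, 0, 0, 1, 2, 3, 0, 0, 1, 2, 3, 0, 0, 1],
  [2, 3, 0, 0, 1, 2, 3, 0, 0, 1, 0, 3, 0, 3, 0, 0, 0, 1, 1, 2, 3, 2, 2, 2, 3, 0, 0, 1, 2, 3, 0, 0, 1],
  [1, 1, 2, 3, 2, 2, 0, 3, 0, 3, 0, 0, 0, 0, 3, 0, 3, 0, 0, 0, 2, 3, 0, 0, 1],
  [2, 3, 0, 0, 1, 0, 3, 0, 3, 0, 0, 0, 2, 3, 0, 0, 1, 2, 3, 0, 0, 1, 0, 3, 0, 3, 0, 0, 0, 1, 1, 2, 3, 2, 2],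
  [0, 3, 0, 3, 0, 0, 0, 2, 3, 0, 0, 1, 0, 3, 0, 3, 0, 0, 0, 2, 3, 0, 0, 1, 0, 3, 0, 3, 0, 0, 0, 0, 3, 0, 3, 0, 0, 0],
  [0, 3, 0, 3, 0, 0, 0, 1, 1, 2, 3, 2, 2, 0, 3, 0, 3, 0, 0, 0, 2, 3, 0, 0, 1, 0, 3, 0, 3, 0, 0, 0],
  [1, 1, 2, 3, 2, 2, 0, 3, 0, 3, 0, 0, 0, 2, 3, 0, 0, 1, 0, 3, 0, 3, 0, 0, 0, 2, 3, 0, 0, 1, 0, 3, 0, 3, 0, 0, 0],
  [0, 3, 0, 3, 0, 0, 0, 2, 3, 0, 0, 1, 2, 3, 0, 0, 1, 0, 3, 0, 3, 0, 0, 0],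
  [2, 3, 0, 0, 1, 0, 3, 0, 3, 0, 0, 0, 2, 3, 0, 0, 1, 2, 3, 0, 0, 1, 1, 1, 2, 3, 2, 2],
  [2, 3, 0, 0, 1, 2, 3, 0, 0, 1, 0, 3, 0, 3, 0, 0, 0, 2, 3, 0, 0, 1, 1, 1, 2, 3, 2, 2],
  [0, 3, 0, 3, 0, 0, 0, 1, 1, 2, 3, 2, 2, 0, 3, 0, 3, 0, 0, 0, 2, 3, 0, 0, 1],
  [2, 3, 0, 0, 1, 2, 3, 0, 0, 1, 0, 3, 0, 3, 0, 0, 0, 2, 3, 0, 0, 1, 0, 3, 0, 3, 0, 0, 0],
  [1, 1, 2, 3, 2, 2, 0, 3, 0, 3, 0, 0, 0, 2, 3, 0, 0, 1, 2, 3, 0, 0, 1, 0, 3, 0, 3, 0, 0, 0, 0, 3, 0, 3, 0, 0, 0],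
  [2, 3, 0, 0, 1, 0, 3, 0, 3, 0, 0, 0, 2, 3, 0, 0, 1, 1, 1, 2, 3, 2, 2],
  [0, 3, 0, 3, 0, 0, 0, 2, 3, 0, 0, 1, 0, 3, 0, 3, 0, 0, 0, 0, 3, 0, 3, 0, 0, 0, 1, 1, 2, 3, 2, 2],
  [0, 3, 0, 3, 0, 0, 0, 2, 3, 0, 0, 1],
  [1, 1, 2, 3, 2, 2, 0, 3, 0, 3, 0, 0, 0, 2, 3, 0, 0, 1],
  [2, 3, 0, 0, 1, 2, 3, 0, 0, 1, 0, 3, 0, 3, 0, 0, 0, 2, 3, 0, 0, 1, 2, 3, 0, 0, 1, 1, 1, 2, 3, 2, 2],
  [0, 3, 0, 3, 0, 0, 0, 2, 3, 0, 0, 1, 2, 3, 0, 0, 1, 0, 3, 0, 3, 0, 0, 0, 0, 3, 0, 3, 0, 0, 0, 2, 3, 0, 0, 1],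
  [1, 1, 2, 3, 2, 2],
  [0, 3, 0, 3, 0, 0, 0],
  [2, 3, 0, 0, 1, 2, 3, 0, 0, 1, 0, 3, 0, 3, 0, 0, 0, 2, 3, 0, 0, 1, 2, 3, 0, 0, 1]]

/-- words of level 2 of the chain (base point `220`, 4 images). -/
def u35mW2 : List (List ℕ) := [
  [0, 0, 1, 0, 3, 3, 2, 3, 0, 0, 1, 0, 0, 1, 0, 3, 3, 2, 3, 0, 0, 1],
  [0, 0, 1, 0, 3, 3, 2, 3, 0, 0, 1],
  [],
  [0, 0, 1, 0, 3, 3, 2, 3, 0, 0, 1, 0, 0, 1, 0, 3, 3, 2, 3, 0, 0, 1, 0, 0, 1, 0, 3, 3, 2, 3, 0, 0, 1]]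

/-- the stabiliser chain: its base is the orbit of `0` under `u35s1`. -/
def u35mCh : List (Fin 252 × List (List ℕ)) :=
  [((0 : Fin 252), u35mW0),
   ((26 : Fin 252), u35mW1),
   ((220 : Fin 252), u35mW2),
   ((153 : Fin 252), [[]]),
   ((142 : Fin 252), [[]]),
   ((65 : Fin 252), [[]]),
   ((225 : Fin 252), [[]])]

/-- the word of an element normalising `⟨u35s1⟩`. -/
def u35mWn : List ℕ := [0, 0, 1, 0, 3, 3, 2, 3, 0, 0, 1, 0, 0, 1, 0, 3, 3, 2, 3, 0, 0, 1, 1, 1, 2, 3, 2, 2, 0, 3, 0, 3, 0, 0, 0, 2, 3, 0, 0, 1, 2, 3, 0, 0, 1, 2, 3, 0, 0, 1, 0, 0, 0, 0, 0, 1, 0, 1, 1]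

/-- an element of order 5 fixing the point `0`. -/
def u35mWa : List ℕ := [1, 1, 2, 1, 0, 3, 0, 1]

/-- another element of order 5 fixing the point `0`. -/
def u35mWb : List ℕ := [0, 0, 0, 3, 0, 3, 0, 1, 0]

/-- the root element: the commutator of the two. -/
def u35mWz : List ℕ := [1, 2, 1, 0, 0, 0, 1, 0, 1, 2]

/-- an element exchanging the points `0` and `1`. -/
def u35mWsw : List ℕ := [0, 0, 1, 2, 3, 0, 1]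

/-- decoding table. -/
def u35mDecT : ℕ := 0x2fffff48ff3e20ffff2b62ffff0771ffff1bff02ff7c11ffff590bffff64ff4cff4450ff76ffff3b6dffff45ff3870ff12ff0dffff1cff046bffff29ff0874ff52ff69ffff46ff7bff56ff3d21ff2dff61ff6cffff67ff4b6aff17ff22ff54ff60ffff1dff01ff09ff3a14ff30ffff41ff2cff5816ffff65ff4f0affff7a13ffff49ff3c18ff77ff6fff15ff75ffff2a6effff05ff68ff4e0fffff791effff555fffff42ff3751ff2effff40ff19ff03ff470cff27ffff66ff4d5cffff4aff3fff2853ff23ffff060eff5bffff785aff31ffff5724ff73ffff43ff3925ffff1aff005eff5dff10ff1fff63ff72ff26ff34ff32ffff3536ffff33ffff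

/-- words in `a`, `b` moving each point other than `0`, `1` to `26` or `27`. -/
def u35mU : List (List ℕ) := [
  [],
  [],
  [1, 1, 1, 1, 0, 1, 0, 0],
  [1, 1, 1, 1, 0, 1, 0, 0],
  [1, 0, 1, 1, 1, 1, 0, 0],
  [1, 0, 1, 1, 1, 1, 0, 0],
  [1, 1, 0, 1, 1, 1, 0, 0],
  [1, 1, 0, 1, 1, 1, 0, 0],
  [0, 0, 0],
  [0, 0, 0],
  [1, 1, 1, 0, 1, 1, 0, 0],
  [1, 1, 1, 0, 1, 1, 0, 0],
  [1, 1, 1, 0, 0, 0, 0],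
  [1, 1, 1, 0, 0, 0, 0],
  [1, 0, 1, 1],
  [1, 0, 1, 1],
  [0, 1, 0],
  [0, 1, 0],
  [1, 1, 0, 1, 1, 0, 0, 0],
  [1, 1, 0, 1, 1, 0, 0, 0],
  [1, 0, 1, 0, 0, 0, 0],
  [1, 0, 1, 0, 0, 0, 0],
  [0, 1, 1, 0],
  [0, 1, 1, 0],
  [0, 1, 0, 1],
  [0, 1, 0, 1],
  [],
  [],
  [1, 1, 1, 1, 0, 1, 0, 0, 0],
  [1, 1, 1, 1, 0, 1, 0, 0, 0],
  [0, 1, 1, 0, 1, 0, 0],
  [0, 1, 1, 0, 1, 0, 0],
  [0, 1, 1, 1, 1, 0, 0],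
  [0, 1, 1, 1, 1, 0, 0],
  [0, 1, 0, 1, 0],
  [0, 1, 0, 1, 0],
  [0, 1, 1],
  [0, 1, 1],
  [0, 1, 1, 1, 0, 0, 0],
  [0, 1, 1, 1, 0, 0, 0],
  [0, 1, 1, 1, 0],
  [0, 1, 1, 1, 0],
  [0, 0, 0, 1, 0],
  [0, 0, 0, 1, 0],
  [0, 0, 1, 1],
  [0, 0, 1, 1],
  [0, 1],
  [0, 1],
  [1, 1, 0, 0],
  [1, 1, 0, 0],
  [0, 1, 1, 0, 1, 0, 0, 0],
  [0, 1, 1, 0, 1, 0, 0, 0],
  [1, 1, 1, 0, 1, 0, 0, 0, 0],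
  [1, 1, 1, 0, 1, 0, 0, 0, 0],
  [1, 0, 1, 1, 0, 0, 0],
  [1, 0, 1, 1, 0, 0, 0],
  [1, 1, 1, 0, 1, 0],
  [1, 1, 1, 0, 1, 0],
  [0, 1, 0, 1, 0, 0],
  [0, 1, 0, 1, 0, 0],
  [1, 0, 1, 1, 0, 0],
  [1, 0, 1, 1, 0, 0],
  [0, 0, 1, 0],
  [0, 0, 1, 0],
  [1, 0, 1, 0],
  [1, 0, 1, 0],
  [1, 1, 1, 0, 1, 1, 0],
  [1, 1, 1, 0, 1, 1, 0],
  [1, 1, 1, 0, 1, 1],
  [1, 1, 1, 0, 1, 1],
  [1, 1, 0, 1, 0, 0, 0],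
  [1, 1, 0, 1, 0, 0, 0],
  [1, 0, 1, 1, 0, 0, 0, 0],
  [1, 0, 1, 1, 0, 0, 0, 0],
  [0, 0, 0, 0, 1, 0, 0, 0, 0],
  [0, 0, 0, 0, 1, 0, 0, 0, 0],
  [1, 1, 0, 1, 1, 1, 0, 0, 0, 0],
  [1, 1, 0, 1, 1, 1, 0, 0, 0, 0],
  [0, 0, 0, 0],
  [0, 0, 0, 0],
  [0, 1, 1, 1, 0, 0],
  [0, 1, 1, 1, 0, 0],
  [1, 0, 0, 0, 0],
  [1, 0, 0, 0, 0],
  [0, 1, 1, 1, 1, 0],
  [0, 1, 1, 1, 1, 0],
  [1, 1, 0, 1, 1, 0, 0],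
  [1, 1, 0, 1, 1, 0, 0],
  [0, 1, 1, 0, 0],
  [0, 1, 1, 0, 0],
  [0, 0, 1],
  [0, 0, 1],
  [1, 1, 0, 1, 0],
  [1, 1, 0, 1, 0],
  [1, 1, 1, 0, 1, 0, 0, 0],
  [1, 1, 1, 0, 1, 0, 0, 0],
  [0, 0, 1, 0, 0, 0, 0],
  [0, 0, 1, 0, 0, 0, 0],
  [1, 1],
  [1, 1],
  [1, 1, 0, 1, 1, 1, 0],
  [1, 1, 0, 1, 1, 1, 0],
  [1, 0, 1, 1, 1, 1],
  [1, 0, 1, 1, 1, 1],
  [1, 1, 1, 1],
  [1, 1, 1, 1],
  [0, 1, 1, 1],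
  [0, 1, 1, 1],
  [1, 1, 0, 0, 0, 0],
  [1, 1, 0, 0, 0, 0],
  [0, 0, 1, 1, 0, 0, 0, 0],
  [0, 0, 1, 1, 0, 0, 0, 0],
  [0, 1, 0, 0, 0, 0],
  [0, 1, 0, 0, 0, 0],
  [0, 1, 1, 0, 1, 0, 0, 0, 0],
  [0, 1, 1, 0, 1, 0, 0, 0, 0],
  [1, 0, 1],
  [1, 0, 1],
  [0, 0, 0, 0, 1, 0],
  [0, 0, 0, 0, 1, 0],
  [0, 1, 1, 0, 1, 0],
  [0, 1, 1, 0, 1, 0],
  [0, 1, 0, 0],
  [0, 1, 0, 0],
  [0, 0, 1, 1, 0, 0, 0],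
  [0, 0, 1, 1, 0, 0, 0],
  [0, 0, 0, 1, 0, 0, 0],
  [0, 0, 0, 1, 0, 0, 0],
  [1, 1, 1],
  [1, 1, 1],
  [1, 0, 1, 1, 1, 1, 0],
  [1, 0, 1, 1, 1, 1, 0],
  [1, 1, 1, 1, 0, 1],
  [1, 1, 1, 1, 0, 1],
  [0, 0, 1, 0, 0, 0],
  [0, 0, 1, 0, 0, 0],
  [0, 1, 1, 0, 1],
  [0, 1, 1, 0, 1],
  [0, 1, 1, 0, 0, 0],
  [0, 1, 1, 0, 0, 0],
  [1, 0, 1, 0, 0],
  [1, 0, 1, 0, 0],
  [0, 0, 1, 0, 0],
  [0, 0, 1, 0, 0],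
  [1],
  [1],
  [1, 1, 1, 1, 0, 0, 0],
  [1, 1, 1, 1, 0, 0, 0],
  [0, 1, 1, 1, 1, 0, 0, 0, 0],
  [0, 1, 1, 1, 1, 0, 0, 0, 0],
  [1, 1, 1, 1, 0, 1, 0, 0, 0, 0],
  [1, 1, 1, 1, 0, 1, 0, 0, 0, 0],
  [1, 0, 1, 1, 1, 1, 0, 0, 0],
  [1, 0, 1, 1, 1, 1, 0, 0, 0],
  [0, 0, 0, 1, 0, 0, 0, 0],
  [0, 0, 0, 1, 0, 0, 0, 0],
  [1, 1, 0, 1, 1, 0],
  [1, 1, 0, 1, 1, 0],
  [1, 1, 1, 1, 0, 0, 0, 0],
  [1, 1, 1, 1, 0, 0, 0, 0],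
  [0, 0, 0, 1, 0, 0],
  [0, 0, 0, 1, 0, 0],
  [1, 1, 1, 1, 0],
  [1, 1, 1, 1, 0],
  [0, 0],
  [0, 0],
  [1, 1, 0, 1, 1, 1],
  [1, 1, 0, 1, 1, 1],
  [1, 1, 0, 1, 1],
  [1, 1, 0, 1, 1],
  [0, 0, 0, 0, 1, 0, 0, 0],
  [0, 0, 0, 0, 1, 0, 0, 0],
  [0, 0, 0, 0, 1],
  [0, 0, 0, 0, 1],
  [0, 1, 1, 1, 1, 0, 0, 0],
  [0, 1, 1, 1, 1, 0, 0, 0],
  [1, 1, 1, 0, 0, 0],
  [1, 1, 1, 0, 0, 0],
  [1, 0, 1, 1, 0],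
  [1, 0, 1, 1, 0],
  [0, 0, 0, 0, 1, 0, 0],
  [0, 0, 0, 0, 1, 0, 0],
  [0, 0, 0, 1],
  [0, 0, 0, 1],
  [0, 1, 1, 1, 1],
  [0, 1, 1, 1, 1],
  [1, 1, 1, 1, 0, 0],
  [1, 1, 1, 1, 0, 0],
  [0, 1, 0, 1, 0, 0, 0, 0],
  [0, 1, 0, 1, 0, 0, 0, 0],
  [1, 0, 1, 1, 1, 0, 0, 0, 0],
  [1, 0, 1, 1, 1, 0, 0, 0, 0],
  [0, 0, 1, 1, 0, 0],
  [0, 0, 1, 1, 0, 0],
  [1, 1, 1, 0, 1],
  [1, 1, 1, 0, 1],
  [1, 0, 1, 1, 1, 1, 0, 0, 0, 0],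
  [1, 0, 1, 1, 1, 1, 0, 0, 0, 0],
  [1, 1, 0, 1, 1, 1, 0, 0, 0],
  [1, 1, 0, 1, 1, 1, 0, 0, 0],
  [0, 1, 1, 1, 0, 0, 0, 0],
  [0, 1, 1, 1, 0, 0, 0, 0],
  [0, 1, 0, 1, 0, 0, 0],
  [0, 1, 0, 1, 0, 0, 0],
  [1, 1, 1, 0],
  [1, 1, 1, 0],
  [1, 0, 1, 1, 1, 0, 0],
  [1, 0, 1, 1, 1, 0, 0],
  [1, 1, 0, 0, 0],
  [1, 1, 0, 0, 0],
  [1, 0, 1, 1, 1],
  [1, 0, 1, 1, 1],
  [1, 1, 1, 0, 1, 0, 0],
  [1, 1, 1, 0, 1, 0, 0],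
  [1, 1, 0],
  [1, 1, 0],
  [1, 0, 1, 1, 1, 0],
  [1, 0, 1, 1, 1, 0],
  [0, 0, 1, 1, 0],
  [0, 0, 1, 1, 0],
  [1, 1, 1, 1, 0, 1, 0],
  [1, 1, 1, 1, 0, 1, 0],
  [0],
  [0],
  [1, 1, 0, 1, 0, 0, 0, 0],
  [1, 1, 0, 1, 0, 0, 0, 0],
  [1, 1, 1, 0, 0],
  [1, 1, 1, 0, 0],
  [0, 1, 1, 0, 0, 0, 0],
  [0, 1, 1, 0, 0, 0, 0],
  [1, 0],
  [1, 0],
  [1, 1, 1, 0, 1, 1, 0, 0, 0, 0],
  [1, 1, 1, 0, 1, 1, 0, 0, 0, 0],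
  [1, 1, 1, 0, 1, 1, 0, 0, 0],
  [1, 1, 1, 0, 1, 1, 0, 0, 0],
  [1, 1, 0, 1],
  [1, 1, 0, 1],
  [1, 1, 0, 1, 1, 0, 0, 0, 0],
  [1, 1, 0, 1, 1, 0, 0, 0, 0],
  [1, 0, 0],
  [1, 0, 0],
  [1, 0, 1, 0, 0, 0],
  [1, 0, 1, 0, 0, 0],
  [1, 0, 1, 1, 1, 0, 0, 0],
  [1, 0, 1, 1, 1, 0, 0, 0],
  [1, 1, 0, 1, 0, 0],
  [1, 1, 0, 1, 0, 0],
  [1, 0, 0, 0],
  [1, 0, 0, 0],
  [0, 1, 0, 0, 0],
  [0, 1, 0, 0, 0]]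

/-- words in `z`, `y` moving each point off the block to `2` or `3`. -/
def u35mLr : List (List ℕ) := [
  [],
  [],
  [],
  [],
  [0, 0],
  [0, 0],
  [0, 0, 0],
  [0, 0, 0],
  [0],
  [0],
  [0, 0, 0, 0],
  [0, 0, 0, 0],
  [0, 0, 0, 1, 1, 1],
  [0, 0, 0, 1, 1, 1],
  [1, 1, 0, 0, 0, 0, 1],
  [1, 1, 0, 0, 0, 0, 1],
  [1, 1, 1, 0, 0],
  [1, 1, 1, 0, 0],
  [1, 0, 1, 1, 0, 1],
  [1, 0, 1, 1, 0, 1],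
  [1, 1],
  [1, 1],
  [1, 0, 0, 0, 1, 1],
  [1, 0, 0, 0, 1, 1],
  [1, 0, 0, 1, 0, 0, 0, 0],
  [1, 0, 0, 1, 0, 0, 0, 0],
  [],
  [],
  [1, 0, 1, 1, 0],
  [1, 0, 1, 1, 0],
  [1, 1, 0, 1, 1, 0],
  [1, 1, 0, 1, 1, 0],
  [0, 1, 1, 0],
  [0, 1, 1, 0],
  [0, 0, 1, 0, 0, 0, 0],
  [0, 0, 1, 0, 0, 0, 0],
  [1, 1, 1, 0, 1],
  [1, 1, 1, 0, 1],
  [1, 1, 1],
  [1, 1, 1],
  [1, 0, 0, 1, 0, 0, 0],
  [1, 0, 0, 1, 0, 0, 0],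
  [1, 1, 0, 0],
  [1, 1, 0, 0],
  [0, 0, 1, 1, 1, 1, 0, 0],
  [0, 0, 1, 1, 1, 1, 0, 0],
  [0, 0, 1, 1, 0, 1, 1],
  [0, 0, 1, 1, 0, 1, 1],
  [0, 1, 1, 1, 1, 0, 0],
  [0, 1, 1, 1, 1, 0, 0],
  [1, 1, 0, 1, 1, 0, 0],
  [1, 1, 0, 1, 1, 0, 0],
  [1, 0, 0],
  [1, 0, 0],
  [0, 1, 1, 1],
  [0, 1, 1, 1],
  [0, 0, 1, 0],
  [0, 0, 1, 0],
  [1, 1, 1, 1],
  [1, 1, 1, 1],
  [1],
  [1],
  [0, 0, 0, 0, 1, 0, 0, 1],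
  [0, 0, 0, 0, 1, 0, 0, 1],
  [1, 1, 1, 1, 0, 0],
  [1, 1, 1, 1, 0, 0],
  [1, 0, 0, 0, 1],
  [1, 0, 0, 0, 1],
  [1, 1, 0, 1, 0, 0],
  [1, 1, 0, 1, 0, 0],
  [0, 0, 1, 1, 1],
  [0, 0, 1, 1, 1],
  [0, 1, 1, 1, 0],
  [0, 1, 1, 1, 0],
  [0, 0, 1, 0, 0, 1],
  [0, 0, 1, 0, 0, 1],
  [],
  [],
  [1, 0, 1, 1],
  [1, 0, 1, 1],
  [0, 0, 0, 0, 1],
  [0, 0, 0, 0, 1],
  [0, 0, 0, 1, 1, 0, 0],
  [0, 0, 0, 1, 1, 0, 0],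
  [0, 0, 0, 0, 1, 0],
  [0, 0, 0, 0, 1, 0],
  [0, 0, 0, 1, 1, 0],
  [0, 0, 0, 1, 1, 0],
  [1, 0, 0, 0, 0, 1, 1],
  [1, 0, 0, 0, 0, 1, 1],
  [0, 0, 1, 0, 1],
  [0, 0, 1, 0, 1],
  [1, 1, 1, 1, 0],
  [1, 1, 1, 1, 0],
  [1, 0, 1, 1, 1],
  [1, 0, 1, 1, 1],
  [0, 1, 1, 0, 1, 1],
  [0, 1, 1, 0, 1, 1],
  [0, 1, 1],
  [0, 1, 1],
  [1, 1, 0, 0, 0, 0, 1, 1],
  [1, 1, 0, 0, 0, 0, 1, 1],
  [0, 1, 1, 0, 1],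
  [0, 1, 1, 0, 1],
  [0, 1, 0, 0],
  [0, 1, 0, 0],
  [0, 0, 0, 1, 0, 0, 0],
  [0, 0, 0, 1, 0, 0, 0],
  [1, 0, 0, 1, 0, 0],
  [1, 0, 0, 1, 0, 0],
  [0, 1, 1, 0, 0, 0, 0],
  [0, 1, 1, 0, 0, 0, 0],
  [0, 1, 0, 0, 1, 0],
  [0, 1, 0, 0, 1, 0],
  [0, 0, 1, 0, 0, 0],
  [0, 0, 1, 0, 0, 0],
  [1, 0, 1, 1, 1, 0],
  [1, 0, 1, 1, 1, 0],
  [1, 0, 1, 1, 1, 1],
  [1, 0, 1, 1, 1, 1],
  [0, 0, 0, 1],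
  [0, 0, 0, 1],
  [1, 0, 0, 1],
  [1, 0, 0, 1],
  [0, 0, 1, 1],
  [0, 0, 1, 1],
  [1, 1, 0, 1, 1],
  [1, 1, 0, 1, 1],
  [0, 0, 0, 1, 1, 1, 0],
  [0, 0, 0, 1, 1, 1, 0],
  [1, 0, 0, 0, 1, 0, 0, 0],
  [1, 0, 0, 0, 1, 0, 0, 0],
  [1, 1, 0, 1, 0],
  [1, 1, 0, 1, 0],
  [1, 0, 0, 1, 0],
  [1, 0, 0, 1, 0],
  [0, 0, 1, 1, 1, 1, 0],
  [0, 0, 1, 1, 1, 1, 0],
  [0, 1, 1, 1, 1],
  [0, 1, 1, 1, 1],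
  [1, 0, 0, 0, 0, 1],
  [1, 0, 0, 0, 0, 1],
  [0, 1, 1, 0, 0],
  [0, 1, 1, 0, 0],
  [0, 0, 1, 0, 0, 1, 0],
  [0, 0, 1, 0, 0, 1, 0],
  [1, 1, 0],
  [1, 1, 0],
  [0, 0, 1, 0, 0],
  [0, 0, 1, 0, 0],
  [],
  [],
  [0, 1, 0, 1, 1],
  [0, 1, 0, 1, 1],
  [0, 1, 0, 1],
  [0, 1, 0, 1],
  [0, 1, 0],
  [0, 1, 0],
  [1, 1, 0, 0, 0],
  [1, 1, 0, 0, 0],
  [1, 1, 0, 0, 0, 1],
  [1, 1, 0, 0, 0, 1],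
  [0, 1, 1, 1, 0, 0, 0],
  [0, 1, 1, 1, 0, 0, 0],
  [1, 0, 0, 0, 1, 0, 0],
  [1, 0, 0, 0, 1, 0, 0],
  [0, 0, 1, 1, 0, 1],
  [0, 0, 1, 1, 0, 1],
  [0, 0, 1, 0, 1, 0],
  [0, 0, 1, 0, 1, 0],
  [1, 0, 1],
  [1, 0, 1],
  [0, 0, 0, 0, 1, 1, 0, 0],
  [0, 0, 0, 0, 1, 1, 0, 0],
  [0, 1, 1, 0, 0, 0],
  [0, 1, 1, 0, 0, 0],
  [0, 0, 1],
  [0, 0, 1],
  [1, 1, 1, 1, 0, 1],
  [1, 1, 1, 1, 0, 1],
  [0, 1, 0, 1, 0, 0],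
  [0, 1, 0, 1, 0, 0],
  [0, 0, 0, 1, 0, 0, 1],
  [0, 0, 0, 1, 0, 0, 1],
  [1, 0, 1, 0],
  [1, 0, 1, 0],
  [0, 0, 0, 1, 0],
  [0, 0, 0, 1, 0],
  [0, 0, 1, 1, 0, 0, 0, 0],
  [0, 0, 1, 1, 0, 0, 0, 0],
  [0, 0, 0, 1, 0, 0],
  [0, 0, 0, 1, 0, 0],
  [0, 1, 0, 0, 1, 0, 0],
  [0, 1, 0, 0, 1, 0, 0],
  [1, 1, 1, 0, 0, 0],
  [1, 1, 1, 0, 0, 0],
  [],
  [],
  [0, 0, 1, 0, 1, 1],
  [0, 0, 1, 0, 1, 1],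
  [1, 1, 1, 0],
  [1, 1, 1, 0],
  [0, 0, 0, 1, 1],
  [0, 0, 0, 1, 1],
  [0, 1, 0, 0, 0],
  [0, 1, 0, 0, 0],
  [0, 0, 1, 1, 0],
  [0, 0, 1, 1, 0],
  [1, 0, 0, 0, 0],
  [1, 0, 0, 0, 0],
  [0, 1, 0, 1, 0],
  [0, 1, 0, 1, 0],
  [0, 0, 0, 0, 1, 1, 0],
  [0, 0, 0, 0, 1, 1, 0],
  [1, 1, 0, 0, 0, 0],
  [1, 1, 0, 0, 0, 0],
  [1, 0],
  [1, 0],
  [0, 1, 0, 0, 0, 0],
  [0, 1, 0, 0, 0, 0],
  [1, 0, 0, 0, 1, 0],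
  [1, 0, 0, 0, 1, 0],
  [1, 1, 0, 1],
  [1, 1, 0, 1],
  [0, 0, 1, 1, 1, 0],
  [0, 0, 1, 1, 1, 0],
  [0, 1, 1, 1, 1, 0],
  [0, 1, 1, 1, 1, 0],
  [0, 0, 0, 0, 1, 1],
  [0, 0, 0, 0, 1, 1],
  [1, 0, 1, 0, 0],
  [1, 0, 1, 0, 0],
  [],
  [],
  [1, 0, 1, 1, 0, 0],
  [1, 0, 1, 1, 0, 0],
  [1, 0, 0, 0],
  [1, 0, 0, 0],
  [0, 0, 0, 0, 1, 0, 0],
  [0, 0, 0, 0, 1, 0, 0],
  [0, 1, 1, 1, 0, 0],
  [0, 1, 1, 1, 0, 0],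
  [0, 0, 1, 1, 1, 1],
  [0, 0, 1, 1, 1, 1],
  [0, 0, 1, 1, 0, 0, 0],
  [0, 0, 1, 1, 0, 0, 0],
  [0, 1],
  [0, 1],
  [0, 1, 0, 0, 1],
  [0, 1, 0, 0, 1],
  [0, 0, 1, 1, 0, 0],
  [0, 0, 1, 1, 0, 0]]

/-- a word moving `0` to `2`. -/
def u35mT2 : List ℕ := [0, 1, 1, 1, 0, 0]

/-- a word moving `0` to `3`. -/
def u35mT3 : List ℕ := [1, 0, 0, 0, 1, 0, 0]

/-- the first generator as a word in `z`, `y`, `w2`. -/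
def u35mG21 : List ℕ := [2, 1, 1, 0, 1, 2, 0, 2, 1, 2, 2]

/-- the second generator as a word in `z`, `y`, `w2`. -/
def u35mG22 : List ℕ := [0, 2, 2, 1, 0, 1, 2, 2, 2, 0, 1]

/-- the first generator as a word in `z`, `y`, `w3`. -/
def u35mG31 : List ℕ := [1, 0, 0, 2, 0, 2, 2, 1, 0, 1, 2]

/-- the second generator as a word in `z`, `y`, `w3`. -/
def u35mG32 : List ℕ := [0, 2, 2, 2, 2, 1, 0, 1, 2, 0, 1]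

/-- a word in `z`, `y` moving `0` to `26`. -/
def u35mL0 : List ℕ := [1, 0, 1, 0]

/-- the second generator of the subgroup of index 50. -/
def u35mWbeta : List ℕ := [1, 0, 3, 3]

/-- words of level 0 of the chain of the subgroup. -/
def u35mKW0 : List (List ℕ) := [
  [],
  [1, 1, 1, 0, 0, 0],
  [0, 1, 1, 1, 0, 0, 1],
  [0, 0, 0, 0, 1, 1, 1, 0, 0],
  [0, 1, 0, 0, 0],
  [0, 1],
  [0, 1, 1, 0, 1, 0, 0],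
  [1, 0, 0, 1, 1, 1],
  [1, 1, 1, 0, 0, 0, 0, 1],
  [0, 0, 0, 1, 1, 1],
  [1, 0, 0, 0, 1, 0, 1, 0],
  [1, 1, 0, 1, 1, 1],
  [1, 1, 0, 1, 1, 1, 0, 1],
  [0],
  [0, 1, 1],
  [1, 0, 0, 1, 1],
  [0, 1, 0, 0, 0, 1, 1],
  [1, 1, 0, 0, 1],
  [1, 0, 0, 0, 1, 0, 1],
  [1, 1, 0, 1, 0],
  [0, 1, 1, 0, 1, 0],
  [1, 1, 1, 0, 1, 1, 0, 0],
  [0, 0, 0, 1, 1, 1, 1, 0],
  [0, 1, 1, 1, 0, 0],
  [0, 0, 0, 0, 1, 0],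
  [0, 1, 1, 0, 0, 1, 1],
  [0, 0, 0, 0, 1, 0, 1],
  [1, 1, 1, 0, 1, 1, 1],
  [1, 0, 0, 0, 1],
  [1, 1, 0, 1, 1, 0],
  [0, 1, 1, 0, 0, 0],
  [0, 0, 0, 0, 1, 1, 1],
  [1, 0, 0, 1],
  [1, 1, 1, 0],
  [0, 1, 0],
  [0, 1, 1, 0, 0, 1],
  [0, 1, 0, 0, 0, 0, 1, 1],
  [1, 1, 0],
  [0, 1, 1, 1, 0],
  [0, 1, 0, 0, 0, 1, 1, 0],
  [0, 1, 1, 0, 1, 0, 0, 0],
  [1, 1, 1, 0, 1, 1, 1, 1],
  [0, 1, 1, 1, 0, 1],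
  [1, 1, 1, 0, 0, 0, 0],
  [0, 1, 0, 0, 0, 1, 1, 1, 0],
  [0, 0, 0, 0, 1, 1, 1, 1],
  [1, 1, 1, 0, 0, 1],
  [0, 0, 0, 1, 1, 1, 1],
  [1, 0, 0, 0, 1, 0],
  [1, 0, 0, 1, 1, 0, 1, 0],
  [1, 1, 0, 0, 1, 1, 0, 1],
  [1, 1, 1],
  [0, 1, 1, 0, 1, 0, 0, 1],
  [0, 1, 1, 1, 1],
  [0, 1, 0, 0, 0, 1, 1, 1],
  [1, 1, 1, 0, 0],
  [0, 0, 0, 0, 1, 1, 1, 0],
  [0, 0, 0, 0, 1],
  [1, 1, 0, 1],
  [1, 1, 0, 0, 1, 1],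
  [1, 1, 0, 1, 1, 1, 1],
  [0, 0, 0, 1, 0, 1],
  [0, 1, 1, 1, 0, 1, 1],
  [1, 1, 1, 0, 1],
  [0, 0, 0, 0, 1, 1],
  [0, 0, 0, 1, 1, 1, 0],
  [1, 1, 1, 0, 1, 0],
  [1, 1],
  [0, 1, 0, 0, 0, 1],
  [0, 1, 0, 0, 1, 1],
  [1, 0, 0, 1, 1, 0],
  [0, 0, 0, 0],
  [0, 0, 0, 1, 1, 1, 1, 0, 1],
  [1, 0, 0, 1, 1, 0, 1],
  [0, 0, 0, 1, 1],
  [0, 1, 1, 1, 0, 0, 1, 1],
  [0, 0, 0],
  [1, 0, 0, 1, 1, 1, 1],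
  [0, 1, 0, 0, 0, 0, 1],
  [1, 1, 0, 0, 1, 1, 0],
  [0, 1, 0, 1, 1],
  [0, 1, 0, 0],
  [0, 1, 1, 1, 1, 0, 0, 1],
  [1, 1, 0, 0],
  [0, 1, 0, 1],
  [0, 1, 1, 1, 0, 1, 1, 0],
  [1, 1, 1, 0, 1, 1, 0],
  [1, 1, 0, 1, 0, 1],
  [0, 1, 1, 0],
  [0, 1, 1, 1, 0, 1, 1, 1],
  [1],
  [0, 0, 0, 1, 0, 1, 0, 0],
  [1, 0],
  [0, 1, 1, 1, 0, 0, 1, 1, 0],
  [0, 1, 1, 0, 0],
  [1, 0, 0, 0, 0],
  [1, 1, 0, 1, 1, 1, 0, 1, 0],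
  [0, 1, 0, 1, 1, 0],
  [0, 0, 0, 0, 1, 1, 0],
  [0, 1, 0, 0, 1, 1, 1],
  [0, 1, 1, 1],
  [0, 1, 0, 1, 1, 1],
  [0, 0, 0, 1, 0, 1, 0],
  [0, 1, 1, 0, 1, 0, 0, 0, 0],
  [1, 0, 0, 0],
  [0, 1, 1, 1, 1, 0, 0],
  [0, 1, 1, 0, 1],
  [1, 1, 0, 1, 1],
  [1, 0, 0],
  [1, 1, 0, 1, 1, 1, 0],
  [0, 0],
  [0, 1, 0, 1, 1, 1, 0],
  [0, 1, 0, 0, 1],
  [0, 1, 1, 1, 1, 0],
  [0, 0, 0, 0, 1, 0, 1, 1],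
  [0, 1, 1, 1, 1, 0, 0, 1, 1],
  [1, 1, 1, 0, 1, 1],
  [0, 1, 0, 0, 1, 1, 1, 0],
  [0, 0, 0, 1, 1, 1, 1, 0, 1, 0],
  [1, 1, 1, 0, 1, 0, 1],
  [0, 1, 0, 0, 1, 1, 0],
  [0, 0, 0, 0, 1, 1, 0, 0],
  [0, 0, 0, 1, 0],
  [0, 0, 0, 1],
  [0, 1, 0, 0, 0, 0],
  [0, 1, 1, 0, 0, 0, 0]]

/-- words of level 1 of the chain of the subgroup. -/
def u35mKW1 : List (List ℕ) := [
  [],
  [1, 0, 0, 0, 0, 1, 1, 1, 0, 1, 0, 1],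
  [1, 0, 1, 0, 1, 0],
  [1, 1, 0, 0, 0, 1, 1, 1, 0, 1, 0],
  [1, 0, 0, 1, 1, 1, 1, 0, 1, 1, 1],
  [1, 0, 0, 1, 1, 1, 0, 1, 1, 1, 1, 0],
  [0, 0, 1, 1, 0, 1, 0, 1, 0],
  [0, 0, 0, 1, 1, 1, 0, 1, 0, 1, 1, 0, 1, 0],
  [0, 0, 1],
  [0, 1, 0, 1, 1, 0, 0, 0, 1, 1, 0, 0],
  [0, 1, 1, 0, 0, 1, 1, 1, 0, 1, 1, 1, 0, 0],
  [1, 0, 1, 0, 1, 0, 0, 0, 1],
  [0, 1, 0, 1, 1, 0, 0, 0, 0, 1, 1, 1],
  [0, 1, 1, 0, 0, 0, 0, 1, 0, 1, 0, 0, 0],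
  [1, 1, 0, 1, 0, 0, 0, 1, 1, 1, 1, 0],
  [0, 0, 0, 1, 1, 0, 1, 1, 1, 1, 0, 0],
  [1, 0, 0, 0, 1, 1, 1, 0, 0, 1, 1, 0],
  [1, 1, 0, 0, 0, 1, 1, 0, 1, 0, 0],
  [1, 0, 0, 1, 1, 1, 1, 0, 1, 1, 1, 0, 0, 1],
  [0, 0, 1, 1, 0, 1, 0, 1, 0, 0, 0, 1]]

/-- the chain of the subgroup of index 50. -/
def u35mChK : List (Fin 252 × List (List ℕ)) :=
  [((0 : Fin 252), u35mKW0), ((2 : Fin 252), u35mKW1)]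

/-- bit mask of an orbit of the subgroup. -/
def u35mOK : ℕ := 0x9555696956656a5569a656aaaaa5a55a969a6a5a696596a6aa5a5596566a9a9


set_option maxRecDepth 100000 in
theorem u35mCh_chk : u35mchk id [] u35mCh = true := by decide +kernel

theorem u35mCh_prod : u35mprod u35mCh = 126000 := by decide +kernel

/-- the prescribed images of the base for an element conjugating `u35s1` to its `k`-th power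
and moving `0` to `y`. -/
def u35mtg (k : ℕ) (y : Fin 252) : List (Fin 252) :=
  (List.range 7).map (fun j => u35f1^[k * j] y)

theorem u35mCh_base :
    u35mCh.map Prod.fst = (List.range 7).map (fun j => u35f1^[j] (0 : Fin 252)) := by
  decide +kernel

set_option maxRecDepth 100000 in
theorem u35m_sift : ∀ k : Fin 7, ∀ y : Fin 252, u35msift u35mCh (u35mtg k.val y) = true →
    (k.val = 1 ∨ k.val = 2 ∨ k.val = 4) ∧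
      (k.val = 1 → ∃ i : Fin 7, u35f1^[i.val] (0 : Fin 252) = y) := by
  decide +kernel

theorem u35m_x7 : ∀ z : Fin 252, u35f1^[7] z = z := by decide +kernel

set_option maxRecDepth 100000 in
theorem u35m_n3 : ∀ z : Fin 252, (u35nev u35mWn)^[3] z = z := by decide +kernel

set_option maxRecDepth 100000 in
theorem u35m_nconj : ∀ z : Fin 252,
    u35nev u35mWn (u35f1 z) = u35f1 (u35f1 (u35nev u35mWn z)) := by decide +kernel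

set_option maxRecDepth 100000 in
theorem u35m_nne : u35nev u35mWn (0 : Fin 252) ≠ 0 := by decide +kernel

theorem u35m_xne : u35f1 (0 : Fin 252) ≠ 0 := by decide +kernel

/-- the conjugate `s1 z s1⁻¹` of the root element. -/
def u35mWy : List ℕ := 2 :: (u35mWz ++ [0])

theorem u35m_r1 : ∀ x : Fin 252, u35nev u35mWa (u35nev u35mWb x) =
    u35nev u35mWz (u35nev u35mWb (u35nev u35mWa x)) := by decide +kernel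

theorem u35m_r2 : ∀ x : Fin 252, u35nev u35mWz (u35nev u35mWa x) =
    u35nev u35mWa (u35nev u35mWz x) := by decide +kernel

theorem u35m_r3 : ∀ x : Fin 252, u35nev u35mWz (u35nev u35mWb x) =
    u35nev u35mWb (u35nev u35mWz x) := by decide +kernel

theorem u35m_r4 : ∀ x : Fin 252, (u35nev u35mWa)^[5] x = x := by decide +kernel

theorem u35m_r5 : ∀ x : Fin 252, (u35nev u35mWb)^[5] x = x := by decide +kernel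

theorem u35m_r6 : ∀ x : Fin 252, (u35nev u35mWz)^[5] x = x := by decide +kernel

theorem u35m_r7 : u35nev u35mWz (26 : Fin 252) ≠ 26 := by decide +kernel

theorem u35m_r8 : u35nev u35mWa (0 : Fin 252) = 0 ∧ u35nev u35mWb (0 : Fin 252) = 0 := by
  decide +kernel

/-- decoding table for the images of the point `26` under the `125` elements
`a ^ i * b ^ j * z ^ k`. -/
def u35mdec (x : Fin 252) : ℕ := u35byte u35mDecT x.val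

theorem u35m_dec : ∀ i j k : Fin 5, u35mdec ((u35nev u35mWa)^[i.val] ((u35nev u35mWb)^[j.val]
    ((u35nev u35mWz)^[k.val] (26 : Fin 252)))) = 25 * i.val + 5 * j.val + k.val := by
  decide +kernel

set_option maxRecDepth 100000 in
theorem u35m_lvl : ∀ p ∈ u35mCh.tail, ∀ w ∈ p.2,
    (∀ x : Fin 252, u35nev w (u35nev u35mWz x) = u35nev u35mWz (u35nev w x)) ∨
    (∀ x : Fin 252, u35nev w (u35nev u35mWz x) = u35nev (u35minvW u35mWz) (u35nev w x)) := by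
  decide +kernel

/-- letters for words in `a`, `b`. -/
def u35mab (c : ℕ) : List ℕ := if c = 0 then u35mWa else u35mWb

set_option maxRecDepth 100000 in
theorem u35m_u : ∀ r : Fin 252, 2 ≤ r.val →
    u35nev (u35mflat u35mab (u35mU.getD r.val [])) r = 26 ∨
    u35nev (u35mflat u35mab (u35mU.getD r.val [])) r = 27 := by decide +kernel

theorem u35m_sw : u35nev u35mWsw (0 : Fin 252) = 1 ∧ ∀ x : Fin 252,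
    u35nev u35mWsw (u35nev u35mWz x) = (u35nev u35mWz)^[3] (u35nev u35mWsw x) := by
  decide +kernel

theorem u35m_s1 : u35f1 (0 : Fin 252) = 26 ∧ u35f1 (1 : Fin 252) = 27 := by decide +kernel

/-- letters for words in `z`, `y`. -/
def u35mzy (c : ℕ) : List ℕ := if c = 0 then u35mWz else u35mWy

/-- the twelve points of the block of `0` and `26`. -/
def u35minO (x : Fin 252) : Bool :=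
  [0, 1, 26, 27, 76, 77, 150, 151, 196, 197, 232, 233].contains x.val

theorem u35m_inO_card :
    (Finset.univ.filter (fun x : Fin 252 => u35minO x = true)).card = 12 := by decide +kernel

set_option maxRecDepth 100000 in
theorem u35m_lr : ∀ r : Fin 252, u35minO r = false →
    u35nev (u35mflat u35mzy (u35mLr.getD r.val [])) r = 2 ∨
    u35nev (u35mflat u35mzy (u35mLr.getD r.val [])) r = 3 := by decide +kernel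

theorem u35m_t : u35nev u35mT2 (0 : Fin 252) = 2 ∧ u35nev u35mT3 (0 : Fin 252) = 3 := by
  decide +kernel

/-- the root element at the point `2`. -/
def u35mWw2 : List ℕ := u35minvW u35mT2 ++ (u35mWz ++ u35mT2)

/-- another root element at the point `2`. -/
def u35mWw3 : List ℕ := u35minvW u35mT3 ++ (u35mWz ++ u35mT3)

/-- letters for words in `z`, `y`, `w2`. -/
def u35mzyw2 (c : ℕ) : List ℕ := if c = 0 then u35mWz else if c = 1 then u35mWy else u35mWw2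

/-- letters for words in `z`, `y`, `w3`. -/
def u35mzyw3 (c : ℕ) : List ℕ := if c = 0 then u35mWz else if c = 1 then u35mWy else u35mWw3

theorem u35m_gen2 : (∀ x : Fin 252, u35nev (u35mflat u35mzyw2 u35mG21) x = u35f1 x) ∧
    (∀ x : Fin 252, u35nev (u35mflat u35mzyw2 u35mG22) x = u35f2 x) := by decide +kernel

theorem u35m_gen3 : (∀ x : Fin 252, u35nev (u35mflat u35mzyw3 u35mG31) x = u35f1 x) ∧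
    (∀ x : Fin 252, u35nev (u35mflat u35mzyw3 u35mG32) x = u35f2 x) := by decide +kernel

theorem u35m_l0 : u35nev (u35mflat u35mzy u35mL0) (0 : Fin 252) = 26 := by decide +kernel

theorem u35m_a26 : u35minO (u35nev u35mWa (26 : Fin 252)) = false := by decide +kernel

/-- letters for words in the generators of the subgroup of index 50. -/
def u35mkl (c : ℕ) : List ℕ :=
  if c = 0 then [0] else if c = 1 then u35mWbeta else if c = 2 then [2] else u35minvW u35mWbeta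

set_option maxRecDepth 100000 in
theorem u35mChK_chk : u35mchk (u35mflat u35mkl) [] u35mChK = true := by decide +kernel

theorem u35mChK_prod : u35mprod u35mChK = 2520 := by decide +kernel

/-- membership in an orbit of the subgroup of index 50. -/
def u35minK (x : Fin 252) : Bool := Nat.testBit u35mOK x.val

theorem u35m_Kinv : ∀ x : Fin 252, u35minK (u35f1 x) = u35minK x ∧
    u35minK (u35nev u35mWbeta x) = u35minK x := by decide +kernel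

theorem u35m_Kbad : u35minK (u35f2 (0 : Fin 252)) ≠ u35minK 0 := by decide +kernel

end Cfsg.Agent.Helper26
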