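import Cfsg.Agent.Helper26.U43Pts
import Cfsg.Agent.Helper26.U35Leech
import Cfsg.Agent.Helper26.McLTrans
import Cfsg.Agent.Helper92.LeechMcL

/-!
# The point stabiliser of the McLaughlin group on 275 points is `PSU(4, 3)`

Two explicit words `u43G1`, `u43G2` of `Co0` fix `V`, `U`, `leechX` and permute a family `u43v`
of 112 minimal vectors as the permutations `u43s1`, `u43s2` do.  Since the triple stabiliser has
order `3265920`, it is isomorphic to the group generated by these permutations, hence to
`PSU(4, 3)`.  Generated by `scratch/u43/emit_leech.py`.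
-/

set_option autoImplicit false

namespace Cfsg.Agent.Helper26

open Cfsg

/-- the first generator of the stabiliser. -/
noncomputable def u43G1 : List Ltr := [Ltr.mono 8 72 88 20 24 56 84 60 48 80 36 28 40 52 16 64 4 92 68 12 0 44 76 32 74294540965702654821924929280 4952969397713510321461661952 9682444, Ltr.xi, Ltr.mono 40 16 28 48 12 52 36 8 56 24 4 44 0 76 84 92 68 72 60 20 64 32 88 80 18209427792081745903288320 1213961852805449726885888 1525008, Ltr.xi, Ltr.mono 16 32 4 24 80 44 40 56 12 48 8 72 0 64 84 36 76 92 68 28 60 52 20 88 4950626789181145282070511615 330041785945409685471367441 7857359]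

/-- the second generator of the stabiliser. -/
noncomputable def u43G2 : List Ltr := [Ltr.mono 92 8 24 32 16 12 0 52 40 60 28 88 48 64 44 80 84 76 4 72 20 36 68 56 74276407079417242804641853680 4951760471961149520309456912 8635130, Ltr.xi, Ltr.mono 52 4 36 20 92 60 64 84 56 28 0 48 44 72 40 8 80 76 24 88 68 12 16 32 4951689320491620497542352655 330112621366108033169490177 8096037, Ltr.xi, Ltr.mono 28 8 48 20 4 52 40 32 0 84 76 24 56 60 12 36 92 80 44 88 16 72 64 68 1137812540329040522776320 75854169355269368185088 702724]

/-- a word moving `U` to the first vector of the family. -/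
noncomputable def u43WB : List Ltr := [Ltr.mono 0 4 8 12 16 20 24 28 32 36 40 44 48 52 56 60 64 68 72 76 80 84 88 92 18138609656198707638439695 1209240643746580509229313 1302533, Ltr.xi, Ltr.mono 68 92 56 20 64 4 16 32 84 40 76 28 60 88 8 80 72 12 36 52 24 44 48 0 79210023923046139707843936240 5280668261536409313856262416 15526270]

/-- the packed table of the family. -/
def u43VT : ℕ := 0x5979777979977779797777776866886688888886888888665997799777777797777779976888868886688868868886866886868688686688888888865999797977777777777997776868888888888866888666865977777777979999777779775977777999777797777799776886888688868888868866865999779777797777997777776868886866888868688888866886888686888868886688865979977777777797797979776868688888888888668886665997777979777777979777976888888868686888688866865977777977997977977797775977977797779777779779976888688688868688886888665979777777979777979977776888688888688668688688866886886868866888886888865977979797797997777777775997797777799977779777776888868888668888886668865977977797977779777997776868688868886686888888866868888886868886866888865977779777997779779777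97688866686868888888888866599799779977777779777777597777799779777779997777688868886686888888868686597797977997777797777977688888668868888866688886688868886888886886686886597997777979777777979777688688888666888868888866597777779797779799777797686888868886688868868886599777779777797797797977597977797779979777777797688688886888866888888666599797777777979797779777686688888888868868686886688868668888686888888686597977997777797777977977688668888868888688688686597799797797779777977777688886868888886868886866597977777777777997779997597979779799777777777977688888866866886688888886597777997777779997797777688686688888888868868686597797777777797999977777688866888688688868688886597779777997977777779797688888888868868686886866688886886886868866888886597777779979977997777777688888688668688688868886597779977797797779797777686666888886886888888886599977779777779977977777688888886888888668668866597799777779777797797797599797797779777977777977686886866888888888688686597779979777777797979777688868688886888668886886597979777977799797777777688688888888686666888886599777777777977979797797686886888688868888868866688888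868688868668888686597779797777977799777977686886688888688886886886599777977977797977779777688888866688688886888866599777999797977777777777686888688866868888888686597777777979797779777997597779799777797977777797688888666888868888866886597777977779977777799977688886888886688688888666688886688888866688688886597777777777799777999797688668888888688888866866597999977777977977777777597777977977979779977777686888888868686888688866599997777797797777777797688668688688868886888886688888688886886886868866688686886688888688886886597779777779779979779777597977979977777777797797686868868668888888886886688888888888668886668686597797797977997777797777599777777797777779979977599777777999779777797777597977779777997779779777688888888686666888886886686688886868888886868886597797997777777779779797597779777977777977997977688866868888888686868886688888688688888888686666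

theorem u43_ok : wordOK u43G1 = true ∧ wordOK u43G2 = true ∧ wordOK u43WB = true := by
  decide +kernel

theorem u43_wordOK_flatMap (l : List ℕ) (f : ℕ → List Ltr)
    (hf : ∀ b, wordOK (f b) = true) : wordOK (l.flatMap f) = true := by
  induction l with
  | nil => rfl
  | cons b l ih =>
    rw [List.flatMap_cons]
    exact u35_wordOK_append _ _ (hf b) ih

theorem u43_sq_U : sqNorm (Spor.leechU : GolayPt → ℤ) < 64 := by
  rw [sqNorm_leechU32]; norm_num

theorem u43_sq_X : sqNorm (leechX : GolayPt → ℤ) < 64 := by
  rw [sqNorm_leechX]; norm_num

/-- entry `s` of the packed table. -/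
def u43vt (s : ℕ) : ℕ := Nat.land (Nat.shiftRight u43VT (96 * s)) 79228162514264337593543950335

/-- the word of the vector `s` of the family. -/
noncomputable def u43wd (s : ℕ) : List Ltr :=
  u43WB ++ (u43W0.getD s []).flatMap (fun c => if c = 0 then u43G1 else u43G2)

theorem u43_wd_ok (s : ℕ) : wordOK (u43wd s) = true :=
  u35_wordOK_append _ _ u43_ok.2.2 (u43_wordOK_flatMap _ _ (fun c => by
    by_cases h : c = 0
    · rw [if_pos h]; exact u43_ok.1
    · rw [if_neg h]; exact u43_ok.2.1))

/-- the family of 112 minimal vectors. -/
noncomputable def u43v (s : Fin 112) : leechLattice := semW (u43wd s.val) • Spor.leechU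

set_option maxRecDepth 100000 in
theorem u43_vt_eq : ∀ s : Fin 112, actW (u43wd s.val) pvXU = u43vt s.val := by decide +kernel

theorem u43_sq_v (s : Fin 112) : sqNorm ((u43v s : leechLattice) : GolayPt → ℤ) = 32 := by
  unfold u43v
  rw [co0_norm]
  exact sqNorm_leechU32

theorem u43_pk_v (s : Fin 112) : pk ((u43v s : leechLattice) : GolayPt → ℤ) = u43vt s.val := by
  unfold u43v
  rw [actW_sound _ (u43_wd_ok s.val) _ u43_sq_U, pk_XU]
  exact u43_vt_eq s

set_option maxRecDepth 100000 in
theorem u43_vt_inj : ∀ s s' : Fin 112, u43vt s.val = u43vt s'.val → s = s' := by decide +kernel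

theorem u43_v_inj : Function.Injective u43v := by
  intro s s' h
  apply u43_vt_inj
  rw [← u43_pk_v, ← u43_pk_v, h]

set_option maxRecDepth 100000 in
theorem u43_eq1 : ∀ s : Fin 112, actW u43G1 (u43vt s.val) = u43vt (u43f1 s).val := by
  decide +kernel

set_option maxRecDepth 100000 in
theorem u43_eq2 : ∀ s : Fin 112, actW u43G2 (u43vt s.val) = u43vt (u43f2 s).val := by
  decide +kernel

theorem u43_fixes : actW u43G1 pvXV = pvXV ∧ actW u43G1 pvXU = pvXU ∧
    actW u43G1 pvXX = pvXX ∧ actW u43G2 pvXV = pvXV ∧ actW u43G2 pvXU = pvXU ∧
    actW u43G2 pvXX = pvXX := by decide +kernel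

theorem u43_g1_v (s : Fin 112) : semW u43G1 • u43v s = u43v (u43s1 s) := by
  apply u35_smul_eq u43G1 u43_ok.1 _ _ (by rw [u43_sq_v]; norm_num) (by rw [u43_sq_v]; norm_num)
  rw [u43_pk_v, u43_pk_v]
  exact u43_eq1 s

theorem u43_g2_v (s : Fin 112) : semW u43G2 • u43v s = u43v (u43s2 s) := by
  apply u35_smul_eq u43G2 u43_ok.2.1 _ _ (by rw [u43_sq_v]; norm_num) (by rw [u43_sq_v]; norm_num)
  rw [u43_pk_v, u43_pk_v]
  exact u43_eq2 s

/-- the triple stabiliser. -/
noncomputable def u43H : Subgroup Co0 :=
  Cfsg.Agent.Helper92.mclSub ⊓ MulAction.stabilizer Co0 leechX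

theorem mem_u43H (g : Co0) : g ∈ u43H ↔
    g • Spor.leechV = Spor.leechV ∧ g • Spor.leechU = Spor.leechU ∧ g • leechX = leechX := by
  unfold u43H
  rw [Subgroup.mem_inf, Cfsg.Agent.Helper92.mem_mclSub, MulAction.mem_stabilizer_iff, and_assoc]

theorem u43_g1_mem : semW u43G1 ∈ u43H := by
  rw [mem_u43H]
  refine ⟨u35_smul_eq _ u43_ok.1 _ _ u35_sq_V u35_sq_V (by rw [pk_XV]; exact u43_fixes.1),
    u35_smul_eq _ u43_ok.1 _ _ u43_sq_U u43_sq_U (by rw [pk_XU]; exact u43_fixes.2.1),
    u35_smul_eq _ u43_ok.1 _ _ u43_sq_X u43_sq_X (by rw [pk_XX]; exact u43_fixes.2.2.1)⟩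

theorem u43_g2_mem : semW u43G2 ∈ u43H := by
  rw [mem_u43H]
  refine ⟨u35_smul_eq _ u43_ok.2.1 _ _ u35_sq_V u35_sq_V (by rw [pk_XV]; exact u43_fixes.2.2.2.1),
    u35_smul_eq _ u43_ok.2.1 _ _ u43_sq_U u43_sq_U (by rw [pk_XU]; exact u43_fixes.2.2.2.2.1),
    u35_smul_eq _ u43_ok.2.1 _ _ u43_sq_X u43_sq_X (by rw [pk_XX]; exact u43_fixes.2.2.2.2.2)⟩

/-- the orbit of `leechX` under the stabiliser of `V`, `U` is the class 1. -/
theorem u43_orbit : MulAction.orbit ↥Cfsg.Agent.Helper92.mclSub leechX =
    {x : leechLattice | sqNorm (x : GolayPt → ℤ) = 32 ∧ clsL (pk (x : GolayPt → ℤ)) = 1} := by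
  ext x
  rw [mem_orbit_sub]
  constructor
  · rintro ⟨k, hk, rfl⟩
    have hk' := (Cfsg.Agent.Helper92.mem_mclSub k).1 hk
    have hn : sqNorm ((k • leechX : leechLattice) : GolayPt → ℤ) = 32 := by
      rw [co0_norm]; exact sqNorm_leechX
    refine ⟨hn, ?_⟩
    rw [clsL_congr (k • leechX) leechX hn sqNorm_leechX (dot_fix k _ hk'.1 leechX)
      (dot_fix k _ hk'.2 leechX)]
    exact clsL_X
  · rintro ⟨h1, h2⟩
    obtain ⟨g, a, b, c⟩ := mcl_trans 0 leechX x sqNorm_leechX h1 clsL_X h2
    exact ⟨g, (Cfsg.Agent.Helper92.mem_mclSub g).2 ⟨a, b⟩, c⟩

/-- the triple stabiliser has order `3265920`. -/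
theorem u43_card : Nat.card ↥u43H = 3265920 := by
  have h1 : (MulAction.stabilizer Co0 leechX).relIndex Cfsg.Agent.Helper92.mclSub = 275 := by
    rw [relIndex_stab, u43_orbit]
    exact ncard_cls clsL 1 275 cnt_L1
  have h2 := Subgroup.relIndex_mul_relIndex (⊥ : Subgroup Co0)
    (Cfsg.Agent.Helper92.mclSub ⊓ MulAction.stabilizer Co0 leechX) Cfsg.Agent.Helper92.mclSub
    bot_le inf_le_left
  rw [Subgroup.relIndex_bot_left, Subgroup.relIndex_bot_left, Subgroup.inf_relIndex_left, h1,
    Cfsg.Agent.Helper92.card_mclSub] at h2
  have h3 : u43H = Cfsg.Agent.Helper92.mclSub ⊓ MulAction.stabilizer Co0 leechX := rfl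
  rw [h3]
  exact Nat.eq_of_mul_eq_mul_right (by norm_num : 0 < 275) (h2.trans (by norm_num))

/-- **The triple stabiliser is the group generated by the two permutations.** -/
theorem u43_iso : Nonempty (↥u43H ≃*
    ↥(Subgroup.closure ({u43s1, u43s2} : Set (Equiv.Perm (Fin 112))))) := by
  haveI := Cfsg.Agent.Helper92.finite_co0
  apply u35_iso_of_family (M := ↥u43H)
    (A := ↥(Subgroup.closure ({u43s1, u43s2} : Set (Equiv.Perm (Fin 112)))))
    (V := leechLattice) (S := Fin 112)
    (fun m w => m.1 • w) (fun w => one_smul _ w) (fun m m' w => mul_smul m.1 m'.1 w)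
    (fun a s => a.1 s) (fun s => rfl) (fun a a' s => rfl) u43v
    (by
      intro a h
      apply Subtype.ext
      apply Equiv.ext
      intro s
      exact u43_v_inj (h s))
    (Subtype.val ⁻¹' ({u43s1, u43s2} : Set (Equiv.Perm (Fin 112))))
    Subgroup.closure_closure_coe_preimage
    (by
      rintro a (ha | ha)
      · refine ⟨⟨semW u43G1, u43_g1_mem⟩, fun s => ?_⟩
        show semW u43G1 • u43v s = u43v (a.1 s)
        rw [ha]
        exact u43_g1_v s
      · refine ⟨⟨semW u43G2, u43_g2_mem⟩, fun s => ?_⟩
        show semW u43G2 • u43v s = u43v (a.1 s)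
        rw [ha]
        exact u43_g2_v s)
    (by rw [u43_card, u43_card_eq])

/-- **The triple stabiliser is `PSU(4, 3)`.** -/
theorem u43_stab_psu (F : Type) [Field F] [Fintype F] (hF : Fintype.card F = 9) :
    Nonempty (↥u43H ≃* Cfsg.PSU 4 F 3) := by
  obtain ⟨e⟩ := u43_iso
  obtain ⟨e'⟩ := u43_psu_iso' F hF
  exact ⟨e.trans e'⟩

end Cfsg.Agent.Helper26
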